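import Cfsg.Agent.Lib.CoprimeZJ.Orbit

/-!
Normalised opposite pairs: projections, weights and the torus.
* `Frame X a b`, `exists_frame`, `Frame.symm`
* `Frame.tor` : acts by `t`, `1`, `t⁻¹` on `range A`, the common kernel, `range B`
* `Frame.comp_mem` : the components of weight `0, ±1` lie in every space containing all translates
* `inG_span` : combinations of members with vanishing products are members
-/

set_option autoImplicit false
set_option linter.unusedSectionVars false

namespace Cfsg.Agent.EquivZJ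

open Cfsg Module Cfsg.Agent.QuadRoot Cfsg.Agent.CoprimeZJ

universe u v

variable {k : Type u} [Field k] {M : Type v} [AddCommGroup M] [Module k M]
  {X : Subgroup (LinearMap.GeneralLinearGroup k M)} {a b x y : Module.End k M} {t : k}

/-- A normalised pair of representatives of two opposite classes. -/
structure Frame (X : Subgroup (LinearMap.GeneralLinearGroup k M)) (a b : Module.End k M) where
  /-- the representative of the class of `a` -/
  A : Module.End k M
  /-- the representative of the class of `b` -/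
  B : Module.End k M
  clA : SameClass X a A
  clB : SameClass X b B
  aba : A * B * A = A
  bab : B * A * B = B

theorem exists_frame [FiniteDimensional k M] (hk2 : ringChar k ≠ 2) (hk3 : Nat.card k ≠ 3) (ha : Dmin X a)
    (hb : Dmin X b) (ho : Opp a b) : Nonempty (Frame X a b) := by
  obtain ⟨n, z, -, hz, h1, h2, -, -⟩ := exists_swap hk2 hk3 ha hb ho (SameClass.refl ha)
  exact ⟨⟨a, z, SameClass.refl ha, hz, h1, h2⟩⟩

namespace Frame

variable (F : Frame X a b)

/-- The reversed frame. -/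
def symm : Frame X b a := ⟨F.B, F.A, F.clB, F.clA, F.bab, F.aba⟩

/-- The projection on `range A`. -/
def eA : Module.End k M := F.A * F.B
/-- The projection on `range B`. -/
def eB : Module.End k M := F.B * F.A
/-- The projection on the common kernel. -/
def eO : Module.End k M := 1 - F.eA - F.eB

@[simp] theorem symm_eA : F.symm.eA = F.eB := rfl
@[simp] theorem symm_eB : F.symm.eB = F.eA := rfl
@[simp] theorem symm_eO : F.symm.eO = F.eO := by simp only [eO, symm_eA, symm_eB]; abel
@[simp] theorem symm_A : F.symm.A = F.B := rfl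
@[simp] theorem symm_B : F.symm.B = F.A := rfl
@[simp] theorem symm_symm : F.symm.symm = F := rfl

theorem sum_eq : F.eA + F.eO + F.eB = 1 := by unfold eO; abel

theorem AA : F.A * F.A = 0 := F.clA.dmin.inG.sq
theorem BB : F.B * F.B = 0 := F.clB.dmin.inG.sq

@[simp] theorem A_A : F.A * F.A = 0 := F.AA
@[simp] theorem B_B : F.B * F.B = 0 := F.BB
@[simp] theorem A_A' (y : Module.End k M) : F.A * (F.A * y) = 0 := by rw [← mul_assoc, F.AA, zero_mul]
@[simp] theorem B_B' (y : Module.End k M) : F.B * (F.B * y) = 0 := by rw [← mul_assoc, F.BB, zero_mul]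
theorem A_B : F.A * F.B = F.eA := rfl
theorem B_A : F.B * F.A = F.eB := rfl

@[simp] theorem eA_A : F.eA * F.A = F.A := F.aba
@[simp] theorem A_eA : F.A * F.eA = 0 := by simp [eA]
@[simp] theorem eB_A : F.eB * F.A = 0 := by simp [eB, mul_assoc]
@[simp] theorem A_eB : F.A * F.eB = F.A := by rw [eB, ← mul_assoc]; exact F.aba
@[simp] theorem eB_B : F.eB * F.B = F.B := F.bab
@[simp] theorem B_eB : F.B * F.eB = 0 := by simp [eB]
@[simp] theorem eA_B : F.eA * F.B = 0 := by simp [eA, mul_assoc]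
@[simp] theorem B_eA : F.B * F.eA = F.B := by rw [eA, ← mul_assoc]; exact F.bab
@[simp] theorem eA_eA : F.eA * F.eA = F.eA := by
  conv_lhs => enter [2]; rw [eA]
  rw [← mul_assoc, F.eA_A]; rfl
@[simp] theorem eB_eB : F.eB * F.eB = F.eB := F.symm.eA_eA
@[simp] theorem eA_eB : F.eA * F.eB = 0 := by
  conv_lhs => enter [2]; rw [eB]
  rw [← mul_assoc, F.eA_B, zero_mul]
@[simp] theorem eB_eA : F.eB * F.eA = 0 := F.symm.eA_eB
@[simp] theorem eA_eO : F.eA * F.eO = 0 := by simp [eO, mul_sub]
@[simp] theorem eO_eA : F.eO * F.eA = 0 := by simp [eO, sub_mul]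
@[simp] theorem eB_eO : F.eB * F.eO = 0 := by simp [eO, mul_sub]
@[simp] theorem eO_eB : F.eO * F.eB = 0 := by simp [eO, sub_mul]
@[simp] theorem eO_eO : F.eO * F.eO = F.eO := by
  conv_lhs => enter [2]; rw [eO]
  simp [mul_sub]
@[simp] theorem A_eO : F.A * F.eO = 0 := by simp [eO, mul_sub]
@[simp] theorem eO_A : F.eO * F.A = 0 := by simp [eO, sub_mul]
@[simp] theorem B_eO : F.B * F.eO = 0 := by simp [eO, mul_sub]
@[simp] theorem eO_B : F.eO * F.B = 0 := by simp [eO, sub_mul]

@[simp] theorem eA_A' (y : Module.End k M) : F.eA * (F.A * y) = F.A * y := by rw [← mul_assoc, eA_A]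
@[simp] theorem A_eA' (y : Module.End k M) : F.A * (F.eA * y) = 0 := by rw [← mul_assoc, A_eA, zero_mul]
@[simp] theorem eB_A' (y : Module.End k M) : F.eB * (F.A * y) = 0 := by rw [← mul_assoc, eB_A, zero_mul]
@[simp] theorem A_eB' (y : Module.End k M) : F.A * (F.eB * y) = F.A * y := by rw [← mul_assoc, A_eB]
@[simp] theorem eB_B' (y : Module.End k M) : F.eB * (F.B * y) = F.B * y := by rw [← mul_assoc, eB_B]
@[simp] theorem B_eB' (y : Module.End k M) : F.B * (F.eB * y) = 0 := by rw [← mul_assoc, B_eB, zero_mul]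
@[simp] theorem eA_B' (y : Module.End k M) : F.eA * (F.B * y) = 0 := by rw [← mul_assoc, eA_B, zero_mul]
@[simp] theorem B_eA' (y : Module.End k M) : F.B * (F.eA * y) = F.B * y := by rw [← mul_assoc, B_eA]
@[simp] theorem eA_eA' (y : Module.End k M) : F.eA * (F.eA * y) = F.eA * y := by rw [← mul_assoc, eA_eA]
@[simp] theorem eB_eB' (y : Module.End k M) : F.eB * (F.eB * y) = F.eB * y := by rw [← mul_assoc, eB_eB]
@[simp] theorem eO_eO' (y : Module.End k M) : F.eO * (F.eO * y) = F.eO * y := by rw [← mul_assoc, eO_eO]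
@[simp] theorem eA_eB' (y : Module.End k M) : F.eA * (F.eB * y) = 0 := by rw [← mul_assoc, eA_eB, zero_mul]
@[simp] theorem eB_eA' (y : Module.End k M) : F.eB * (F.eA * y) = 0 := by rw [← mul_assoc, eB_eA, zero_mul]
@[simp] theorem eA_eO' (y : Module.End k M) : F.eA * (F.eO * y) = 0 := by rw [← mul_assoc, eA_eO, zero_mul]
@[simp] theorem eO_eA' (y : Module.End k M) : F.eO * (F.eA * y) = 0 := by rw [← mul_assoc, eO_eA, zero_mul]
@[simp] theorem eB_eO' (y : Module.End k M) : F.eB * (F.eO * y) = 0 := by rw [← mul_assoc, eB_eO, zero_mul]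
@[simp] theorem eO_eB' (y : Module.End k M) : F.eO * (F.eB * y) = 0 := by rw [← mul_assoc, eO_eB, zero_mul]
@[simp] theorem A_eO' (y : Module.End k M) : F.A * (F.eO * y) = 0 := by rw [← mul_assoc, A_eO, zero_mul]
@[simp] theorem eO_A' (y : Module.End k M) : F.eO * (F.A * y) = 0 := by rw [← mul_assoc, eO_A, zero_mul]
@[simp] theorem B_eO' (y : Module.End k M) : F.B * (F.eO * y) = 0 := by rw [← mul_assoc, B_eO, zero_mul]
@[simp] theorem eO_B' (y : Module.End k M) : F.eO * (F.B * y) = 0 := by rw [← mul_assoc, eO_B, zero_mul]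

/-- The component of weight `0`. -/
def w0 (x : Module.End k M) : Module.End k M := F.eA * x * F.eA + F.eO * x * F.eO + F.eB * x * F.eB
/-- The component of weight `1`. -/
def w1 (x : Module.End k M) : Module.End k M := F.eA * x * F.eO + F.eO * x * F.eB
/-- The component of weight `-1`. -/
def wn (x : Module.End k M) : Module.End k M := F.eO * x * F.eA + F.eB * x * F.eO
/-- The component of weight `2`. -/
def w2 (x : Module.End k M) : Module.End k M := F.eA * x * F.eB
/-- The component of weight `-2`. -/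
def wm2 (x : Module.End k M) : Module.End k M := F.eB * x * F.eA

theorem decomp (x : Module.End k M) : x = F.w0 x + F.w1 x + F.wn x + F.w2 x + F.wm2 x := by
  conv_lhs => rw [← one_mul x, ← mul_one (1 * x), ← F.sum_eq]
  simp only [w0, w1, wn, w2, wm2, add_mul, mul_add]
  abel

@[simp] theorem symm_w1 (x : Module.End k M) : F.symm.w1 x = F.wn x := by simp [w1, wn]; abel
@[simp] theorem symm_wn (x : Module.End k M) : F.symm.wn x = F.w1 x := by simp [w1, wn]; abel
@[simp] theorem symm_w0 (x : Module.End k M) : F.symm.w0 x = F.w0 x := by simp [w0]; abel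
@[simp] theorem symm_w2 (x : Module.End k M) : F.symm.w2 x = F.wm2 x := rfl
@[simp] theorem symm_wm2 (x : Module.End k M) : F.symm.wm2 x = F.w2 x := rfl

/-- The torus element of `t`. -/
noncomputable def tor (t : k) : LinearMap.GeneralLinearGroup k M :=
  ex (t • F.A) * ex (-(t⁻¹ • F.B)) * ex (t • F.A) * (ex (-F.A) * ex F.B * ex (-F.A))

theorem coe_swap (ht : t ≠ 0) :
    ((ex (t • F.A) * ex (-(t⁻¹ • F.B)) * ex (t • F.A) : LinearMap.GeneralLinearGroup k M) : Module.End k M)
      = F.eO + t • F.A - t⁻¹ • F.B := by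
  rw [Units.val_mul, Units.val_mul, coe_ex (smul_sq F.AA t t), coe_ex (neg_sq' (smul_sq F.BB _ _))]
  simp only [add_mul, mul_add, one_mul, mul_one, smul_mul_assoc, mul_smul_comm, mul_neg, neg_mul, smul_smul,
    smul_neg, smul_add, A_A, smul_zero, add_zero, zero_add, inv_mul_cancel₀ ht, mul_inv_cancel₀ ht, one_smul,
    A_B, B_A, eA_A, A_eB]
  unfold eO
  match_scalars <;> field_simp <;> ring

theorem coe_tor (ht : t ≠ 0) : (F.tor t : Module.End k M) = t • F.eA + F.eO + t⁻¹ • F.eB := by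
  have h1 := F.coe_swap (neg_ne_zero.2 (one_ne_zero (α := k)))
  rw [inv_neg, inv_one, neg_one_smul, neg_one_smul, neg_neg] at h1
  rw [tor, Units.val_mul, F.coe_swap ht, h1]
  simp only [add_mul, sub_mul, mul_add, mul_sub, smul_mul_assoc, eO_eO, eO_A, eO_B, A_eO, B_eO, A_A, B_B,
    A_B, B_A, smul_zero, sub_zero, add_zero, zero_sub, zero_add, neg_neg, sub_neg_eq_add, mul_neg, smul_neg,
    neg_zero]
  abel

theorem tor_mul {s : k} (ht : t ≠ 0) (hs : s ≠ 0) : F.tor (t * s) = F.tor t * F.tor s := by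
  refine Units.ext ?_
  rw [Units.val_mul, F.coe_tor ht, F.coe_tor hs, F.coe_tor (mul_ne_zero ht hs)]
  simp [add_mul, mul_add, smul_mul_assoc, mul_smul_comm, smul_smul, mul_inv_rev, mul_comm]

theorem tor_one : F.tor 1 = 1 := by
  refine Units.ext ?_
  rw [F.coe_tor one_ne_zero, inv_one, one_smul, one_smul, Units.val_one, F.sum_eq]

theorem tor_inv (ht : t ≠ 0) : (F.tor t)⁻¹ = F.tor t⁻¹ := by
  refine inv_eq_of_mul_eq_one_right ?_
  rw [← F.tor_mul ht (inv_ne_zero ht), mul_inv_cancel₀ ht, tor_one]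

theorem cj_tor (ht : t ≠ 0) (x : Module.End k M) :
    cj (F.tor t) x = F.w0 x + t • F.w1 x + t⁻¹ • F.wn x + (t * t) • F.w2 x + (t⁻¹ * t⁻¹) • F.wm2 x := by
  rw [cj, F.tor_inv ht, F.coe_tor ht, F.coe_tor (inv_ne_zero ht), inv_inv]
  simp only [w0, w1, wn, w2, wm2, add_mul, mul_add, smul_mul_assoc, mul_smul_comm, smul_smul, smul_add,
    inv_mul_cancel₀ ht, mul_inv_cancel₀ ht, one_smul]
  abel

theorem comp_mem (h2 : (2 : k) ≠ 0) (h3 : (3 : k) ≠ 0) {S : Submodule k (Module.End k M)}
    (hS : ∀ t : k, t ≠ 0 → cj (F.tor t) x ∈ S) : F.w0 x ∈ S ∧ F.w1 x ∈ S ∧ F.wn x ∈ S := by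
  have hm2 : (-2 : k) ≠ 0 := neg_ne_zero.2 h2
  have hm1 : (-1 : k) ≠ 0 := neg_ne_zero.2 one_ne_zero
  have hh : (2 : k)⁻¹ ≠ 0 := inv_ne_zero h2
  have h6 : (6 : k) ≠ 0 := by rw [show (6 : k) = 2 * 3 by norm_num]; exact mul_ne_zero h2 h3
  have h18 : (-18 : k) ≠ 0 := by rw [show (-18 : k) = -(2 * (3 * 3)) by norm_num]; simp [h2, h3]
  set f := fun t : k => cj (F.tor t) x
  have e1 : (2 : k) • (f 2 - f (-2)) - (f 1 - f (-1)) = (6 : k) • F.w1 x := by
    simp only [f, F.cj_tor h2, F.cj_tor hm2, F.cj_tor one_ne_zero, F.cj_tor hm1]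
    match_scalars <;> field_simp <;> ring
  have e0 : (4 : k) • ((f 2 + f (-2)) + (f 2⁻¹ + f (-2⁻¹))) - (17 : k) • (f 1 + f (-1)) = (-18 : k) • F.w0 x := by
    simp only [f, F.cj_tor h2, F.cj_tor hm2, F.cj_tor one_ne_zero, F.cj_tor hm1, F.cj_tor hh,
      F.cj_tor (neg_ne_zero.2 hh)]
    match_scalars <;> field_simp <;> ring
  have en : (f 1 - f (-1)) - (2 : k) • F.w1 x = (2 : k) • F.wn x := by
    simp only [f, F.cj_tor one_ne_zero, F.cj_tor hm1]
    match_scalars <;> field_simp <;> ring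
  have hf : ∀ t, t ≠ 0 → f t ∈ S := hS
  have d : ∀ t, t ≠ 0 → f t - f (-t) ∈ S := fun t ht => sub_mem (hf t ht) (hf _ (neg_ne_zero.2 ht))
  have g : ∀ t, t ≠ 0 → f t + f (-t) ∈ S := fun t ht => add_mem (hf t ht) (hf _ (neg_ne_zero.2 ht))
  have m1 : F.w1 x ∈ S := by
    rw [← S.smul_mem_iff h6, ← e1]
    exact sub_mem (S.smul_mem _ (d 2 h2)) (d 1 one_ne_zero)
  refine ⟨?_, m1, ?_⟩
  · rw [← S.smul_mem_iff h18, ← e0]
    exact sub_mem (S.smul_mem _ (add_mem (g 2 h2) (g _ hh))) (S.smul_mem _ (g 1 one_ne_zero))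
  · rw [← S.smul_mem_iff h2, ← en]
    exact sub_mem (d 1 one_ne_zero) (S.smul_mem _ m1)

theorem tor_mem_sup [FiniteDimensional k M] (ha : Dmin X a) (hb : Dmin X b) (t : k) :
    F.tor t ∈ cl X a ⊔ cl X b := by
  have hA : ∀ s : k, ex (s • F.A) ∈ cl X a := fun s => by
    rcases eq_or_ne s 0 with rfl | hs
    · rw [zero_smul, ex_zero]; exact one_mem _
    · exact ex_mem_sameActionSubgroup ha (F.clA.smul hs)
  have hB : ∀ s : k, ex (s • F.B) ∈ cl X b := fun s => by
    rcases eq_or_ne s 0 with rfl | hs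
    · rw [zero_smul, ex_zero]; exact one_mem _
    · exact ex_mem_sameActionSubgroup hb (F.clB.smul hs)
  unfold tor
  refine mul_mem (mul_mem (mul_mem (Subgroup.mem_sup_left (hA t)) ?_) (Subgroup.mem_sup_left (hA t)))
    (mul_mem (mul_mem ?_ ?_) ?_)
  · rw [← neg_smul]; exact Subgroup.mem_sup_right (hB _)
  · rw [← neg_one_smul k F.A]; exact Subgroup.mem_sup_left (hA _)
  · rw [← one_smul k F.B]; exact Subgroup.mem_sup_right (hB _)
  · rw [← neg_one_smul k F.A]; exact Subgroup.mem_sup_left (hA _)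

theorem tor_mem [FiniteDimensional k M] (ha : Dmin X a) (hb : Dmin X b) (t : k) : F.tor t ∈ X :=
  sup_le (sameActionSubgroup_le ha) (sameActionSubgroup_le hb) (F.tor_mem_sup ha hb t)

/-- The torus as a homomorphism. -/
noncomputable def torHom : kˣ →* LinearMap.GeneralLinearGroup k M where
  toFun t := F.tor t
  map_one' := F.tor_one
  map_mul' t s := F.tor_mul t.ne_zero s.ne_zero

theorem torHom_coprime [Finite k] {p : ℕ} [hp : Fact p.Prime] [CharP k p] :
    (Nat.card (F.torHom.range)).Coprime p := by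
  refine Nat.Coprime.coprime_dvd_left (Subgroup.card_range_dvd F.torHom) ?_
  haveI := Fintype.ofFinite k
  obtain ⟨n, -, hn⟩ := FiniteField.card k p
  rw [Nat.card_units, Nat.card_eq_fintype_card, hn, Nat.coprime_comm, hp.out.coprime_iff_not_dvd]
  intro h
  have h1 : p ∣ p ^ (n : ℕ) := dvd_pow_self p n.pos.ne'
  have h2 := Nat.dvd_sub h1 h
  rw [Nat.sub_sub_self (Nat.one_le_pow _ _ hp.out.pos)] at h2
  exact hp.out.not_dvd_one h2

end Frame

theorem inG_span {S : Set (Module.End k M)} (hS : ∀ x ∈ S, InG X x) (hz : ∀ x ∈ S, ∀ y ∈ S, x * y = 0)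
    (hx : x ∈ Submodule.span k S) : InG X x := by
  have hzl : ∀ y ∈ S, ∀ x ∈ Submodule.span k S, x * y = 0 ∧ y * x = 0 := by
    intro y hy x hx
    induction hx using Submodule.span_induction with
    | mem d hd => exact ⟨hz d hd y hy, hz y hy d hd⟩
    | zero => simp
    | add c d _ _ hc hd => rw [add_mul, mul_add, hc.1, hd.1, hc.2, hd.2]; simp
    | smul s c _ hc => rw [smul_mul_assoc, mul_smul_comm, hc.1, hc.2]; simp
  have hzz : ∀ x ∈ Submodule.span k S, ∀ y ∈ Submodule.span k S, x * y = 0 := by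
    intro x hx y hy
    induction hy using Submodule.span_induction with
    | mem d hd => exact (hzl d hd x hx).1
    | zero => simp
    | add c d _ _ hc hd => rw [mul_add, hc, hd, add_zero]
    | smul s c _ hc => rw [mul_smul_comm, hc, smul_zero]
  induction hx using Submodule.span_induction with
  | mem d hd => exact hS d hd
  | zero => exact InG.zero
  | add c d hc hd hc' hd' => exact hc'.add hd' (hzz c hc d hd) (hzz d hd c hc)
  | smul s c _ hc => exact hc.smul s

end Cfsg.Agent.EquivZJ
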