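import Cfsg.Agent.Lib.EquivZJ.Main
import Cfsg.Agent.Lib.Coprime.Abelian
import Cfsg.Agent.Lib.KInfinity.Replace
import Cfsg.Agent.Lib.KInfinity.Functor
import Cfsg.Agent.Lib.PGroup.Critical
import Cfsg.Agent.Lib.Symplectic.GFit
import Cfsg.Agent.Lib.FunctorControl.Engel
import Mathlib.GroupTheory.SemidirectProduct

/-!
The equivariant ZJ-type theorem for the intersection of the invariant Sylow subgroups.
* `quadratic_acts_trivially` : on a chief factor of `G⋊R` a quadratic element of all invariant Sylow subgroups is trivial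
* `semidirect_centralizer_le`
* `kInfLower_normal`
-/

set_option autoImplicit false
set_option linter.unusedSectionVars false
set_option linter.style.haveILetI false

namespace Cfsg.Agent.EquivZJ

open Cfsg Module Cfsg.Agent.QuadRoot Cfsg.Agent.CoprimeZJ
open scoped commutatorElement

universe u

theorem quadratic_acts_trivially {Γ : Type u} [Group Γ] [Finite Γ] {p : ℕ} [hp : Fact p.Prime] (hp5 : 5 ≤ p)
    {G' R' U V : Subgroup Γ} (hR : R' ≤ Subgroup.normalizer (G' : Set Γ)) (hgen : G' ⊔ R' = ⊤)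
    (hcop : (Nat.card R').Coprime (Nat.card G')) {g : Γ} (hg : g ∈ G') (hall : InAll p G' R' g)
    (hUV : IsChiefFactor U V) (hUp : IsPGroup p U)
    (hq : ⁅⁅U, Subgroup.zpowers g⁆, Subgroup.zpowers g⁆ ≤ V) : ⁅U, Subgroup.zpowers g⁆ ≤ V := by
  classical
  obtain ⟨hlt, hUn, hVn, hmax⟩ := hUV
  haveI := hUn
  haveI := hVn
  set π := QuotientGroup.mk' V with hπ
  set W := U.map π with hW
  haveI hWn : W.Normal := hUn.map π (QuotientGroup.mk'_surjective V)
  have hab : ⁅U, U⁆ ≤ V := KInfinity.commutator_le_of_chief ⟨hlt, hUn, hVn, hmax⟩ hUp hUp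
  have hpow := FunctorControl.pow_mem_of_chief ⟨hlt, hUn, hVn, hmax⟩ hUp hab
  letI : CommGroup W :=
    { (inferInstance : Group W) with
      mul_comm := by
        rintro ⟨_, x, hx, rfl⟩ ⟨_, y, hy, rfl⟩
        refine Subtype.ext ((commutatorElement_eq_one_iff_commute.1 ?_).eq)
        rw [← map_commutatorElement]
        exact (QuotientGroup.eq_one_iff _).2 (hab (Subgroup.commutator_mem_commutator hx hy)) }
  have hexp : ∀ v : Additive W, p • v = 0 := by
    intro v
    induction v using Additive.rec with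
    | _ v =>
      obtain ⟨_, x, hx, rfl⟩ := v
      rw [← ofMul_pow, ← ofMul_one]
      congr 1
      refine Subtype.ext ?_
      rw [Subgroup.coe_pow, ← map_pow]
      exact (QuotientGroup.eq_one_iff _).2 (hpow x hx)
  letI : Module (ZMod p) (Additive W) := AddCommGroup.zmodModule (n := p) hexp
  haveI : Finite (Additive W) := inferInstanceAs (Finite W)
  haveI : FiniteDimensional (ZMod p) (Additive W) := Module.Finite.of_finite
  let el : ∀ x ∈ U, Additive W := fun x hx => Additive.ofMul ⟨π x, Subgroup.mem_map_of_mem π hx⟩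
  have hel : ∀ v : Additive W, ∃ x, ∃ hx : x ∈ U, v = el x hx := fun v => by
    obtain ⟨x, hx, hxv⟩ := (Additive.toMul v).2
    exact ⟨x, hx, Subtype.ext hxv.symm⟩
  have hcj : ∀ (y : Γ), ∀ x ∈ U, y * x * y⁻¹ ∈ U := fun y x hx => hUn.conj_mem x hx y
  let ρ₀ : Γ →* Module.End (ZMod p) (Additive W) :=
    { toFun := fun y => (MonoidHom.toAdditive (MulAut.conjNormal (H := W) (π y)).toMonoidHom).toZModLinearMap p
      map_one' := LinearMap.ext fun v => by
        show Additive.ofMul (MulAut.conjNormal (H := W) (π 1) (Additive.toMul v)) = v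
        rw [map_one, map_one]; rfl
      map_mul' := fun y z => LinearMap.ext fun v => by
        show Additive.ofMul (MulAut.conjNormal (H := W) (π (y * z)) (Additive.toMul v)) =
          Additive.ofMul (MulAut.conjNormal (H := W) (π y) (MulAut.conjNormal (H := W) (π z) (Additive.toMul v)))
        rw [map_mul, map_mul]; rfl }
  have hρ : ∀ (y x : Γ) (hx : x ∈ U), ρ₀ y (el x hx) = el (y * x * y⁻¹) (hcj y x hx) := by
    intro y x hx
    refine Subtype.ext ?_
    show ((MulAut.conjNormal (H := W) (π y) ⟨π x, Subgroup.mem_map_of_mem π hx⟩ : W) : Γ ⧸ V) = π (y * x * y⁻¹)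
    rw [MulAut.conjNormal_apply, map_mul, map_mul, map_inv]
  let f : (⊤ : Subgroup Γ) →* LinearMap.GeneralLinearGroup (ZMod p) (Additive W) :=
    ρ₀.toHomUnits.comp (⊤ : Subgroup Γ).subtype
  set X := (imageHom f (le_top : G' ≤ ⊤)).range
  set B := (imageHom f (le_top : R' ≤ ⊤)).range
  have hBX : B ≤ Subgroup.normalizer (X : Set _) := imageHom_range_normalizer f le_top le_top hR
  have hc : (Nat.card B).Coprime (Nat.card X) :=
    (hcop.coprime_dvd_left (Subgroup.card_range_dvd _)).coprime_dvd_right (Subgroup.card_range_dvd _)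
  set t := f ⟨g, trivial⟩ with ht
  have hsub : ∀ (x : Γ) (hx : x ∈ U), ((t : Module.End (ZMod p) (Additive W)) - 1) (el x hx) =
      el ⁅g, x⁆ (mul_mem (hcj g x hx) (inv_mem hx)) := by
    intro x hx
    rw [LinearMap.sub_apply, Module.End.one_apply]
    show ρ₀ g (el x hx) - el x hx = _
    rw [hρ g x hx, sub_eq_iff_eq_add]
    refine Subtype.ext ?_
    show π (g * x * g⁻¹) = π ⁅g, x⁆ * π x
    rw [← map_mul, commutatorElement_def, inv_mul_cancel_right]
  have hsq : ((t : Module.End (ZMod p) (Additive W)) - 1) * ((t : Module.End (ZMod p) (Additive W)) - 1) = 0 := by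
    refine LinearMap.ext fun v => ?_
    obtain ⟨x, hx, rfl⟩ := hel v
    rw [Module.End.mul_apply, hsub x hx, hsub ⁅g, x⁆ (mul_mem (hcj g x hx) (inv_mem hx))]
    refine Subtype.ext ((QuotientGroup.eq_one_iff _).2 ?_)
    rw [← commutatorElement_inv]
    refine inv_mem (hq (Subgroup.commutator_mem_commutator ?_ (Subgroup.mem_zpowers g)))
    rw [← commutatorElement_inv]
    exact inv_mem (Subgroup.commutator_mem_commutator hx (Subgroup.mem_zpowers g))
  have hmem := mem_pCore_of_quadratic (p := p) hp5 _ _ X B t rfl rfl hBX hc ⟨⟨g, hg⟩, rfl⟩ hsq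
    (hall.map f le_top le_top hg hR hcop)
  have hred : Reduced X := reduced_of_irreducible_normalizer hBX fun W₀ hWX hWB => by
    have hst : ∀ y : Γ, ∀ v ∈ W₀, ρ₀ y v ∈ W₀ := by
      have : (⊤ : Subgroup Γ) ≤ (stabSub W₀).comap ρ₀.toHomUnits := hgen.ge.trans (sup_le
        (fun y hy v hv => hWX _ ⟨⟨y, hy⟩, rfl⟩ ⟨v, hv, rfl⟩) fun y hy v hv => hWB _ ⟨⟨y, hy⟩, rfl⟩ ⟨v, hv, rfl⟩)
      exact fun y v hv => this (Subgroup.mem_top y) v hv
    let K : Subgroup Γ :=
      { carrier := {x | ∃ hx : x ∈ U, el x hx ∈ W₀}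
        one_mem' := ⟨one_mem U, by rw [show el 1 (one_mem U) = 0 from Subtype.ext (map_one π)]; exact W₀.zero_mem⟩
        mul_mem' := fun {x y} ⟨hx, hx'⟩ ⟨hy, hy'⟩ => ⟨mul_mem hx hy, by
          rw [show el (x * y) (mul_mem hx hy) = el x hx + el y hy from Subtype.ext (map_mul π x y)]
          exact W₀.add_mem hx' hy'⟩
        inv_mem' := fun {x} ⟨hx, hx'⟩ => ⟨inv_mem hx, by
          rw [show el x⁻¹ (inv_mem hx) = -el x hx from Subtype.ext (map_inv π x)]
          exact W₀.neg_mem hx'⟩ }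
    have hKn : K.Normal := ⟨fun x ⟨hx, hx'⟩ y => ⟨hcj y x hx, by
      have := hst y _ hx'
      rwa [hρ y x hx] at this⟩⟩
    rcases hmax K hKn (fun x hx => ⟨hlt.le hx, by
      rw [show el x (hlt.le hx) = 0 from Subtype.ext ((QuotientGroup.eq_one_iff x).2 hx)]; exact W₀.zero_mem⟩)
      (fun x hx => hx.1) with h | h
    · refine Or.inl ((Submodule.eq_bot_iff _).2 fun v hv => ?_)
      obtain ⟨x, hx, rfl⟩ := hel v
      have hxV : x ∈ V := h ▸ (⟨hx, hv⟩ : x ∈ K)
      exact Subtype.ext ((QuotientGroup.eq_one_iff x).2 hxV)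
    · refine Or.inr (eq_top_iff.2 fun v _ => ?_)
      obtain ⟨x, hx, rfl⟩ := hel v
      exact (h.ge hx).2
  rw [hred _ (Subgroup.map_subtype_le _) (isUnipotentOn_of_isPGroup ((Cores.isPGroup_pCore p X).map _)) fun y hy =>
    RankOne.conjBy_of_mem_normalizer (Cores.normalizer_le_normalizer_map (Cfsg.pCore p X)
      (Subgroup.le_normalizer hy)), Subgroup.mem_bot] at hmem
  refine Subgroup.commutator_le.2 fun x hx y hy => ?_
  obtain ⟨n, rfl⟩ := hy
  have h1 : ρ₀.toHomUnits (g ^ n) = 1 := by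
    rw [map_zpow]
    show t ^ n = 1
    rw [hmem, one_zpow]
  have h2 : ρ₀ (g ^ n) (el x hx) = el x hx := by
    rw [show ρ₀ (g ^ n) = 1 from congrArg Units.val h1]; rfl
  rw [hρ _ x hx] at h2
  have h3 : π (g ^ n * x * (g ^ n)⁻¹) = π x := congrArg (fun v : Additive W => ((Additive.toMul v : W) : Γ ⧸ V)) h2
  rw [← QuotientGroup.eq_one_iff]
  show π ⁅x, g ^ n⁆ = 1
  rw [show ⁅x, g ^ n⁆ = x * (g ^ n * x * (g ^ n)⁻¹)⁻¹ by simp [commutatorElement_def, mul_assoc], map_mul, map_inv,
    h3, mul_inv_cancel]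

section Semidirect

variable {N : Type u} [Group N] [Finite N] {H : Subgroup (MulAut N)} {p : ℕ} [Fact p.Prime]

local notation "Γ" => SemidirectProduct N H H.subtype

theorem finite_semidirect : Finite Γ := Finite.of_equiv _ SemidirectProduct.equivProd.symm

theorem normal_map_inl (C : Subgroup N) [hC : C.Characteristic] : (C.map (SemidirectProduct.inl : N →* Γ)).Normal := by
  constructor
  rintro _ ⟨c, hc, rfl⟩ y
  haveI : C.Normal := Subgroup.normal_of_characteristic C
  refine ⟨y.left * H.subtype y.right c * y.left⁻¹, Subgroup.Normal.conj_mem inferInstance _ ?_ _, ?_⟩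
  · exact (Subgroup.characteristic_iff_map_le.1 hC (H.subtype y.right)) ⟨c, hc, rfl⟩
  · conv_rhs => rw [← SemidirectProduct.inl_left_mul_inr_right y]
    simp only [map_mul, map_inv, SemidirectProduct.inl_aut, mul_inv_rev, mul_assoc]

theorem pCore_semidirect (hH : (Nat.card H).Coprime p) :
    Cfsg.pCore p Γ = (Cfsg.pCore p N).map SemidirectProduct.inl := by
  haveI : Finite Γ := finite_semidirect
  refine le_antisymm ?_ (Cores.le_pCore (normal_map_inl _) ((Cores.isPGroup_pCore p N).map _))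
  intro y hy
  obtain ⟨n, hn⟩ := Cores.isPGroup_pCore p Γ ⟨y, hy⟩
  have h1 : y.right ^ p ^ n = 1 := by
    have h0 : y ^ p ^ n = 1 := congrArg Subtype.val hn
    have h0' : SemidirectProduct.rightHom (y ^ p ^ n) = 1 := by rw [h0, map_one]
    rwa [map_pow] at h0'
  have h2 : y.right = 1 := by
    have hd : orderOf y.right ∣ 1 := by
      rw [← Nat.Coprime.gcd_eq_one (hH.pow_right n)]
      exact Nat.dvd_gcd (orderOf_dvd_natCard _) (orderOf_dvd_of_pow_eq_one h1)
    exact orderOf_eq_one_iff.1 (Nat.dvd_one.1 hd)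
  have hy2 : y = SemidirectProduct.inl y.left := by
    conv_lhs => rw [← SemidirectProduct.inl_left_mul_inr_right y, h2, map_one, mul_one]
  refine ⟨y.left, Cores.le_pCore (N := (Cfsg.pCore p Γ).comap SemidirectProduct.inl) inferInstance
    ((Cores.isPGroup_pCore p Γ).comap_of_injective _ SemidirectProduct.inl_injective) ?_, hy2.symm⟩
  rw [Subgroup.mem_comap, ← hy2]; exact hy

theorem semidirect_centralizer_le (hH : (Nat.card H).Coprime p) (hHN : (Nat.card H).Coprime (Nat.card N))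
    (hC : Subgroup.centralizer ((Cfsg.pCore p N : Subgroup N) : Set N) ≤ Cfsg.pCore p N) :
    Subgroup.centralizer ((Cfsg.pCore p Γ : Subgroup Γ) : Set Γ) ≤ Cfsg.pCore p Γ := by
  haveI : Finite Γ := finite_semidirect
  rw [pCore_semidirect hH]
  set T := (Cfsg.pCore p N).map (SemidirectProduct.inl : N →* Γ)
  haveI hTn : T.Normal := normal_map_inl _
  have hin : ∀ d : N, SemidirectProduct.inl d ∈ Subgroup.centralizer (T : Set Γ) → d ∈ Cfsg.pCore p N := fun d hd =>
    hC (Subgroup.mem_centralizer_iff.2 fun x hx => SemidirectProduct.inl_injective (by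
      simpa only [map_mul] using Subgroup.mem_centralizer_iff.1 hd _ ⟨x, hx, rfl⟩))
  intro y hy
  have hpp : p.Prime := Fact.out
  obtain ⟨a, m, hm, hord⟩ := Nat.exists_eq_pow_mul_and_not_dvd (orderOf_pos y).ne' p hpp.ne_one
  set z := y ^ p ^ a with hz
  have hzC : z ∈ Subgroup.centralizer (T : Set Γ) := pow_mem hy _
  have hzm : z ^ m = 1 := by rw [hz, ← pow_mul, ← hord, pow_orderOf_eq_one]
  have hmp : m.Coprime p := ((hpp.coprime_iff_not_dvd).2 hm).symm
  have hcomm : ∀ x : N, Commute z (SemidirectProduct.inl x) := by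
    intro x
    obtain ⟨d, hd⟩ : ∃ d : N, SemidirectProduct.inl d =
        (SemidirectProduct.inl x)⁻¹ * z * SemidirectProduct.inl x * z⁻¹ := by
      refine ⟨x⁻¹ * (z.left * H.subtype z.right x * z.left⁻¹), ?_⟩
      conv_rhs => rw [← SemidirectProduct.inl_left_mul_inr_right z]
      simp only [map_mul, map_inv, SemidirectProduct.inl_aut, mul_inv_rev, mul_assoc]
    have hdC : SemidirectProduct.inl d ∈ Subgroup.centralizer (T : Set Γ) := by
      rw [hd]
      refine mul_mem ?_ (inv_mem hzC)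
      have := (inferInstance : (Subgroup.centralizer (T : Set Γ)).Normal).conj_mem z hzC
        (SemidirectProduct.inl x)⁻¹
      rwa [inv_inv] at this
    have hdT : SemidirectProduct.inl d ∈ T := ⟨d, hin d hdC, rfl⟩
    have hzd : Commute z (SemidirectProduct.inl d) := (Subgroup.mem_centralizer_iff.1 hzC _ hdT).symm
    have hconj : z * SemidirectProduct.inl x * z⁻¹ = SemidirectProduct.inl x * SemidirectProduct.inl d := by
      rw [hd]; group
    have hpow : ∀ n : ℕ, z ^ n * SemidirectProduct.inl x * (z ^ n)⁻¹ =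
        SemidirectProduct.inl x * SemidirectProduct.inl d ^ n := by
      intro n
      induction n with
      | zero => simp
      | succ n ih =>
        calc z ^ (n + 1) * SemidirectProduct.inl x * (z ^ (n + 1))⁻¹
            = z * (z ^ n * SemidirectProduct.inl x * (z ^ n)⁻¹) * z⁻¹ := by rw [pow_succ']; group
          _ = z * SemidirectProduct.inl x * z⁻¹ * (z * SemidirectProduct.inl d ^ n * z⁻¹) := by rw [ih]; group
          _ = _ := by rw [hconj, (hzd.pow_right n).eq, mul_inv_cancel_right, mul_assoc, ← pow_succ']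
    have hdm : SemidirectProduct.inl d ^ m = (1 : Γ) := by simpa [hzm] using (hpow m).symm
    obtain ⟨k, hk⟩ := (Cores.isPGroup_pCore p N) ⟨d, hin d hdC⟩
    have hdk : d ^ p ^ k = 1 := congrArg Subtype.val hk
    have hdm' : d ^ m = 1 := SemidirectProduct.inl_injective (by rw [map_pow, hdm, map_one])
    have hd1 : d = 1 := orderOf_eq_one_iff.1 (Nat.eq_one_of_dvd_coprimes (hmp.pow_right k)
      (orderOf_dvd_of_pow_eq_one hdm') (orderOf_dvd_of_pow_eq_one hdk))
    rw [hd1, map_one, mul_one] at hconj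
    exact mul_inv_eq_iff_eq_mul.1 hconj
  -- the automorphism induced by `z` is trivial
  have hauto : ∀ x : N, z.left * H.subtype z.right x * z.left⁻¹ = x := fun x => by
    refine SemidirectProduct.inl_injective (φ := H.subtype) ?_
    have h1 : z * SemidirectProduct.inl x * z⁻¹ = SemidirectProduct.inl x := mul_inv_eq_iff_eq_mul.2 (hcomm x).eq
    conv_rhs => rw [← h1, ← SemidirectProduct.inl_left_mul_inr_right z]
    simp only [map_mul, map_inv, SemidirectProduct.inl_aut, mul_inv_rev, mul_assoc]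
  have hσ : (H.subtype z.right : MulAut N) = MulAut.conj z.left⁻¹ := MulEquiv.ext fun x => by
    rw [MulAut.conj_apply, inv_inv]
    conv_rhs => rw [← hauto x]
    group
  have hcen : z.left⁻¹ ∈ Subgroup.center N := by
    set h := z.left⁻¹
    have hk : h ^ Nat.card H ∈ Subgroup.center N := by
      have e : MulAut.conj (h ^ Nat.card H) = 1 := by
        rw [map_pow, ← hσ, ← map_pow, pow_card_eq_one', map_one]
      refine Subgroup.mem_center_iff.2 fun x => ?_
      have := DFunLike.congr_fun e x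
      rw [MulAut.conj_apply, MulAut.one_apply] at this
      exact (mul_inv_eq_iff_eq_mul.1 this).symm
    exact Coprime.mem_of_pow_mem (hHN.symm.coprime_dvd_left (orderOf_dvd_natCard h)) hk
  have hright : z.right = 1 := Subtype.ext (by
    change H.subtype z.right = 1
    rw [hσ]
    refine MulEquiv.ext fun x => ?_
    rw [MulAut.conj_apply, MulAut.one_apply, ← Subgroup.mem_center_iff.1 hcen x, mul_inv_cancel_right])
  have hyr : y.right = 1 := by
    have h1 : y.right ^ p ^ a = 1 := by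
      have h0 : SemidirectProduct.rightHom (y ^ p ^ a) = 1 := hright
      rwa [map_pow] at h0
    exact orderOf_eq_one_iff.1 (Nat.eq_one_of_dvd_coprimes (hH.pow_right a) (orderOf_dvd_natCard _)
      (orderOf_dvd_of_pow_eq_one h1))
  have hy2 : y = SemidirectProduct.inl y.left := by
    conv_lhs => rw [← SemidirectProduct.inl_left_mul_inr_right y, hyr, map_one, mul_one]
  exact ⟨y.left, hin _ (hy2 ▸ hy), hy2.symm⟩

end Semidirect

section Main

variable {X : Type u} [Group X] [Finite X]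

theorem kInfLower_normal (G R : Subgroup X) (r : ℕ) [Fact r.Prime] (hR : IsPGroup r ↥R)
    (hcop : (Nat.card ↥G).Coprime r) (hnorm : R ≤ Subgroup.normalizer (G : Set X)) (hG : G ≠ ⊥) (p : ℕ)
    [Fact p.Prime] (hp : 3 < p) (hF : Cfsg.generalizedFittingSubgroup ↥G = Cfsg.pCore p ↥G) (P : Subgroup X)
    (hP : P = ⨅ S : {S : Sylow p ↥G // ∀ a ∈ R, ((S : Subgroup ↥G).map G.subtype).map (MulAut.conj a).toMonoidHom
      = (S : Subgroup ↥G).map G.subtype}, ((S : Sylow p ↥G) : Subgroup ↥G).map G.subtype) :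
    IsPGroup p P ∧ P ≠ ⊥ ∧ G ≤ Subgroup.normalizer (((Cfsg.kInfLower ↥P).map P.subtype : Subgroup X) : Set X) := by
  classical
  have hpp : p.Prime := Fact.out
  have hp5 : 5 ≤ p := by
    rcases Nat.lt_or_ge p 5 with h | h
    · interval_cases p
      exact absurd hpp (by norm_num)
    · exact h
  set T := Cfsg.pCore p G
  have hCT : Subgroup.centralizer ((T : Subgroup G) : Set G) ≤ T := by
    rw [← hF]; exact Symplectic.centralizer_generalizedFitting_le G
  haveI : Nontrivial G := (Subgroup.nontrivial_iff_ne_bot G).2 hG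
  have hT0 : T ≠ ⊥ := fun h => by
    obtain ⟨x, hx⟩ := exists_ne (1 : G)
    exact hx (Subgroup.mem_bot.1 (h ▸ hCT (by rw [h]; simp [Subgroup.mem_centralizer_iff])))
  have hpG : p ∣ Nat.card G := by
    haveI : Nontrivial T := (Subgroup.nontrivial_iff_ne_bot T).2 hT0
    obtain ⟨n, hn, hcard⟩ := (Cores.isPGroup_pCore p G).nontrivial_iff_card.1 inferInstance
    exact (hcard ▸ dvd_pow_self p (by omega)).trans (Subgroup.card_subgroup_dvd_card T)
  have hrp : r ≠ p := fun h => by
    subst h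
    exact hpp.ne_one (Nat.eq_one_of_dvd_coprimes hcop hpG dvd_rfl)
  obtain ⟨e, he⟩ := IsPGroup.iff_card.1 hR
  have hcopR : (Nat.card R).Coprime (Nat.card G) := he ▸ (hcop.pow_right e).symm
  -- the family of invariant Sylow subgroups
  have hconv : ∀ S : Sylow p G, R ≤ Subgroup.normalizer (((S : Subgroup G).map G.subtype : Subgroup X) : Set X) →
      P ≤ (S : Subgroup G).map G.subtype := fun S hS => by
    rw [hP]
    exact iInf_le_of_le ⟨S, fun a ha => RankOne.conjBy_of_mem_normalizer (hS ha)⟩ le_rfl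
  obtain ⟨S₀, hS₀⟩ := Coprime.exists_invariant_sylow hnorm hcopR (solvable_of_coprime hcopR) p
  have hPG : P ≤ G := (hconv S₀ hS₀).trans (Subgroup.map_subtype_le _)
  have hPp : IsPGroup p P := (S₀.2.map G.subtype).to_le (hconv S₀ hS₀)
  have hTP : T.map G.subtype ≤ P := hP ▸ le_iInf fun S => Subgroup.map_mono (Cores.pCore_le_sylow S.1)
  have hP0 : P ≠ ⊥ := fun h => hT0 ((Subgroup.map_eq_bot_iff_of_injective _ G.subtype_injective).1
    (le_bot_iff.1 (hTP.trans h.le)))
  refine ⟨hPp, hP0, ?_⟩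
  -- the semidirect product
  set ψ := Coprime.conjAut hnorm
  set H := ψ.range
  let Γ := SemidirectProduct G H H.subtype
  haveI : Finite Γ := finite_semidirect
  let ι : G →* Γ := SemidirectProduct.inl
  have hHr : (Nat.card H).Coprime p := by
    refine Nat.Coprime.coprime_dvd_left (Subgroup.card_range_dvd ψ) ?_
    rw [he]
    exact ((Nat.coprime_primes Fact.out hpp).2 hrp).pow_left e
  have hHG : (Nat.card H).Coprime (Nat.card G) := hcopR.coprime_dvd_left (Subgroup.card_range_dvd ψ)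
  set P₀ := P.subgroupOf G
  set S := P₀.map ι
  let eP : P ≃* S := (Subgroup.subgroupOfEquivOfLe hPG).symm.trans
    (P₀.equivMapOfInjective ι SemidirectProduct.inl_injective)
  by_cases hN : (Cfsg.inducedFunctor Cfsg.kInfLower S).Normal
  · intro x hx
    refine Coprime.mem_normalizer_of_forall ?_
    rintro _ ⟨c, hc, rfl⟩
    have hcS : ((eP c : S) : Γ) ∈ Cfsg.inducedFunctor Cfsg.kInfLower S :=
      ⟨eP c, (KInfinity.map_kInfLower eP).le ⟨c, hc, rfl⟩, rfl⟩
    obtain ⟨s, hs, hse⟩ := hN.conj_mem _ hcS (ι ⟨x, hx⟩)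
    obtain ⟨c', hc', rfl⟩ := (KInfinity.map_kInfLower eP).ge hs
    refine ⟨c', hc', ?_⟩
    have h1 : ι ⟨c', hPG c'.2⟩ = ι (⟨x, hx⟩ * ⟨c, hPG c.2⟩ * (⟨x, hx⟩ : G)⁻¹) := by
      rw [map_mul, map_mul, map_inv]; exact hse
    exact congrArg Subtype.val (SemidirectProduct.inl_injective h1)
  exfalso
  -- a critical subgroup
  set T' := Cfsg.pCore p Γ
  have hT'eq : T' = T.map ι := pCore_semidirect hHr
  have hT'p : IsPGroup p T' := Cores.isPGroup_pCore p Γ
  obtain ⟨Hc, hHc⟩ := PGroup.exists_critical hT'p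
  haveI := hHc.char
  set A := Hc.map T'.subtype
  haveI hAn : A.Normal := Cores.map_subtype_normal_of_characteristic T' Hc
  have hAT : A ≤ T' := Subgroup.map_subtype_le Hc
  have hZmap : (Hc ⊓ Subgroup.centralizer (Hc : Set T')).map T'.subtype = A ⊓ Subgroup.centralizer (A : Set Γ) :=
    KInfinity.map_inf_centralizer Hc
  have hA1 : ∀ a ∈ A, a ^ p ∈ A ⊓ Subgroup.centralizer (A : Set Γ) := by
    rintro _ ⟨x, hx, rfl⟩
    exact hZmap.le ⟨x ^ p, ⟨pow_mem hx p, hHc.pow_mem x hx⟩, map_pow _ x p⟩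
  have hA3 : ⁅T', A⁆ ≤ A ⊓ Subgroup.centralizer (A : Set Γ) := by
    rw [Subgroup.commutator_comm]
    refine Subgroup.commutator_le.2 ?_
    rintro _ ⟨x, hx, rfl⟩ t ht
    exact hZmap.le ⟨⁅x, ⟨t, ht⟩⁆, hHc.comm_mem x hx ⟨t, ht⟩, rfl⟩
  have hA2 : ⁅A, A⁆ ≤ Subgroup.centralizer (A : Set Γ) :=
    ((Subgroup.commutator_mono hAT le_rfl).trans hA3).trans inf_le_right
  have hA5 : ∀ φ : MulAut ↥T', (orderOf φ).Coprime p → (∀ a : ↥T', (a : Γ) ∈ A → φ a = a) → φ = 1 :=
    fun φ hφ hfix => PGroup.aut_eq_one_of_fix_selfCentralizing hT'p hHc.self_centralizing hφ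
      fun x hx => hfix x ⟨x, hx, rfl⟩
  have hT'S : T' ≤ S := by
    rw [hT'eq]
    exact Subgroup.map_mono fun t ht => hTP ⟨t, ht, rfl⟩
  obtain ⟨g, hgS, -, -, -, hgC⟩ := KInfinity.exists_cubic_element_of_le S hT'S A hAT hA1 hA2 hA3 hA5 (Or.inl hN)
  obtain ⟨U, V, hUV, hUA, hq, hne⟩ := hgC (semidirect_centralizer_le hHr hHG hCT)
  set G' := ι.range
  set R' := (SemidirectProduct.inr : H →* Γ).range
  have hconj : ∀ (σ : H) (x : G), (SemidirectProduct.inr σ : Γ) * ι x * (SemidirectProduct.inr σ)⁻¹ =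
      ι (H.subtype σ x) := fun σ x => by rw [← map_inv]; exact (SemidirectProduct.inl_aut σ x).symm
  have hRn : R' ≤ Subgroup.normalizer (G' : Set Γ) := by
    rintro _ ⟨σ, rfl⟩
    refine Coprime.mem_normalizer_of_forall ?_
    rintro _ ⟨x, rfl⟩
    exact ⟨_, (hconj σ x).symm⟩
  have hgen : G' ⊔ R' = ⊤ := eq_top_iff.2 fun y _ => by
    rw [← SemidirectProduct.inl_left_mul_inr_right y]
    exact mul_mem (Subgroup.mem_sup_left ⟨_, rfl⟩) (Subgroup.mem_sup_right ⟨_, rfl⟩)
  have hc' : (Nat.card R').Coprime (Nat.card G') :=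
    (hHG.coprime_dvd_left (Subgroup.card_range_dvd _)).coprime_dvd_right (Subgroup.card_range_dvd _)
  have hgG' : g ∈ G' := (Subgroup.map_le_range ι P₀) hgS
  have hall : InAll p G' R' g := by
    intro Q hQ
    let e : G ≃* G' := MonoidHom.ofInjective SemidirectProduct.inl_injective
    let Q₀ : Sylow p G := Q.mapSurjective (f := e.symm.toMonoidHom) e.symm.surjective
    have hQ₀ : ∀ x : G, x ∈ (Q₀ : Subgroup G) ↔ e x ∈ (Q : Subgroup G') := fun x => by
      show x ∈ (Q : Subgroup G').map e.symm.toMonoidHom ↔ _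
      rw [Subgroup.mem_map_equiv, MulEquiv.symm_symm]
    have hinv : R ≤ Subgroup.normalizer (((Q₀ : Subgroup G).map G.subtype : Subgroup X) : Set X) := fun a ha => by
      refine Coprime.mem_normalizer_of_forall ?_
      rintro _ ⟨x, hx, rfl⟩
      refine ⟨ψ ⟨a, ha⟩ x, ?_, Coprime.coe_conjAut hnorm ⟨a, ha⟩ x⟩
      rw [SetLike.mem_coe, hQ₀] at hx ⊢
      set σ : H := ⟨ψ ⟨a, ha⟩, ⟨_, rfl⟩⟩
      obtain ⟨q, hq, hqe⟩ := (Subgroup.mem_normalizer_iff.1 (hQ ⟨σ, rfl⟩) (e x : Γ)).1 ⟨e x, hx, rfl⟩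
      have h2 : q = e (ψ ⟨a, ha⟩ x) := Subtype.ext (hqe.trans (hconj σ x))
      exact h2 ▸ hq
    obtain ⟨x, hx, rfl⟩ := hgS
    obtain ⟨y, hy, hyx⟩ := hconv Q₀ hinv hx
    refine ⟨e y, (hQ₀ y).1 hy, ?_⟩
    show ι y = ι x
    rw [Subtype.ext hyx]
  exact hne (quadratic_acts_trivially hp5 hRn hgen hc' hgG' hall hUV (hT'p.to_le (hUA.trans hAT)) hq)

end Main

end Cfsg.Agent.EquivZJ
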