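import Cfsg.Agent.Lib.EquivZJ.Part

/-!
* `nondeg` : the bracket on the elements of weight one is non-degenerate
-/

set_option autoImplicit false
set_option linter.unusedSectionVars false

namespace Cfsg.Agent.EquivZJ

open Cfsg Module Cfsg.Agent.QuadRoot Cfsg.Agent.CoprimeZJ

universe u v

variable {k : Type u} [Field k] {M : Type v} [AddCommGroup M] [Module k M] [FiniteDimensional k M]
  {X : Subgroup (LinearMap.GeneralLinearGroup k M)} {a b x y z r q e : Module.End k M}
  {g : LinearMap.GeneralLinearGroup k M}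

/-- The minimal elements of weight one. -/
def oneClasses (F : Frame X a b) : Set (Module.End k M) := {z | Dmin X z ∧ F.IsW1 z}

theorem Frame.IsW1.conj {F : Frame X a b} (h : F.IsW1 x) (hA : Commute (g : Module.End k M) F.eA)
    (hB : Commute (g : Module.End k M) F.eB) : F.IsW1 (cj g x) := by
  have fix : ∀ {E : Module.End k M}, Commute (g : Module.End k M) E → cj g E = E := fun {E} hE => by
    rw [cj, hE.eq, mul_assoc, Units.mul_inv, mul_one]
  have hO : Commute (g : Module.End k M) F.eO := ((Commute.one_right _).sub_right hA).sub_right hB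
  refine ⟨?_, ?_, ?_, ?_⟩
  · conv_lhs => enter [2]; rw [← fix hA]
    rw [← cj_mul, h.rA, cj_zero]
  · conv_lhs => enter [1]; rw [← fix hB]
    rw [← cj_mul, h.lB, cj_zero]
  · rw [← fix hO, ← cj_mul, ← cj_mul, h.mid, cj_zero]
  · rw [← fix hA, ← fix hB, ← cj_mul, ← cj_mul, h.top, cj_zero]

theorem Frame.bracket_eq {F : Frame X a b} (h : F.IsW1 z) (r : Module.End k M) :
    z * (r * F.A - F.A * r) - (r * F.A - F.A * r) * z = z * r * F.A + F.A * r * z := by
  simp only [mul_sub, sub_mul, mul_assoc r, h.Ax, mul_zero, ← mul_assoc z F.A, h.xA, zero_mul, ← mul_assoc]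
  abel

theorem Frame.w0_sandwich_mid {F : Frame X a b} (hA : q * F.eA = 0) (hB : F.eB * q = 0) (h : F.IsW0 y) :
    F.eO * (q * y * q) * F.eO = F.eO * q * F.eO * y * (F.eO * q * F.eO) := by
  have l1 : F.eO * q = F.eO * q * F.eO + F.eO * q * F.eB := by
    conv_lhs => rw [← mul_one (F.eO * q), ← F.sum_eq, mul_add, mul_add, mul_assoc _ q F.eA, hA, mul_zero, zero_add]
  have l2 : q * F.eO = F.eA * q * F.eO + F.eO * q * F.eO := by
    conv_lhs => rw [← one_mul (q * F.eO), ← F.sum_eq, add_mul, add_mul, ← mul_assoc F.eB, hB, zero_mul, add_zero]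
    simp [mul_assoc]
  have e : F.eO * (q * y * q) * F.eO = F.eO * q * y * (q * F.eO) := by simp [mul_assoc]
  rw [e, l1, l2]
  have c1 : ∀ w, y * (F.eA * w) = F.eA * (y * w) := fun w => by rw [← mul_assoc, h.cA.eq, mul_assoc]
  have c2 : ∀ w, y * (F.eO * w) = F.eO * (y * w) := fun w => by rw [← mul_assoc, h.cO.eq, mul_assoc]
  simp [add_mul, mul_add, mul_assoc, c1, c2]

theorem cj_of_bracket (hy : y * y = 0) (hyz : y * x * y = 0) : cj (ex y) x = x + (y * x - x * y) := by
  rw [cj_ex hy, mul_sub, mul_one, add_mul, one_mul, add_mul, hyz, add_zero]; abel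

variable [Finite M] [Finite k] {p : ℕ} [hp : Fact p.Prime] [CharP k p]
variable (hp5 : 5 ≤ p) (hk2 : ringChar k ≠ 2) (hk3 : Nat.card k ≠ 3) (hred : Reduced X)
include hp5 hk2 hk3 hred

theorem exists_bracket_ne (F : Frame X a b) (ha : Dmin X a) (hb : Dmin X b) (hz : Dmin X z) (h : F.IsW1 z) :
    ∃ r ∈ oneClasses F, z * r - r * z ≠ 0 := by
  obtain ⟨e, he, hoe⟩ := exists_opp hk2 hk3 hred hz
  obtain ⟨r0, -, hr0, hr0W, e1, -⟩ := Frame.exists_opp_one (Y := X) (F := F) hp5 hk2 hk3
    (fun t _ => Subgroup.le_normalizer (F.tor_mem ha hb t)) le_rfl hred hz hz.inG h he hoe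
  obtain ⟨hr, hrW, -⟩ := Frame.partner (F := F.symm) hk2 hr0 hr0W
  simp only [Frame.symm_B, Frame.symm_symm] at hr hrW
  exact ⟨_, ⟨hr, hrW⟩, by rw [Frame.bracket_eq h]; exact Frame.key_ne hk2 hz h hr0 hr0W e1⟩

theorem nondeg (F : Frame X a b) (ha : Dmin X a) (hb : Dmin X b) (hx : InG X x) (hW : F.IsW1 x)
    (hrank : finrank k (LinearMap.range x) ≤ 2 * finrank k (LinearMap.range a))
    (hspan : x ∈ Submodule.span k (oneClasses F)) (hzero : ∀ r ∈ oneClasses F, x * r - r * x = 0) : x = 0 := by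
  classical
  by_contra hx0
  have h2 : (2 : k) ≠ 0 := Frame.two_ne hp5
  have h3 : (3 : k) ≠ 0 := Frame.three_ne hp5
  have notD : ¬ Dmin X x := fun hd => by
    obtain ⟨r, hr, hne⟩ := exists_bracket_ne hp5 hk2 hk3 hred F ha hb hd hW
    exact hne (hzero r hr)
  obtain ⟨e, he, hop⟩ : ∃ e, Dmin X e ∧ Opp e x := by
    by_contra! hcon
    have hc := flat_centralizes hk2 hk3 hred hx hcon
    have htor : F.tor 2 ∈ sigmaJoin X :=
      sup_le (le_sigmaJoin (mem_rootSubgroups ha)) (le_sigmaJoin (mem_rootSubgroups hb)) (F.tor_mem_sup ha hb 2)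
    have h1 := commute_of_ex hx.sq (Subgroup.mem_centralizer_iff.1 hc _ htor : Commute (F.tor 2) (ex x))
    have h4 := hW.cj_tor (F := F) h2
    rw [cj, h1.eq, mul_assoc, Units.mul_inv, mul_one] at h4
    refine hx0 ?_
    have e : (2 : k) • x = x + x := two_smul k x
    rwa [e, left_eq_add] at h4
  obtain ⟨L, _, _, _, ⟨c⟩⟩ := exists_corner hx.sq he.inG.sq hop.symm
  obtain ⟨hqG, hq0, hqr⟩ := corner_mixed hk2 hk3 c hx he
  set P := c.T 1
  set q := x * P
  set s := x - q
  have hcP : Commute x P := c.comm_a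
  have hqx : q = P * x := hcP.eq
  have hs : s = x * (1 - P) := by simp only [s, q, mul_sub, mul_one]
  have hqD : Dmin X q := he.of_rank_le hqG hq0 hqr
  have hqs : q * s = 0 := by rw [hqx, hs, mul_assoc, ← mul_assoc x x, hx.sq, zero_mul, mul_zero]
  have hsq : s * q = 0 := by
    rw [hs, ((Commute.one_right x).sub_right hcP).eq, mul_assoc, ← mul_assoc x x, hx.sq, zero_mul, mul_zero]
  have hsG : InG X s := by
    simp only [s, sub_eq_add_neg]
    refine hx.add hqG.neg ?_ ?_
    · rw [mul_neg, ← mul_assoc, hx.sq, zero_mul, neg_zero]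
    · rw [neg_mul, hqx, mul_assoc, hx.sq, mul_zero, neg_zero]
  have hsr : finrank k (LinearMap.range s) + finrank k (LinearMap.range q) ≤ finrank k (LinearMap.range x) := by
    have hadd := finrank_map_add P (LinearMap.range x)
    rw [← LinearMap.range_comp, ← Module.End.mul_eq_comp, ← hqx] at hadd
    have hsub : LinearMap.range s ≤ LinearMap.range x ⊓ LinearMap.ker P := by
      refine le_inf (by rw [hs]; exact LinearMap.range_comp_le_range _ _) ?_
      rw [LinearMap.range_le_ker_iff, ← Module.End.mul_eq_comp, hs, ← mul_assoc, ← hcP.eq, mul_assoc, mul_sub,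
        mul_one, c.idem, sub_self, mul_zero]
    have := Submodule.finrank_mono hsub
    omega
  have hs0 : s ≠ 0 := fun h0 => notD (by rw [sub_eq_zero.1 h0]; exact hqD)
  have hra : finrank k (LinearMap.range q) = finrank k (LinearMap.range a) := hqD.rank_eq ha
  have hsD : Dmin X s := ha.of_rank_le hsG hs0 (by omega)
  -- the opposite kills the rest
  have hopq : Opp q e := fun hnil => hop.symm (by
    have hcxe : Commute (x * e) P := c.comm_a.mul_left c.comm_b
    have e1 : x * e = q * e + x * e * (1 - P) := by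
      show x * e = x * P * e + x * e * (1 - P)
      rw [mul_sub, mul_one, mul_assoc x P e, ← c.comm_b.eq, ← mul_assoc]; abel
    rw [e1]
    refine Commute.isNilpotent_add ?_ hnil c.nil
    have h0 : q * e = x * e * P := by
      show x * P * e = x * e * P
      rw [mul_assoc x P e, ← c.comm_b.eq, ← mul_assoc]
    rw [h0]
    exact ((Commute.refl (x * e)).mul_left hcxe.symm).mul_right
      ((Commute.one_right _).sub_right (hcxe.mul_left (Commute.refl P))))
  obtain ⟨L', _, _, ⟨c'⟩⟩ := exists_model hk2 hk3 hqD he hopq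
  have heP : P * e = e := by
    obtain ⟨W, hW'⟩ := c'.T_one_eq
    have e1 : P * c'.T 1 = c'.T 1 := by
      rw [hW', ← mul_assoc]
      congr 1
      rw [mul_add]
      congr 1
      · rw [hqx, ← mul_assoc, ← mul_assoc, c.idem]
      · rw [hqx, ← mul_assoc e, c.comm_b.eq, mul_assoc P e, ← mul_assoc P P, c.idem]
    conv_rhs => rw [← c'.whole_b, c'.comm_b.eq, ← e1, mul_assoc, ← c'.comm_b.eq, c'.whole_b]
  have hse : s * e = 0 := by rw [hs, mul_assoc, sub_mul, one_mul, heP, sub_self, mul_zero]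
  have hes : e * s = 0 := by
    rw [hs, ((Commute.one_right x).sub_right hcP).eq, ← mul_assoc, mul_sub, mul_one, c.comm_b.eq, heP,
      sub_self, zero_mul]
  -- the components of `q`
  have hqA : q * F.eA = 0 := by rw [hqx, mul_assoc, hW.rA, mul_zero]
  have hqB : F.eB * q = 0 := by show F.eB * (x * P) = 0; rw [← mul_assoc, hW.lB, zero_mul]
  set q0 := F.w0 q
  have hq0e : q0 = F.eO * q * F.eO := by
    simp only [q0, Frame.w0]; rw [mul_assoc _ q F.eA, hqA, hqB]; simp
  have hqn : q = q0 + F.w1 q + F.w2 q := by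
    conv_lhs => rw [F.decomp q]
    rw [show F.wn q = 0 by rw [Frame.wn, mul_assoc _ q F.eA, hqA, hqB]; simp,
      show F.wm2 q = 0 by rw [Frame.wm2, hqB, zero_mul], add_zero, add_zero]
  have hq00 : q0 = 0 := by
    by_contra hne
    let S : Set (Module.End k M) := {w | ∃ t : k, t ≠ 0 ∧ w = cj (F.tor t) q}
    have hform : ∀ t : k, t ≠ 0 → ∃ P', Commute x P' ∧ cj (F.tor t) q = t • (x * P') := by
      intro t ht
      refine ⟨cj (F.tor t) P, ?_, by rw [← smul_mul_assoc, ← hW.cj_tor ht, ← cj_mul]⟩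
      have h := congrArg (cj (F.tor t)) hcP.eq
      rw [cj_mul, cj_mul, hW.cj_tor ht, smul_mul_assoc, mul_smul_comm] at h
      exact (smul_right_injective _ ht) h
    have hmem := (F.comp_mem h2 h3 (S := Submodule.span k S) fun t ht => Submodule.subset_span ⟨t, ht, rfl⟩).1
    have hq0G : InG X q0 := by
      refine inG_span (fun w => ?_) (fun w hw w' hw' => ?_) hmem
      · rintro ⟨t, -, rfl⟩; exact hqG.conj (F.tor_mem ha hb t)
      · obtain ⟨t, ht, rfl⟩ := hw
        obtain ⟨t', ht', rfl⟩ := hw'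
        obtain ⟨P1, hc1, e1⟩ := hform t ht
        obtain ⟨P2, -, e2⟩ := hform t' ht'
        rw [e1, e2, smul_mul_smul_comm, hc1.eq, mul_assoc, ← mul_assoc x x, hx.sq, zero_mul, mul_zero, smul_zero]
    have hq0r : finrank k (LinearMap.range q0) ≤ finrank k (LinearMap.range q) := by
      rw [hq0e, Module.End.mul_eq_comp]
      refine (Submodule.finrank_mono (LinearMap.range_comp_le_range _ _)).trans ?_
      rw [Module.End.mul_eq_comp, LinearMap.range_comp]
      exact Submodule.finrank_map_le _ _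
    have hq0D : Dmin X q0 := hqD.of_rank_le hq0G hne hq0r
    have hq0A : Commute q0 F.A := by show q0 * F.A = F.A * q0; rw [hq0e]; simp [mul_assoc]
    have hq0B : Commute q0 F.B := by show q0 * F.B = F.B * q0; rw [hq0e]; simp [mul_assoc]
    obtain ⟨f, hf, hof⟩ := exists_opp hk2 hk3 hred hq0D
    obtain ⟨σ, -, hσ, hσW, hne'⟩ := Frame.exists_opp_zero (Y := X) (F := F) hp5 hk2 hk3
      (fun t _ => Subgroup.le_normalizer (F.tor_mem ha hb t)) le_rfl hq0D hq0D.inG hq0A hq0B hf hof
    refine hne' ?_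
    have hxx : x * σ * x = 0 := by
      have hmap : ∀ s' : k, x * cj (ex (s' • σ)) x - cj (ex (s' • σ)) x * x = 0 := by
        intro s'
        have hg : ∀ w ∈ oneClasses F, cj (ex (s' • σ)) w ∈ oneClasses F := fun w hw =>
          ⟨hw.1.conj (hσ.inG.mem s'), hw.2.conj
            (by rw [coe_ex (smul_sq hσ.inG.sq _ _)]; exact (Commute.one_left _).add_left (hσW.cA.smul_left s'))
            (by rw [coe_ex (smul_sq hσ.inG.sq _ _)]; exact (Commute.one_left _).add_left (hσW.cB.smul_left s'))⟩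
        let T : Submodule k (Module.End k M) :=
          { carrier := {w | x * w - w * x = 0}
            zero_mem' := by simp
            add_mem' := fun {u w} (hu : x * u - u * x = 0) (hw : x * w - w * x = 0) => by
              show x * (u + w) - (u + w) * x = 0
              rw [mul_add, add_mul, add_sub_add_comm, hu, hw, add_zero]
            smul_mem' := fun c w (hw : x * w - w * x = 0) => by
              show x * (c • w) - (c • w) * x = 0
              rw [mul_smul_comm, smul_mul_assoc, ← smul_sub, hw, smul_zero] }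
        have hle : Submodule.span k (oneClasses F) ≤ T.comap (cjLin (ex (s' • σ))) :=
          Submodule.span_le.2 fun w hw => hzero _ (hg w hw)
        exact hle hspan
      have h1 := hmap 1
      have h1' := hmap (-1)
      rw [cj_ex (smul_sq hσ.inG.sq _ _)] at h1 h1'
      simp only [one_smul, neg_smul] at h1 h1'
      have e4 : (2 : k) • (2 : k) • (x * σ * x) = 0 := by
        have h5 := congrArg₂ (· - ·) h1 h1'
        simp only [mul_add, add_mul, mul_sub, sub_mul, one_mul, mul_one, neg_mul, mul_neg, neg_neg,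
          ← mul_assoc, hx.sq, zero_mul] at h5
        simp only [mul_assoc _ x x, hx.sq, mul_zero] at h5
        rw [← sub_zero (0 : Module.End k M), ← h5, two_smul, two_smul]
        abel
      exact (smul_eq_zero.1 ((smul_eq_zero.1 e4).resolve_left h2)).resolve_left h2
    have hqσq : q * σ * q = 0 := by
      calc q * σ * q = P * (x * σ * x) * P := by
            conv_lhs => enter [1, 1]; rw [hqx]
            show P * x * σ * (x * P) = _
            simp [mul_assoc]
        _ = 0 := by rw [hxx]; simp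
    have e5 := Frame.w0_sandwich_mid (F := F) hqA hqB hσW
    rw [← hq0e] at e5
    rw [← e5, hqσq]; simp
  -- both parts lower the flag
  have hq12 : q = F.w1 q + F.w2 q := by rw [hq00, zero_add] at hqn; exact hqn
  have hs12 : s = F.w1 s + F.w2 s := by
    have e1 : F.w1 s = x - F.w1 q := by
      conv_rhs => rw [← hW.w1_eq]
      simp only [s, Frame.w1, mul_sub, sub_mul]; abel
    have e2 : F.w2 s = -F.w2 q := by
      simp only [s, Frame.w2, mul_sub, sub_mul]
      rw [show F.eA * x * F.eB = 0 from hW.top, zero_sub]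
    rw [e1, e2]
    show x - q = _
    conv_lhs => rw [hq12]
    abel
  obtain ⟨hq1G, hq1r⟩ := Frame.low_part h2 ha hb hqG hq12
  obtain ⟨hs1G, hs1r⟩ := Frame.low_part h2 ha hb hsG hs12
  set q1 := F.w1 q
  set s1 := F.w1 s
  have hsum : x = q1 + s1 := by
    rw [show q1 + s1 = F.w1 (q + s) by simp only [q1, s1, Frame.w1, mul_add, add_mul]; abel,
      show q + s = x by simp only [s]; abel, hW.w1_eq]
  have hq10 : q1 ≠ 0 := fun h0 => notD (by
    rw [hsum, h0, zero_add] at hx ⊢
    exact hsD.of_rank_le hs1G (fun h1 => hx0 (by rw [hsum, h0, h1, add_zero])) hs1r)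
  have hq1D : Dmin X q1 := hqD.of_rank_le hq1G hq10 hq1r
  have hq1W : F.IsW1 q1 := Frame.w1_isW1 q
  -- move `q` to its part of weight one
  obtain ⟨g, hgX, hgx, hgq⟩ : ∃ g ∈ X, cj g x = x ∧ cj g q = q1 := by
    have hw2 : F.w2 q ∈ classSpace ha := by
      have hG : InG X (F.w2 q) := by
        have e : F.w2 q = q + -q1 := by conv_rhs => enter [1]; rw [hq12]
                                        abel
        rw [e]
        have z1 : q1 * F.w2 q = 0 := by rw [Frame.w2, ← mul_assoc, ← mul_assoc, hq1W.rA, zero_mul, zero_mul]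
        have z2 : F.w2 q * q1 = 0 := by rw [Frame.w2, mul_assoc, hq1W.lB, mul_zero]
        refine hqG.add hq1G.neg ?_ ?_
        · conv_lhs => enter [1]; rw [hq12]
          rw [mul_neg, add_mul, hq1G.sq, z2, add_zero, neg_zero]
        · conv_lhs => enter [2]; rw [hq12]
          rw [neg_mul, mul_add, hq1G.sq, z1, add_zero, neg_zero]
      exact Frame.mem_a_of_weight (F := F) ha hG (by simp [Frame.w2, mul_assoc]) (by simp [Frame.w2, mul_assoc])
    rcases hw2 with h0 | hcl
    · refine ⟨1, one_mem _, by simp [cj], ?_⟩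
      rw [h0, add_zero] at hq12
      simp [cj]; exact hq12
    obtain ⟨r, ⟨hr, hrW⟩, hne⟩ := exists_bracket_ne hp5 hk2 hk3 hred F ha hb hq1D hq1W
    have hne' : r * q1 - q1 * r ≠ 0 := by rw [← neg_sub, neg_ne_zero]; exact hne
    have hμ : r * q1 - q1 * r ∈ classSpace ha := Frame.bracket_mem ha hr.inG hq1G hrW hq1W
    have hno : ¬ Opp r q1 := not_not.2 ⟨2, by rw [pow_two, ← mul_assoc, hrW.triple hq1W hrW, zero_mul]⟩
    have hμc := hμ.resolve_left hne'
    obtain ⟨r', hr', he'⟩ := exists_bracket_eq hk2 hk3 hred hr hq1D hno hne' (w := (-1 : k) • F.w2 q)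
      (class_trans (class_symm ha hμc) (hcl.smul (neg_ne_zero.2 one_ne_zero)))
    have hr'W : F.IsW1 r' := Frame.class_pure hk2 hk3 hred hr hrW hr'
    refine ⟨ex r', hr'.dmin.inG.ex_mem, ?_, ?_⟩
    · rw [cj_of_bracket hr'.dmin.inG.sq (hr'W.triple hW hr'W), ← neg_sub, hzero r' ⟨hr'.dmin, hr'W⟩]; simp
    · have z1 : r' * F.w2 q = 0 := by rw [Frame.w2, ← mul_assoc, ← mul_assoc, hr'W.rA, zero_mul, zero_mul]
      have z2 : F.w2 q * r' = 0 := by rw [Frame.w2, mul_assoc, hr'W.lB, mul_zero]
      conv_lhs => rw [hq12]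
      rw [cj_add, cj_of_bracket hr'.dmin.inG.sq (hr'W.triple hq1W hr'W), he',
        cj_of_bracket hr'.dmin.inG.sq (by rw [z1, zero_mul]), z1, z2, neg_one_smul]
      simp
  set e' := cj g e
  have hgs : cj g s = s1 := by
    simp only [s, cj_sub, hgx, hgq]; rw [hsum, add_sub_cancel_left]
  have hz1 : q1 * s1 = 0 := by rw [← hgq, ← hgs, ← cj_mul, hqs, cj_zero]
  have hz2 : s1 * q1 = 0 := by rw [← hgq, ← hgs, ← cj_mul, hsq, cj_zero]
  have hz3 : e' * s1 = 0 := by rw [← hgs, ← cj_mul, hes, cj_zero]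
  have hz4 : s1 * e' = 0 := by rw [← hgs, ← cj_mul, hse, cj_zero]
  let Y : Subgroup (LinearMap.GeneralLinearGroup k M) :=
    { carrier := {y | y ∈ X ∧ Commute (y : Module.End k M) s1}
      one_mem' := ⟨one_mem _, by rw [Units.val_one]; exact Commute.one_left _⟩
      mul_mem' := fun {u w} hu hw => ⟨mul_mem hu.1 hw.1, by rw [Units.val_mul]; exact hu.2.mul_left hw.2⟩
      inv_mem' := fun {u} hu => ⟨inv_mem hu.1, hu.2.units_inv_left⟩ }
  have hYG : ∀ {w : Module.End k M}, InG X w → w * s1 = 0 → s1 * w = 0 → InG Y w := fun {w} hw h1 h1' =>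
    ⟨hw.sq, fun t => ⟨hw.mem t, by
      rw [coe_ex (smul_sq hw.sq t t)]
      refine (Commute.one_left _).add_left ?_
      show t • w * s1 = s1 * (t • w)
      rw [smul_mul_assoc, mul_smul_comm, h1, h1']⟩⟩
  have hs1W : F.IsW1 s1 := Frame.w1_isW1 s
  have hNY : ∀ t : k, t ≠ 0 → F.tor t ∈ Subgroup.normalizer (Y : Set (LinearMap.GeneralLinearGroup k M)) := by
    intro t ht
    refine Coprime.mem_normalizer_of_forall fun u hu => ⟨mul_mem (mul_mem (F.tor_mem ha hb t) hu.1)
      (inv_mem (F.tor_mem ha hb t)), ?_⟩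
    have h := congrArg (cj (F.tor t)) hu.2.eq
    rw [cj_mul, cj_mul, hs1W.cj_tor ht, mul_smul_comm, smul_mul_assoc] at h
    have h' := smul_right_injective _ ht h
    show ((F.tor t * u * (F.tor t)⁻¹ : LinearMap.GeneralLinearGroup k M) : Module.End k M) * s1 = _
    rw [Units.val_mul, Units.val_mul]
    exact h'
  have hq1Y : InG Y q1 := hYG hq1G hz1 hz2
  have he'X : Dmin X e' := he.conj hgX
  have hop' : Opp q1 e' := hgq ▸ opp_cj g hopq
  obtain ⟨r0, hr0Y, hr0, hr0W, e1, -⟩ := Frame.exists_opp_one (Y := Y) (F := F) hp5 hk2 hk3 hNY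
    (fun y hy => hy.1) hred hq1D hq1Y hq1W (Dmin.of_sub (fun y hy => hy.1) he'X (hYG he'X.inG hz3 hz4)) hop'
  obtain ⟨hr, hrW, -⟩ := Frame.partner (F := F.symm) hk2 hr0 hr0W
  simp only [Frame.symm_B, Frame.symm_symm] at hr hrW
  have hc0 : Commute r0 s1 := by
    have := (hr0Y.ex_mem).2
    rw [coe_ex hr0Y.sq] at this
    have := this.sub_left (Commute.one_left s1)
    rwa [add_sub_cancel_left] at this
  have hcA : Commute F.A s1 := by show F.A * s1 = s1 * F.A; rw [hs1W.Ax, hs1W.xA]
  have h0 := hzero _ ⟨hr, hrW⟩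
  rw [hsum, add_mul, mul_add, add_sub_add_comm] at h0
  have hcs : s1 * (r0 * F.A - F.A * r0) - (r0 * F.A - F.A * r0) * s1 = 0 :=
    sub_eq_zero.2 (((hc0.mul_left hcA).sub_left (hcA.mul_left hc0)).eq.symm)
  rw [hcs, add_zero, Frame.bracket_eq hq1W] at h0
  exact Frame.key_ne hk2 hq1D hq1W hr0 hr0W e1 h0

end Cfsg.Agent.EquivZJ
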