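import Cfsg.Agent.Lib.EquivZJ.Part

/-!
* `unique` : in its part, the class of `a` is the only one normalised by the group lowering its flag
-/

set_option autoImplicit false
set_option linter.unusedSectionVars false

namespace Cfsg.Agent.EquivZJ

open Cfsg Module Cfsg.Agent.QuadRoot Cfsg.Agent.CoprimeZJ

universe u v

variable {k : Type u} [Field k] {M : Type v} [AddCommGroup M] [Module k M] [FiniteDimensional k M]
  {X : Subgroup (LinearMap.GeneralLinearGroup k M)} {a b x y q : Module.End k M}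
  {g : LinearMap.GeneralLinearGroup k M}

namespace Frame

variable (F : Frame X a b)

/-- No component of negative weight. -/
structure IsNonneg (x : Module.End k M) : Prop where
  bA : F.eB * x * F.eA = 0
  oA : F.eO * x * F.eA = 0
  bO : F.eB * x * F.eO = 0

variable {F}

theorem IsNonneg.decomp (h : F.IsNonneg x) : x = F.w0 x + F.w1 x + F.w2 x := by
  conv_lhs => rw [F.decomp x]
  rw [show F.wn x = 0 by rw [wn, h.oA, h.bO, add_zero], show F.wm2 x = 0 from h.bA, add_zero, add_zero]

theorem IsNonneg.of_commute (h : Commute x F.A) : F.IsNonneg x := by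
  have e1 : x * F.eA = F.A * x * F.B := by rw [eA, ← mul_assoc, h.eq]
  have e2 : F.eB * x = F.B * x * F.A := by rw [eB, mul_assoc, ← h.eq, ← mul_assoc]
  refine ⟨?_, ?_, ?_⟩
  · rw [mul_assoc, e1]; simp [mul_assoc]
  · rw [mul_assoc, e1]; simp [mul_assoc]
  · rw [e2]; simp [mul_assoc]

theorem IsNonneg.lB (h : F.IsNonneg x) : F.eB * x = F.eB * x * F.eB := by
  conv_lhs => rw [← mul_one (F.eB * x), ← F.sum_eq, mul_add, mul_add, h.bA, h.bO, zero_add, zero_add]

theorem IsNonneg.rA (h : F.IsNonneg x) : x * F.eA = F.eA * x * F.eA := by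
  conv_lhs => rw [← one_mul (x * F.eA), ← F.sum_eq, add_mul, add_mul, ← mul_assoc F.eO, h.oA, ← mul_assoc F.eB,
    h.bA, add_zero, add_zero, ← mul_assoc]

theorem w0_mul (hx : F.IsNonneg x) (hy : F.IsNonneg y) : F.w0 (x * y) = F.w0 x * F.w0 y := by
  have eo : F.eO * x * y * F.eO = F.eO * x * F.eO * (F.eO * y * F.eO) := by
    calc F.eO * x * y * F.eO = F.eO * x * ((F.eA + F.eO + F.eB) * (y * F.eO)) := by
          rw [F.sum_eq, one_mul, mul_assoc]
      _ = F.eO * x * F.eA * (y * F.eO) + F.eO * x * (F.eO * y * F.eO) + F.eO * x * (F.eB * y * F.eO) := by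
          simp only [add_mul, mul_add, mul_assoc]
      _ = F.eO * x * F.eO * (F.eO * y * F.eO) := by
          rw [hx.oA, hy.bO, zero_mul, mul_zero, zero_add, add_zero]
          simp [mul_assoc]
  have ea : F.eA * (x * y) * F.eA = F.eA * x * F.eA * (F.eA * y * F.eA) := by
    rw [mul_assoc F.eA, mul_assoc x y, hy.rA]; simp [mul_assoc]
  have eb : F.eB * (x * y) * F.eB = F.eB * x * F.eB * (F.eB * y * F.eB) := by
    rw [← mul_assoc, hx.lB]; simp [mul_assoc]
  rw [w0, w0, w0, ea, eb, ← mul_assoc F.eO, eo]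
  simp [add_mul, mul_add, mul_assoc]

theorem IsNonneg.mul (hx : F.IsNonneg x) (hy : F.IsNonneg y) : F.IsNonneg (x * y) := by
  refine ⟨?_, ?_, ?_⟩
  · rw [mul_assoc, mul_assoc x, hy.rA, ← mul_assoc, ← mul_assoc, ← mul_assoc, hx.bA, zero_mul, zero_mul]
  · rw [mul_assoc, mul_assoc x, hy.rA, ← mul_assoc, ← mul_assoc, ← mul_assoc, hx.oA, zero_mul, zero_mul]
  · rw [← mul_assoc, hx.lB, mul_assoc (F.eB * x) F.eB, mul_assoc, hy.bO, mul_zero]

theorem IsNonneg.one_add (hx : F.IsNonneg x) : F.IsNonneg (1 + x) := by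
  refine ⟨?_, ?_, ?_⟩ <;> simp [mul_add, add_mul, hx.bA, hx.oA, hx.bO]

theorem w0_add (x y : Module.End k M) : F.w0 (x + y) = F.w0 x + F.w0 y := by
  simp [w0, mul_add, add_mul]; abel

theorem w0_one : F.w0 1 = 1 := by simp [w0]; exact F.sum_eq

theorem w0_smul (c : k) (x : Module.End k M) : F.w0 (c • x) = c • F.w0 x := by
  simp [w0, mul_smul_comm, smul_mul_assoc, smul_add]

variable [Finite M]

theorem low_dev (ha : Dmin X a) {u : LinearMap.GeneralLinearGroup k M} (hu : IsLow a u) :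
    F.IsNonneg ((u : Module.End k M) - 1) ∧ F.w0 ((u : Module.End k M) - 1) = 0 := by
  set n := (u : Module.End k M) - 1
  have h1 : n * F.eA = 0 := LinearMap.ext fun v => by
    have hv : F.eA v ∈ LinearMap.range a := by rw [← F.clA.range, eA]; exact ⟨F.B v, rfl⟩
    show (u : Module.End k M) (F.eA v) - F.eA v = 0
    rw [hu.bot _ hv, sub_self]
  have h2 : F.eB * n = 0 := LinearMap.ext fun v => by
    have hv := hu.top v
    rw [← F.clA.ker, LinearMap.mem_ker] at hv
    show F.B (F.A (n v)) = 0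
    rw [show n v = (u : Module.End k M) v - v from rfl, hv, map_zero]
  have h3 : F.eO * n * F.eO = 0 := LinearMap.ext fun v => by
    have hk : F.eO v ∈ LinearMap.ker a := by
      rw [← F.clA.ker, LinearMap.mem_ker, ← Module.End.mul_apply, A_eO]; rfl
    have hv := hu.mid _ hk
    rw [← F.clA.range] at hv
    obtain ⟨w, hw⟩ := hv
    show F.eO (n (F.eO v)) = 0
    rw [show n (F.eO v) = (u : Module.End k M) (F.eO v) - F.eO v from rfl, ← hw, ← Module.End.mul_apply, eO_A]
    rfl
  exact ⟨⟨by rw [h2, zero_mul], by rw [mul_assoc, h1, mul_zero], by rw [h2, zero_mul]⟩, by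
    rw [w0, mul_assoc F.eA n F.eA, h1, h2, h3]; simp⟩

end Frame

theorem isLow_ex (ha : Dmin X a) (hy : y * y = 0) (h1 : LinearMap.range a ≤ LinearMap.ker y)
    (h2 : (LinearMap.ker a).map y ≤ LinearMap.range a) (h3 : LinearMap.range y ≤ LinearMap.ker a) :
    IsLow a (ex y) := by
  have e : ∀ v, (ex y : Module.End k M) v - v = y v := fun v => by
    rw [coe_ex hy, LinearMap.add_apply, Module.End.one_apply, add_sub_cancel_left]
  refine ⟨fun v hv => sub_eq_zero.1 ((e v).trans (h1 hv)), fun v hv => ?_, fun v => ?_⟩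
  · rw [e]; exact h2 ⟨v, hv, rfl⟩
  · rw [e]; exact h3 ⟨v, rfl⟩

variable [Finite M] [Finite k] {p : ℕ} [hp : Fact p.Prime] [CharP k p]

theorem ex_class_mem_low (ha : Dmin X a) {c : Module.End k M} (hc : c ∈ classSpace ha) :
    ex c ∈ lowSub (Prt X a) a ha.inG.sq := by
  refine (mem_lowSub ha.inG.sq).2 ⟨(InPart.refl ha).cl_le (ex_mem_cl hc), ?_⟩
  rcases hc with rfl | hc
  · rw [ex_zero]; exact IsLow.one
  refine isLow_ex ha hc.dmin.inG.sq (by rw [hc.ker]; exact LinearMap.range_le_ker_iff.2 ha.inG.sq) ?_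
    (by rw [hc.range]; exact LinearMap.range_le_ker_iff.2 ha.inG.sq)
  rw [← hc.ker]
  exact (Submodule.map_le_iff_le_comap.2 fun v hv => by
    rw [Submodule.mem_comap, LinearMap.mem_ker.1 hv]; exact zero_mem _)

theorem ex_w1_mem_low {F : Frame X a b} (ha : Dmin X a) (hyI : InPart X a y) (hy : F.IsW1 y) :
    ex y ∈ lowSub (Prt X a) a ha.inG.sq := by
  refine (mem_lowSub ha.inG.sq).2 ⟨hyI.cl_le (ex_mem_cl (ha := hyI.dmin) (Or.inr (SameClass.refl hyI.dmin))), ?_⟩
  refine isLow_ex ha hyI.dmin.inG.sq ?_ ?_ ?_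
  · rw [← F.clA.range, LinearMap.range_le_ker_iff]; exact hy.xA
  · rintro _ ⟨v, hv, rfl⟩
    rw [← F.clA.ker, SetLike.mem_coe, LinearMap.mem_ker] at hv
    rw [← F.clA.range]
    refine ⟨F.B (y v), ?_⟩
    have e : y v = F.eA (y v) := by
      have h1 : (F.eA + F.eO + F.eB) (y v) = y v := by rw [F.sum_eq]; rfl
      rw [LinearMap.add_apply, LinearMap.add_apply, ← Module.End.mul_apply F.eO, hy.rB,
        ← Module.End.mul_apply F.eB, hy.lB, Module.End.mul_apply, LinearMap.zero_apply, add_zero,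
        show F.eB v = 0 by show F.B (F.A v) = 0; rw [hv, map_zero], map_zero, add_zero] at h1
      exact h1.symm
    exact e.symm
  · rw [← F.clA.ker, LinearMap.range_le_ker_iff]; exact hy.Ax

theorem lowSub_inv (ha : Dmin X a) {u : LinearMap.GeneralLinearGroup k M}
    (hu : u ∈ lowSub (Prt X a) a ha.inG.sq) : IsLow a u ∧ IsLow a u⁻¹ :=
  ⟨((mem_lowSub ha.inG.sq).1 hu).2, ((mem_lowSub ha.inG.sq).1 (inv_mem hu)).2⟩

variable (hp5 : 5 ≤ p) (hk2 : ringChar k ≠ 2) (hk3 : Nat.card k ≠ 3) (hred : Reduced X)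
include hp5 hk2 hk3 hred

/-- In its part, the class of `a` is the only one normalised by the group lowering the flag. -/
theorem unique (ha : Dmin X a) (hb : Dmin X b) (ho : Opp a b) (hq : InPart X a q)
    (hU : lowSub (Prt X a) a ha.inG.sq ≤
      Subgroup.normalizer ((cl X q : Subgroup (LinearMap.GeneralLinearGroup k M)) : Set _)) :
    SameClass X a q := by
  obtain ⟨F⟩ := exists_frame hk2 hk3 ha hb ho
  have h2 : (2 : k) ≠ 0 := Frame.two_ne hp5
  have h3 : (3 : k) ≠ 0 := Frame.three_ne hp5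
  set P := Prt X a
  set U := lowSub P a ha.inG.sq
  have hA : ∀ w, SameClass X q w → Commute w F.A := by
    intro w hw
    have hne : cl X a ⊓ Subgroup.normalizer ((cl X q : Subgroup (LinearMap.GeneralLinearGroup k M)) : Set _) ≠ ⊥ := by
      intro h0
      have hm : ex a ∈ cl X a ⊓ Subgroup.normalizer ((cl X q : Subgroup (LinearMap.GeneralLinearGroup k M)) : Set _) :=
        ⟨ex_mem_sameActionSubgroup ha (SameClass.refl ha), hU (ex_class_mem_low ha (Or.inr (SameClass.refl ha)))⟩
      rw [h0, Subgroup.mem_bot, ← ex_zero] at hm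
      exact ha.ne (ex_inj ha.inG.sq (by simp) hm)
    obtain ⟨hno, hz⟩ := no_normalizer hk2 hk3 ha hq.dmin hne
    exact (sub_eq_zero.1 (bracket_zero_of_zero hk2 hk3 ha hq.dmin hno hz F.clA hw)).symm
  by_cases hcase : ∃ w, SameClass X q w ∧ F.w0 w = 0
  · obtain ⟨w, hw, hw0⟩ := hcase
    have hdec : w = F.w1 w + F.w2 w := by
      conv_lhs => rw [(Frame.IsNonneg.of_commute (hA w hw)).decomp]
      rw [hw0, zero_add]
    obtain ⟨hG, hrk⟩ := Frame.low_part h2 ha hb hw.dmin.inG hdec
    by_cases h1 : F.w1 w = 0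
    · rw [h1, zero_add] at hdec
      have hm := Frame.mem_a_of_weight (F := F) ha hw.dmin.inG (by rw [hdec, Frame.w2]; simp [mul_assoc])
        (by rw [hdec, Frame.w2]; simp [mul_assoc])
      exact class_trans (hm.resolve_left hw.dmin.ne) (class_symm hq.dmin hw)
    set q1 := F.w1 w
    have hq1 : Dmin X q1 := hw.dmin.of_rank_le hG h1 hrk
    have hW : F.IsW1 q1 := Frame.w1_isW1 w
    obtain ⟨hp1, hpW, hpe⟩ := Frame.partner hk2 hq1 hW
    have hbI : InPart X a b := (InPart.refl ha).opp hk2 hk3 hb ho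
    have hq1I : InPart X a q1 := (hbI.of_class F.clB).bracket hk2 hk3 hred hq1 (by
      rw [← neg_sub, neg_ne_zero]; exact hp1.ne)
    obtain ⟨e, he, hoe⟩ := exists_opp hk2 hk3 hred hq1
    obtain ⟨r0, -, hr0, hr0W, e1, -⟩ := Frame.exists_opp_one (Y := X) (F := F) hp5 hk2 hk3
      (fun t _ => Subgroup.le_normalizer (F.tor_mem ha hb t)) le_rfl hred hq1 hq1.inG hW he hoe
    obtain ⟨hr, hrW, -⟩ := Frame.partner (F := F.symm) hk2 hr0 hr0W
    simp only [Frame.symm_B, Frame.symm_symm] at hr hrW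
    set r := r0 * F.A - F.A * r0
    set μ := r * q1 - q1 * r
    have hμ : μ = -(F.A * r0 * q1) - q1 * r0 * F.A := by
      simp only [μ, r, sub_mul, mul_sub, mul_assoc r0, hW.Ax, mul_zero, ← mul_assoc q1 F.A, hW.xA, zero_mul]
      simp [mul_assoc]
    have hμ0 : μ ≠ 0 := by
      rw [hμ, ← neg_add', neg_ne_zero, add_comm]
      exact Frame.key_ne hk2 hq1 hW hr0 hr0W e1
    have hμa : μ ∈ classSpace ha := Frame.bracket_mem ha hr.inG hG hrW hW
    have hrI : InPart X a r := hq1I.bracket hk2 hk3 hred hr (by rw [← neg_sub, neg_ne_zero]; exact hμ0)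
    have hcj : cj (ex r) w = w + μ := by
      have z1 : r * F.w2 w = 0 := by rw [Frame.w2, ← mul_assoc, ← mul_assoc, hrW.rA, zero_mul, zero_mul]
      have z2 : F.w2 w * r = 0 := by rw [Frame.w2, mul_assoc, hrW.lB, mul_zero]
      rw [cj_ex hr.inG.sq]
      conv_lhs => rw [hdec]
      simp only [add_mul, mul_add, mul_sub, sub_mul, one_mul, mul_one, z1, z2, zero_mul,
        hrW.triple hW hrW, add_zero, sub_zero]
      conv_rhs => rw [hdec]
      simp only [μ]
      abel
    have hcl : cj (ex r) w ∈ classSpace hq.dmin :=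
      cj_classSpace (Subgroup.le_normalizer hr.inG.ex_mem) (hU (ex_w1_mem_low ha hrI hrW)) (Or.inr hw)
    rw [hcj] at hcl
    have hμq : μ ∈ classSpace hq.dmin := by
      have hsum := sub_mem hcl (Or.inr hw : w ∈ classSpace hq.dmin)
      rwa [add_sub_cancel_left] at hsum
    exact class_trans (hμa.resolve_left hμ0) (class_symm hq.dmin (hμq.resolve_left hμ0))
  exfalso
  push Not at hcase
  have hne : F.w0 q ≠ 0 := hcase q (SameClass.refl hq.dmin)
  refine hne ?_
  -- `U` fixes `q`
  have hqn := Frame.IsNonneg.of_commute (hA q (SameClass.refl hq.dmin))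
  have hfix : ∀ u ∈ U, cj u q = q := by
    intro u hu
    have huX : u ∈ X := Prt_le ((mem_lowSub ha.inG.sq).1 hu).1
    have hd : cj u q - q ∈ classSpace hq.dmin :=
      sub_mem (cj_classSpace (Subgroup.le_normalizer huX) (hU hu) (Or.inr (SameClass.refl hq.dmin)))
        (Or.inr (SameClass.refl hq.dmin))
    rcases hd with h0 | h0
    · exact sub_eq_zero.1 h0
    exfalso
    refine hcase _ h0 ?_
    obtain ⟨n1, z1⟩ := Frame.low_dev (F := F) ha (lowSub_inv ha hu).1
    obtain ⟨n2, z2⟩ := Frame.low_dev (F := F) ha (lowSub_inv ha hu).2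
    have e1 : (u : Module.End k M) = 1 + ((u : Module.End k M) - 1) := (add_sub_cancel _ _).symm
    have e2 : ((u⁻¹ : LinearMap.GeneralLinearGroup k M) : Module.End k M) =
        1 + (((u⁻¹ : LinearMap.GeneralLinearGroup k M) : Module.End k M) - 1) := (add_sub_cancel _ _).symm
    rw [sub_eq_add_neg, ← neg_one_smul k q, Frame.w0_add, Frame.w0_smul, cj, e1, e2,
      Frame.w0_mul (n1.one_add.mul hqn) n2.one_add, Frame.w0_mul n1.one_add hqn, Frame.w0_add, Frame.w0_add,
      z1, z2, Frame.w0_one, add_zero, one_mul, mul_one, neg_one_smul, add_neg_cancel]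
  have htorP : ∀ t, F.tor t ∈ P := fun t => sup_le (InPart.refl ha).cl_le
    ((InPart.refl ha).opp hk2 hk3 hb ho).cl_le (F.tor_mem_sup ha hb t)
  have hUN : ∀ t, t ≠ 0 → ∀ u ∈ U, F.tor t * u * (F.tor t)⁻¹ ∈ U := by
    intro t ht u hu
    obtain ⟨huP, hl⟩ := (mem_lowSub ha.inG.sq).1 hu
    have hN : F.tor t ∈ Subgroup.normalizer (X : Set (LinearMap.GeneralLinearGroup k M)) :=
      Subgroup.le_normalizer (Prt_le (htorP t))
    have hcl : F.tor t ∈ Subgroup.normalizer ((cl X a : Subgroup (LinearMap.GeneralLinearGroup k M)) : Set _) := by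
      refine mem_normalizer_cl hN ha ?_
      have e : cj (F.tor t) F.A = (t * t) • F.A := by
        rw [F.cj_tor ht]
        simp [Frame.w0, Frame.w1, Frame.wn, Frame.w2, Frame.wm2, mul_assoc]
      refine class_trans (F.clA.smul (mul_ne_zero ht ht)) ?_
      rw [← e]
      exact class_cj hN (class_symm ha F.clA)
    obtain ⟨hr, hk⟩ := fix_flag hN ha hcl
    exact (mem_lowSub ha.inG.sq).2 ⟨mul_mem (mul_mem (htorP t) huP) (inv_mem (htorP t)), isLow_conj hr hk hl⟩
  let S : Submodule k (Module.End k M) :=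
    { carrier := {x | ∀ u ∈ U, Commute (u : Module.End k M) x}
      zero_mem' := fun u _ => Commute.zero_right _
      add_mem' := fun hx hy u hu => (hx u hu).add_right (hy u hu)
      smul_mem' := fun c x hx u hu => (hx u hu).smul_right c }
  have hS : ∀ t, t ≠ 0 → cj (F.tor t) q ∈ S := by
    intro t ht u hu
    have hu' : (F.tor t)⁻¹ * u * F.tor t ∈ U := by
      have := hUN t⁻¹ (inv_ne_zero ht) u hu
      rwa [← F.tor_inv ht, inv_inv] at this
    have e : cj u (cj (F.tor t) q) = cj (F.tor t) q := by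
      conv_rhs => rw [← hfix _ hu']
      rw [cj_cj, cj_cj]; congr 1; group
    show (u : Module.End k M) * cj (F.tor t) q = cj (F.tor t) q * (u : Module.End k M)
    generalize cj (F.tor t) q = y at e ⊢
    conv_rhs => rw [← e]
    rw [cj, mul_assoc _ _ (u : Module.End k M), Units.inv_mul, mul_one]
  obtain ⟨hc0, hc1, -⟩ := F.comp_mem h2 h3 hS
  set q0 := F.w0 q
  set q1 := F.w1 q
  set q2 := F.w2 q
  have hdec : q = q0 + q1 + q2 := hqn.decomp
  have comm_ex : ∀ {c : Module.End k M}, c * c = 0 → ex c ∈ U → Commute c q0 := fun hc hcU => by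
    have := hc0 _ hcU
    rw [coe_ex hc] at this
    have := this.sub_left (Commute.one_left q0)
    rwa [add_sub_cancel_left] at this
  have hq0A : Commute F.A q0 := comm_ex F.AA (ex_class_mem_low ha (Or.inr F.clA))
  have hq0W : F.IsW0 q0 := Frame.w0_isW0 q
  have hq0B : Commute F.B q0 := by
    calc F.B * q0 = F.B * q0 * F.eA := by rw [mul_assoc, hq0W.cA.eq, ← mul_assoc, F.B_eA]
      _ = F.eB * q0 * F.B := by
        rw [Frame.eA, Frame.eB, ← mul_assoc, mul_assoc F.B q0 F.A, ← hq0A.eq, ← mul_assoc]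
      _ = q0 * F.B := by rw [← hq0W.cB.eq, mul_assoc, F.eB_B]
  let H : Subgroup (LinearMap.GeneralLinearGroup k M) :=
    { carrier := {x | Commute (x : Module.End k M) q0}
      one_mem' := by show Commute ((1 : Module.End k M)) q0; exact Commute.one_left q0
      mul_mem' := fun {x y} hx hy => by
        show Commute ((x * y : LinearMap.GeneralLinearGroup k M) : Module.End k M) q0
        rw [Units.val_mul]; exact hx.mul_left hy
      inv_mem' := fun {x} hx => hx.units_inv_left }
  have hclB : cl X b ≤ H := by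
    intro x hx
    obtain ⟨c, hc, rfl⟩ := (mem_sameActionSubgroup hb).1 hx
    show Commute (ex c : Module.End k M) q0
    rcases hc with rfl | hc
    · rw [ex_zero]; exact Commute.one_left q0
    have hcB : SameClass X F.B c := class_trans (class_symm hb F.clB) hc
    rw [coe_ex hc.dmin.inG.sq]
    refine (Commute.one_left q0).add_left ?_
    have e1 : F.eB * c = c := by
      have h := kill_left hcB (y := 1 - F.eB) (by rw [sub_mul, one_mul, F.eB_B, sub_self])
      rwa [sub_mul, one_mul, sub_eq_zero, eq_comm] at h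
    have e2 : c * F.eA = c := by
      have h := kill_right hcB (y := 1 - F.eA) (by rw [mul_sub, mul_one, F.B_eA, sub_self])
      rwa [mul_sub, mul_one, sub_eq_zero, eq_comm] at h
    have e : c = F.B * (F.A * c * F.A) * F.B := by
      conv_lhs => rw [← e2, ← e1]
      simp [Frame.eA, Frame.eB, mul_assoc]
    rw [e]
    have hf : F.A * c * F.A ∈ classSpace ha := by
      rcases flip hk2 hk3 F.dminA hc.dmin with h0 | h0
      exacts [Or.inl h0, Or.inr (class_trans F.clA h0)]
    exact (hq0B.mul_left (comm_ex (inG_of_classSpace hf).sq (ex_class_mem_low ha hf))).mul_left hq0B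
  have hPH : P ≤ H := by
    refine le_of_generators hk2 hk3 hred ha (fun x hx => ?_) fun e he hoe => ?_
    · obtain ⟨c, hc, rfl⟩ := (mem_sameActionSubgroup ha).1 hx
      exact hc0 _ (ex_class_mem_low ha hc)
    · have hbI : InPart X a b := (InPart.refl ha).opp hk2 hk3 hb ho
      obtain ⟨u, hu, hue⟩ := exists_low_conj hp5 hk2 hk3 (Dmin.of_sub Prt_le ha (InPart.refl ha).inG)
        (Dmin.of_sub Prt_le hb hbI.inG) ho (Dmin.of_sub Prt_le he.dmin he.inG) hoe
      rw [hbI.cl_eq, he.cl_eq] at hue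
      have huH : u ∈ H := hc0 u hu
      rw [← hue]
      rintro _ ⟨x, hx, rfl⟩
      exact mul_mem (mul_mem huH (hclB hx)) (inv_mem huH)
  have hPq : ∀ x ∈ P, Commute (x : Module.End k M) q0 := hPH
  have cw : Commute q q0 := by
    have := hPq _ (hq.cl_le (ex_mem_sameActionSubgroup hq.dmin (SameClass.refl hq.dmin)))
    rw [coe_ex hq.dmin.inG.sq] at this
    have := this.sub_left (Commute.one_left q0)
    rwa [add_sub_cancel_left] at this
  have hqt : ∀ t, t ≠ 0 → Commute (cj (F.tor t) q) q0 := by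
    intro t ht
    have hm := hPq _ (htorP t)
    rw [cj]
    exact (hm.mul_left cw).mul_left hm.units_inv_left
  have c1 : Commute q1 q0 := by
    let T : Submodule k (Module.End k M) :=
      { carrier := {x | Commute x q0}
        zero_mem' := Commute.zero_left q0
        add_mem' := fun hx hy => hx.add_left hy
        smul_mem' := fun c x hx => hx.smul_left c }
    exact (F.comp_mem h2 h3 (S := T) hqt).2.1
  have c2 : Commute q2 q0 := by
    have : q2 = q - q0 - q1 := by conv_rhs => rw [hdec]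
                                  abel
    rw [this]; exact (cw.sub_left (Commute.refl q0)).sub_left c1
  have p00 : q0 * q0 = 0 := by
    rw [← Frame.w0_mul hqn hqn, hq.dmin.inG.sq]; simp [Frame.w0]
  have hW1 : F.IsW1 q1 := Frame.w1_isW1 q
  have p12 : q1 * q2 = 0 := by
    simp only [q2, Frame.w2]; rw [← mul_assoc, ← mul_assoc, hW1.rA, zero_mul, zero_mul]
  have p21 : q2 * q1 = 0 := by simp only [q2, Frame.w2]; rw [mul_assoc, hW1.lB, mul_zero]
  have p22 : q2 * q2 = 0 := by simp [q2, Frame.w2, mul_assoc]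
  have p11 : q1 * q1 = q0 * (-(2 : k) • q1 + -(2 : k) • q2) := by
    have h := hq.dmin.inG.sq
    rw [hdec] at h
    simp only [add_mul, mul_add, p00, p12, p21, p22, c1.eq, c2.eq, add_zero, zero_add] at h
    simp only [neg_smul, two_smul, mul_add, mul_neg]
    rw [← sub_eq_zero, ← h]; abel
  let J : Submodule k (Module.End k M) :=
    { carrier := {x | ∃ Z, Commute Z q0 ∧ x = q0 * Z}
      zero_mem' := ⟨0, Commute.zero_left q0, (mul_zero q0).symm⟩
      add_mem' := by
        rintro _ _ ⟨Z, hZ, rfl⟩ ⟨W, hW, rfl⟩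
        exact ⟨Z + W, hZ.add_left hW, (mul_add q0 Z W).symm⟩
      smul_mem' := by
        rintro c _ ⟨Z, hZ, rfl⟩
        exact ⟨c • Z, hZ.smul_left c, (mul_smul_comm c q0 Z).symm⟩ }
  have hJl : ∀ {x Z}, Commute Z q0 → x ∈ J → Z * x ∈ J := by
    rintro _ Z hZ ⟨W, hW, rfl⟩
    exact ⟨Z * W, hZ.mul_left hW, by rw [← mul_assoc, hZ.eq, mul_assoc]⟩
  have hJr : ∀ {x Z}, Commute Z q0 → x ∈ J → x * Z ∈ J := by
    rintro _ Z hZ ⟨W, hW, rfl⟩
    exact ⟨W * Z, hW.mul_left hZ, mul_assoc _ _ _⟩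
  have hJ0 : q0 ∈ J := ⟨1, Commute.one_left q0, (mul_one q0).symm⟩
  have hprod : ∀ c c' d d' e e' : k, (c • q0 + d • q1 + e • q2) * (c' • q0 + d' • q1 + e' • q2) ∈ J := by
    intro c c' d d' e e'
    simp only [add_mul, mul_add, smul_add, smul_mul_assoc, mul_smul_comm, p00, p12, p21, p22, smul_zero, add_zero,
      zero_add]
    have m11 : q1 * q1 ∈ J := ⟨_, ((c1.smul_left _).add_left (c2.smul_left _)), p11⟩
    repeat' apply J.add_mem
    all_goals refine J.smul_mem _ (J.smul_mem _ ?_)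
    all_goals first
      | exact hJr c1 hJ0
      | exact hJr c2 hJ0
      | exact hJl c1 hJ0
      | exact hJl c2 hJ0
      | exact m11
  let K : Subgroup (LinearMap.GeneralLinearGroup k M) :=
    { carrier := {x | x ∈ P ∧ (x : Module.End k M) - 1 ∈ J}
      one_mem' := ⟨one_mem _, by rw [Units.val_one, sub_self]; exact zero_mem _⟩
      mul_mem' := fun {x y} hx hy => ⟨mul_mem hx.1 hy.1, by
        rw [Units.val_mul, show (x : Module.End k M) * y - 1 = ((x : Module.End k M) - 1) * y + ((y : Module.End k M) - 1) by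
          rw [sub_mul, one_mul]; abel]
        exact add_mem (hJr (hPq y hy.1) hx.2) hy.2⟩
      inv_mem' := fun {x} hx => ⟨inv_mem hx.1, by
        rw [show ((x⁻¹ : LinearMap.GeneralLinearGroup k M) : Module.End k M) - 1 =
          -(((x⁻¹ : LinearMap.GeneralLinearGroup k M) : Module.End k M) * ((x : Module.End k M) - 1)) by
          rw [mul_sub, Units.inv_mul, mul_one]; abel]
        exact neg_mem (hJl (hPq _ (inv_mem hx.1)) hx.2)⟩ }
  have hKbot : K = ⊥ := by
    refine prt_reduced hk2 hk3 hred K (fun x hx => hx.1) (S5061.nil_iff_isUnipotentOn.1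
      (S5061.nil_iff.2 ⟨2, fun l hl hlen => ?_⟩)) fun g hg => ?_
    · match l, hlen, hl with
      | [u, w], _, hl =>
        obtain ⟨-, Z, hZ, hu⟩ := hl u (by simp)
        obtain ⟨-, W, -, hw⟩ := hl w (by simp)
        simp only [List.map_cons, List.map_nil, List.prod_cons, List.prod_nil, mul_one]
        show ((u : Module.End k M) - 1) * ((w : Module.End k M) - 1) = 0
        rw [hu, hw, mul_assoc q0, ← mul_assoc Z, hZ.eq, ← mul_assoc, ← mul_assoc, p00, zero_mul, zero_mul]
    · have key : ∀ g ∈ P, conjBy K g ≤ K := by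
        rintro g hg _ ⟨x, hx, rfl⟩
        refine ⟨mul_mem (mul_mem hg hx.1) (inv_mem hg), ?_⟩
        show ((g * x * g⁻¹ : LinearMap.GeneralLinearGroup k M) : Module.End k M) - 1 ∈ J
        rw [Units.val_mul, Units.val_mul, show (g : Module.End k M) * x * ((g⁻¹ : LinearMap.GeneralLinearGroup k M) : Module.End k M) - 1 =
          (g : Module.End k M) * ((x : Module.End k M) - 1) * ((g⁻¹ : LinearMap.GeneralLinearGroup k M) : Module.End k M) by
          rw [mul_sub, mul_one, sub_mul, Units.mul_inv]]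
        exact hJr (hPq _ (inv_mem hg)) (hJl (hPq g hg) hx.2)
      exact RankOne.conjBy_of_mem_normalizer (RankOne.le_normalizer_of_conjBy_le key hg)
  -- the element of `K`
  have hmem : ∀ (c t : k), InG P (c • cj (F.tor t) q) := fun c t => (hq.inG.conj (htorP t)).smul c
  have n1 : (-1 : k) ≠ 0 := neg_ne_zero.2 one_ne_zero
  have ecj : ∀ (c t : k), t ≠ 0 → c • cj (F.tor t) q = c • q0 + (c * t) • q1 + (c * (t * t)) • q2 := by
    intro c t ht
    rw [F.cj_tor ht, show F.wn q = 0 by rw [Frame.wn, hqn.oA, hqn.bO, add_zero],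
      show F.wm2 q = 0 from hqn.bA]
    simp [smul_add, smul_smul]; rfl
  have h1q : q = (1 : k) • q0 + (1 * 1 : k) • q1 + (1 * (1 * 1) : k) • q2 := by
    simp only [one_mul, one_smul]; exact hdec
  set m1 := (3 : k)⁻¹ • cj (F.tor (-1)) q
  set m2 := (-(3 : k)⁻¹) • cj (F.tor 2) q
  have hsum : q + m1 + m2 = q0 := by
    conv_lhs => rw [show m1 = _ from ecj _ _ n1, show m2 = _ from ecj _ _ h2, h1q]
    match_scalars <;> field_simp <;> ring
  have hjm : q * m1 ∈ J := by
    conv => enter [2]; rw [show m1 = _ from ecj _ _ n1]; enter [1]; rw [h1q]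
    exact hprod _ _ _ _ _ _
  have hjm' : q * m2 ∈ J := by
    conv => enter [2]; rw [show m2 = _ from ecj _ _ h2]; enter [1]; rw [h1q]
    exact hprod _ _ _ _ _ _
  have hjmm : m1 * m2 ∈ J := by
    rw [show m1 = _ from ecj _ _ n1, show m2 = _ from ecj _ _ h2]
    exact hprod _ _ _ _ _ _
  set u := ex q * ex m1 * ex m2
  have hu : (u : Module.End k M) - 1 = q0 + (q * m1 + q * m2 + m1 * m2 + q * m1 * m2) := by
    rw [← hsum]
    simp only [u, Units.val_mul, coe_ex hq.dmin.inG.sq, coe_ex (hmem _ _).sq, m1, m2]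
    simp only [add_mul, mul_add, one_mul, mul_one]; abel
  have cm2 : Commute m2 q0 := (hqt 2 h2).smul_left _
  have hk : u ∈ K := ⟨mul_mem (mul_mem hq.inG.ex_mem (hmem _ _).ex_mem) (hmem _ _).ex_mem, by
    rw [hu]; exact add_mem hJ0 (add_mem (add_mem (add_mem hjm hjm') hjmm) (hJr cm2 hjm))⟩
  rw [hKbot, Subgroup.mem_bot] at hk
  rw [hk, Units.val_one, sub_self] at hu
  have hnm : ∀ {t : k}, t ≠ 0 → ∀ c : k, F.IsNonneg (c • cj (F.tor t) q) ∧ F.w0 (c • cj (F.tor t) q) = c • q0 := by
    intro t ht c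
    have e : cj (F.tor t) q = q0 + t • q1 + (t * t) • q2 := by
      have := ecj 1 t ht
      simpa only [one_smul, one_mul] using this
    have n0 : F.IsNonneg (cj (F.tor t) q) := by
      rw [e]; constructor <;>
        simp [q0, q1, q2, Frame.w0, Frame.w1, Frame.w2, mul_assoc, add_mul, mul_add, mul_smul_comm, smul_mul_assoc]
    refine ⟨⟨?_, ?_, ?_⟩, ?_⟩
    · rw [mul_smul_comm, smul_mul_assoc, n0.bA, smul_zero]
    · rw [mul_smul_comm, smul_mul_assoc, n0.oA, smul_zero]
    · rw [mul_smul_comm, smul_mul_assoc, n0.bO, smul_zero]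
    · rw [Frame.w0_smul, e]
      congr 1
      simp [q0, q1, q2, Frame.w0, Frame.w1, Frame.w2, mul_assoc, add_mul, mul_add, mul_smul_comm, smul_mul_assoc]
  obtain ⟨nm1, em1⟩ := hnm n1 (3 : k)⁻¹
  obtain ⟨nm2, em2⟩ := hnm h2 (-(3 : k)⁻¹)
  have h4 := congrArg F.w0 hu
  rw [Frame.w0_add, Frame.w0_add, Frame.w0_add, Frame.w0_add, Frame.w0_mul hqn nm1, Frame.w0_mul hqn nm2,
    Frame.w0_mul nm1 nm2, Frame.w0_mul (hqn.mul nm1) nm2, Frame.w0_mul hqn nm1, em1, em2,
    (Frame.w0_isW0 q).w0_eq] at h4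
  have hz : F.w0 (0 : Module.End k M) = 0 := by simp [Frame.w0]
  simp [hz, p00, mul_assoc] at h4
  exact h4.symm

end Cfsg.Agent.EquivZJ
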