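import Cfsg.Agent.Lib.EquivZJ.Nil
import Cfsg.Agent.Lib.EquivZJ.Nondeg
import Cfsg.Agent.Lib.EquivZJ.Unique

/-!
An element `N` centralising two opposite classes.
* `Centred X a b N Q`
* `Centred.double_bracket` : `[[N, z], r] = 0` on weight one
* `Centred.comm_one` : `N` centralises weight one
-/

set_option autoImplicit false
set_option linter.unusedSectionVars false

namespace Cfsg.Agent.EquivZJ

open Cfsg Module Cfsg.Agent.QuadRoot Cfsg.Agent.CoprimeZJ

universe u v

variable {k : Type u} [Field k] {M : Type v} [AddCommGroup M] [Module k M] [FiniteDimensional k M]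
  {X Q : Subgroup (LinearMap.GeneralLinearGroup k M)} {a b x y z r e N : Module.End k M}
  {g : LinearMap.GeneralLinearGroup k M}

/-- `N` centralises the classes of `a` and `b` and lies in a unipotent group normalised by their stabiliser. -/
structure Centred (X : Subgroup (LinearMap.GeneralLinearGroup k M)) (a b N : Module.End k M)
    (Q : Subgroup (LinearMap.GeneralLinearGroup k M)) : Prop where
  da : Dmin X a
  db : Dmin X b
  opp : Opp a b
  inG : InG X N
  cA : ∀ c, SameClass X a c → Commute N c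
  cB : ∀ c, SameClass X b c → Commute N c
  mem : ex N ∈ Q
  nil : IsUnipotentOn Q
  norm : ∀ y ∈ Prt X a, y ∈ Subgroup.normalizer ((cl X a : Subgroup (LinearMap.GeneralLinearGroup k M)) : Set _) →
    y ∈ Subgroup.normalizer ((cl X b : Subgroup (LinearMap.GeneralLinearGroup k M)) : Set _) →
    y ∈ Subgroup.normalizer (Q : Set (LinearMap.GeneralLinearGroup k M))

theorem prt_eq (h : InPart X a b) : Prt X b = Prt X a := by
  have : part X (cl X b) = part X (cl X a) := by
    ext B
    exact ⟨fun hB => ⟨hB.1, h.2.trans hB.2⟩, fun hB => ⟨hB.1, (RankOne.fReach_symm h.2).trans hB.2⟩⟩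
  show (⨆ B ∈ part X (cl X b), B) = ⨆ B ∈ part X (cl X a), B
  rw [this]

namespace Frame

variable {F : Frame X a b}

theorem IsW1.mul_w0 (h : F.IsW1 x) (hy : F.IsW0 y) : F.IsW1 (x * y) := by
  refine ⟨by rw [mul_assoc, hy.cA.eq, ← mul_assoc, h.rA, zero_mul], by rw [← mul_assoc, h.lB, zero_mul], ?_, ?_⟩
  · rw [← mul_assoc, mul_assoc (F.eO * x), hy.cO.eq, ← mul_assoc, h.mid, zero_mul]
  · rw [← mul_assoc, mul_assoc (F.eA * x), hy.cB.eq, ← mul_assoc, h.top, zero_mul]

theorem IsW1.w0_mul' (h : F.IsW1 x) (hy : F.IsW0 y) : F.IsW1 (y * x) := by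
  refine ⟨by rw [mul_assoc, h.rA, mul_zero], by rw [← mul_assoc, ← hy.cB.eq, mul_assoc, h.lB, mul_zero], ?_, ?_⟩
  · rw [← mul_assoc, ← hy.cO.eq, mul_assoc, mul_assoc, ← mul_assoc F.eO, h.mid, mul_zero]
  · rw [← mul_assoc, ← hy.cA.eq, mul_assoc, mul_assoc, ← mul_assoc F.eA, h.top, mul_zero]

theorem IsW1.cj_tor_symm (h : F.symm.IsW1 x) {t : k} (ht : t ≠ 0) : cj (F.tor t) x = t⁻¹ • x := by
  have e1 : F.w1 x = 0 := by
    rw [w1, mul_assoc F.eO x, show x * F.eB = 0 from h.rA, mul_zero, add_zero,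
      show F.eA * x = 0 from h.lB, zero_mul]
  have e2 : F.w2 x = 0 := by rw [w2, show F.eA * x = 0 from h.lB, zero_mul]
  have e3 : F.wm2 x = 0 := h.top
  have e4 : F.wn x = x := by rw [← symm_w1]; exact h.w1_eq
  have e5 : F.w0 x = 0 := by
    rw [w0, show F.eA * x = 0 from h.lB, mul_assoc _ x F.eB, show x * F.eB = 0 from h.rA,
      show F.eO * x * F.eO = 0 by simpa using h.mid]
    simp
  rw [F.cj_tor ht, e1, e2, e3, e4, e5]; simp

theorem inPart_one (hk2 : ringChar k ≠ 2) (hk3 : Nat.card k ≠ 3) (hred : Reduced X) (ha : Dmin X a)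
    (hb : Dmin X b) (ho : Opp a b) (hz : Dmin X z) (hW : F.IsW1 z) : InPart X a z :=
  (((InPart.refl ha).opp hk2 hk3 hb ho).of_class F.clB).bracket hk2 hk3 hred hz (by
    rw [← neg_sub, neg_ne_zero]; exact (Frame.partner hk2 hz hW).1.ne)

variable (hk2 : ringChar k ≠ 2) (hk3 : Nat.card k ≠ 3)
include hk2 hk3

/-- The representative `A` has weight one for a frame made of a weight one class. -/
theorem isW1_A {z₀ r₀ : Module.End k M} (G : Frame X z₀ r₀) (ha : Dmin X a) (hz : F.IsW1 G.A)
    (hr : F.symm.IsW1 G.B) : G.IsW1 F.A := by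
  obtain ⟨hrD, hrW, -⟩ := Frame.partner (F := F.symm) hk2 G.dminB hr
  simp only [Frame.symm_B, Frame.symm_symm] at hrD hrW
  set a1 := G.eA * F.A + F.A * G.eB
  have ha1 : a1 ∈ classSpace ha := by
    have h := Frame.bracket_mem (F := F) ha G.dminA.inG hrD.inG hz hrW
    rw [Frame.bracket_eq hz] at h
    show G.A * G.B * F.A + F.A * (G.B * G.A) ∈ _
    rwa [← mul_assoc F.A]
  have hne : a1 ≠ 0 := by
    show G.A * G.B * F.A + F.A * (G.B * G.A) ≠ 0
    rw [← mul_assoc F.A]
    exact Frame.key_ne hk2 G.dminA hz G.dminB hr G.aba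
  have hBAB : G.B * F.A * G.B = 0 := (unipotent_pair hk2 G.dminB F.dminA fun ho => hr.not_opp_B ho.symm).1
  have m1 : G.eA * F.A * G.eB = 0 := by
    show G.A * G.B * F.A * (G.B * G.A) = 0
    rw [← mul_assoc, mul_assoc G.A, mul_assoc G.A, hBAB, mul_zero, zero_mul]
  have hA1 : F.A * G.eA = 0 := by show F.A * (G.A * G.B) = 0; rw [← mul_assoc, hz.Ax, zero_mul]
  have hB1 : G.eB * F.A = 0 := by show G.B * G.A * F.A = 0; rw [mul_assoc, hz.xA, mul_zero]
  have hsub : F.A - a1 ∈ classSpace ha := sub_mem (Or.inr F.clA) ha1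
  have heq : F.A = a1 := by
    by_contra h
    have hc := hsub.resolve_left (sub_ne_zero.2 h)
    have l0 : G.eA * (F.A - a1) = 0 := by
      simp only [a1, mul_sub, mul_add, ← mul_assoc, eA_eA, m1]; abel
    have r0 : (F.A - a1) * G.eB = 0 := by
      simp only [a1, sub_mul, add_mul, mul_assoc, eB_eB]
      rw [← mul_assoc G.eA, m1]; abel
    have h1 := kill_left (class_trans (class_symm ha hc) F.clA) l0
    have h2 := kill_right (class_trans (class_symm ha hc) F.clA) r0
    exact hne (by simp only [a1, h1, h2, add_zero])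
  refine ⟨hA1, hB1, ?_, m1⟩
  rw [heq]
  simp [a1, mul_add, add_mul, mul_assoc]

end Frame

namespace Centred

variable (h : Centred X a b N Q)
include h

theorem part_b (hk2 : ringChar k ≠ 2) (hk3 : Nat.card k ≠ 3) : InPart X a b :=
  (InPart.refl h.da).opp hk2 hk3 h.db h.opp

theorem symm (hk2 : ringChar k ≠ 2) (hk3 : Nat.card k ≠ 3) : Centred X b a N Q :=
  ⟨h.db, h.da, h.opp.symm, h.inG, h.cB, h.cA, h.mem, h.nil, fun y hy h1 h2 =>
    h.norm y (prt_eq (h.part_b hk2 hk3) ▸ hy) h2 h1⟩

variable (F : Frame X a b)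

theorem commA : Commute N F.A := h.cA _ F.clA
theorem commB : Commute N F.B := h.cB _ F.clB
theorem isW0 : F.IsW0 N := Frame.IsW0.of_commute (h.commA F) (h.commB F)

theorem normalizes {y : LinearMap.GeneralLinearGroup k M} (hy : y ∈ Prt X a)
    (hA : cj y F.A ∈ classSpace h.da) (hB : cj y F.B ∈ classSpace h.db) :
    y ∈ Subgroup.normalizer (Q : Set (LinearMap.GeneralLinearGroup k M)) := by
  have hN : y ∈ Subgroup.normalizer (X : Set (LinearMap.GeneralLinearGroup k M)) :=
    Subgroup.le_normalizer (Prt_le hy)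
  have key : ∀ {c d : Module.End k M} (hc : Dmin X c), SameClass X c d → cj y d ∈ classSpace hc →
      y ∈ Subgroup.normalizer ((cl X c : Subgroup (LinearMap.GeneralLinearGroup k M)) : Set _) := by
    intro c d hc hd hm
    have h1 := hm.resolve_left fun e => hd.dmin.ne ((cj_eq_zero _ _).1 e)
    exact mem_normalizer_cl hN hc (class_trans h1 (class_cj hN (class_symm hc hd)))
  exact h.norm y hy (key h.da F.clA hA) (key h.db F.clB hB)

theorem ex_w0_normalizes (hred : Reduced X) (hk2 : ringChar k ≠ 2) (hk3 : Nat.card k ≠ 3) (he : Dmin X e) (hP : ex e ∈ Prt X a)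
    (hW : F.IsW0 e) : ex e ∈ Subgroup.normalizer (Q : Set (LinearMap.GeneralLinearGroup k M)) := by
  have hsq := he.inG.sq
  have hu : ∀ {E}, Commute e E → Commute (ex e : Module.End k M) E := fun hE => by
    rw [coe_ex hsq]; exact (Commute.one_left _).add_left hE
  have fix : ∀ {E : Module.End k M}, Commute e E → cj (ex e) E = E := fun hE => by
    rw [cj, (hu hE).eq, mul_assoc, Units.mul_inv, mul_one]
  refine h.normalizes F hP ?_ ?_
  · refine Frame.mem_a_of_weight (F := F) h.da (F.dminA.inG.conj he.inG.ex_mem) ?_ ?_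
    · conv_lhs => enter [1]; rw [← fix hW.cA]
      rw [← cj_mul, F.eA_A]
    · conv_lhs => enter [2]; rw [← fix hW.cB]
      rw [← cj_mul, F.A_eB]
  · refine Frame.mem_a_of_weight (F := F.symm) h.db (F.dminB.inG.conj he.inG.ex_mem) ?_ ?_
    · conv_lhs => enter [1]; rw [Frame.symm_eA, ← fix hW.cB]
      rw [← cj_mul, F.eB_B]
    · conv_lhs => enter [2]; rw [Frame.symm_eB, ← fix hW.cA]
      rw [← cj_mul, F.B_eA]

theorem cj_w1 {F : Frame X a b} (hz : F.IsW1 z) {g : LinearMap.GeneralLinearGroup k M}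
    (hg : g ∈ Subgroup.zpowers (ex N)) : F.IsW1 (cj g z) := by
  have hc : ∀ {E}, Commute N E → Commute (g : Module.End k M) E := by
    intro E hE
    obtain ⟨m, rfl⟩ := hg
    have h1 : Commute (ex N : Module.End k M) E := by rw [coe_ex h.inG.sq]; exact (Commute.one_left _).add_left hE
    show Commute (((ex N) ^ m : LinearMap.GeneralLinearGroup k M) : Module.End k M) E
    exact h1.units_zpow_left m
  exact hz.conj (hc (h.isW0 F).cA) (hc (h.isW0 F).cB)

variable [Finite M] [Finite k] {p : ℕ} [hp : Fact p.Prime] [CharP k p]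
variable (hp5 : 5 ≤ p) (hk2 : ringChar k ≠ 2) (hk3 : Nat.card k ≠ 3) (hred : Reduced X)
include hp5 hk2 hk3 hred

theorem sandwich_one (hz : Dmin X z) (hW : F.IsW1 z) : z * N * z = 0 := by
  set g := ex N
  have hgX : g ∈ X := h.inG.ex_mem
  have hgN : g ∈ Subgroup.normalizer (X : Set (LinearMap.GeneralLinearGroup k M)) := Subgroup.le_normalizer hgX
  have hfix : cj g F.A = F.A := by
    rw [cj_ex h.inG.sq, mul_sub, mul_one, add_mul, one_mul, add_mul, mul_assoc N F.A N, ← (h.commA F).eq,
      ← mul_assoc N N, h.inG.sq, zero_mul, add_zero, (h.commA F).eq]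
    abel
  have hga : g ∈ Subgroup.normalizer ((cl X a : Subgroup (LinearMap.GeneralLinearGroup k M)) : Set _) := by
    refine mem_normalizer_cl hgN h.da (class_trans F.clA ?_)
    have := class_cj hgN (class_symm h.da F.clA)
    rwa [hfix] at this
  set U := lowSub (Prt X a) a h.da.inG.sq
  have hnP : g ∈ Subgroup.normalizer (Prt X a : Set (LinearMap.GeneralLinearGroup k M)) := by
    refine RankOne.le_normalizer_of_conjBy_le (H := Subgroup.zpowers g) ?_ (Subgroup.mem_zpowers g)
    intro y hy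
    have hyN : y ∈ Subgroup.normalizer (X : Set (LinearMap.GeneralLinearGroup k M)) :=
      (Subgroup.zpowers_le.2 hgN) hy
    have := partGroup_conj_le hyN (cl X a)
    rwa [RankOne.conjBy_of_mem_normalizer ((Subgroup.zpowers_le.2 hga) hy)] at this
  have hgU : Subgroup.zpowers g ≤ Subgroup.normalizer (U : Set (LinearMap.GeneralLinearGroup k M)) := by
    refine RankOne.le_normalizer_of_conjBy_le fun y hy => ?_
    rintro _ ⟨u, hu, rfl⟩
    obtain ⟨huP, hl⟩ := (mem_lowSub h.da.inG.sq).1 hu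
    obtain ⟨hr, hk⟩ := fix_flag ((Subgroup.zpowers_le.2 hgN) hy) h.da ((Subgroup.zpowers_le.2 hga) hy)
    exact (mem_lowSub h.da.inG.sq).2
      ⟨(Subgroup.mem_normalizer_iff.1 ((Subgroup.zpowers_le.2 hnP) hy) _).1 huP, isLow_conj hr hk hl⟩
  have hU : IsUnipotentOn U := isUnipotentOn_of_isPGroup (isPGroup_lowSub (p := p) (by omega) h.da.inG.sq)
  have hS := nil_sup hU (unipotent_mono h.nil (Subgroup.zpowers_le.2 h.mem)) hgU
  exact sandwich_zero hk2 hS h.inG hz (Subgroup.mem_sup_right (Subgroup.mem_zpowers _))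
    (Subgroup.mem_sup_left (ex_w1_mem_low h.da (Frame.inPart_one hk2 hk3 hred h.da h.db h.opp hz hW) hW))

theorem translates (hz : Dmin X z) (hW : F.IsW1 z) :
    cj (ex N) z = z + (N * z - z * N) - N * z * N ∧ cj (ex (-N)) z = z - (N * z - z * N) - N * z * N := by
  constructor
  · rw [cj_ex h.inG.sq, mul_sub, mul_one, add_mul, one_mul, add_mul]; abel
  · rw [cj_ex h.inG.neg.sq]
    simp [mul_add, add_mul, mul_sub, sub_mul, mul_assoc]
    abel

theorem translate_classes (hz : Dmin X z) (hW : F.IsW1 z) :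
    cj (ex N) z ∈ oneClasses F ∧ cj (ex (-N)) z ∈ oneClasses F :=
  ⟨⟨hz.conj h.inG.ex_mem, h.cj_w1 hW (Subgroup.mem_zpowers _)⟩,
    ⟨hz.conj h.inG.neg.ex_mem, h.cj_w1 hW (by rw [← ex_inv h.inG.sq]; exact inv_mem (Subgroup.mem_zpowers _))⟩⟩

/-- The double bracket vanishes on weight one. -/
theorem double_bracket (hr : Dmin X r) (hrW : F.IsW1 r) (hz : Dmin X z) (hzW : F.IsW1 z) :
    (N * z - z * N) * r - r * (N * z - z * N) = 0 := by
  have h2 : (2 : k) ≠ 0 := Frame.two_ne hp5
  have h3 : (3 : k) ≠ 0 := Frame.three_ne hp5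
  have hN0 := h.isW0 F
  set d := N * z - z * N with hd
  have hdW : F.IsW1 d := (hzW.w0_mul' hN0).sub (hzW.mul_w0 hN0)
  set cc := d * r - r * d
  have hzz := h.sandwich_one F hp5 hk2 hk3 hred hz hzW
  obtain ⟨t1, t2⟩ := h.translates F hp5 hk2 hk3 hred hz hzW
  obtain ⟨c1, c2⟩ := h.translate_classes F hp5 hk2 hk3 hred hz hzW
  have hcc : cc ∈ classSpace h.da := by
    have m1 := Frame.bracket_mem (F := F) h.da c1.1.inG hr.inG c1.2 hrW
    have m2 := Frame.bracket_mem (F := F) h.da c2.1.inG hr.inG c2.2 hrW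
    have m := sub_mem m1 m2
    rw [show cj (ex N) z * r - r * cj (ex N) z - (cj (ex (-N)) z * r - r * cj (ex (-N)) z) = (2 : k) • cc by
      rw [t1, t2]; simp only [cc, ← hd, two_smul, add_mul, mul_add, sub_mul, mul_sub]; abel] at m
    exact ((classSpace h.da).smul_mem_iff h2).1 m
  obtain ⟨hρ, hρW, hρA⟩ := Frame.partner hk2 hr hrW
  set ρ := r * F.B - F.B * r
  obtain ⟨q1, q2⟩ := unipotent_pair hk2 hr F.dminB fun ho => hrW.not_opp_B ho.symm
  set B' := F.B * cc * F.B
  have ident : ρ * d * ρ = r * B' - B' * r := by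
    simp only [ρ, B', cc, mul_sub, sub_mul, ← mul_assoc]
    simp only [mul_assoc r F.B, mul_assoc _ F.B r]
    have e1 : r * (F.B * d) * (F.B * r) = r * (F.B * d * F.B) * r := by simp [mul_assoc]
    have e2 : F.B * r * d * r * F.B = F.B * (r * d * r) * F.B := by simp [mul_assoc]
    have e3 : r * (F.B * r) = 0 := by rw [← mul_assoc]; exact q1
    simp only [← mul_assoc]
    have f1 : r * F.B * d * F.B * r = r * (F.B * d * F.B) * r := by simp [mul_assoc]
    have f2 : F.B * r * d * r * F.B = F.B * (r * d * r) * F.B := by simp [mul_assoc]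
    have f3 : r * F.B * r * d * F.B = r * F.B * r * (d * F.B) := by simp [mul_assoc]
    have f4 : F.B * d * r * F.B * r = F.B * d * (r * F.B * r) := by simp [mul_assoc]
    rw [f1, f2, f3, f4, hdW.BxB, hrW.triple hdW hrW, q1]
    simp
  have hB' : B' ∈ classSpace h.db := by
    rcases hcc with h0 | h0
    · exact Or.inl (by simp only [B', h0, mul_zero, zero_mul])
    rcases flip hk2 hk3 F.dminB h0.dmin with h1 | h1
    exacts [Or.inl h1, Or.inr (class_trans F.clB h1)]
  suffices hzero : ρ * d * ρ = 0 by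
    have hB0 : B' = 0 := by
      by_contra hne
      have hc : SameClass X F.B B' := class_trans (class_symm h.db F.clB) (hB'.resolve_left hne)
      have hno : ¬ Opp r F.B := fun ho => hrW.not_opp_B ho.symm
      have h0 : r * B' - B' * r = 0 := ident ▸ hzero
      exact hρ.ne (bracket_zero_of_zero hk2 hk3 hr hc.dmin
        (not_opp_of_class hk2 hk3 hr F.dminB hno (SameClass.refl hr) hc) h0 (SameClass.refl hr)
        (class_symm F.dminB hc))
    obtain ⟨a1, a2⟩ := hdW.mul hrW
    obtain ⟨b1, b2⟩ := hrW.mul hdW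
    calc cc = F.eA * cc * F.eB := by simp only [cc, mul_sub, sub_mul, a1, b1, a2, b2]
      _ = F.A * B' * F.A := by simp only [B', Frame.eA, Frame.eB, mul_assoc]
      _ = 0 := by rw [hB0]; simp
  have hρNρ : ρ * N * ρ = 0 := (h.symm hk2 hk3).sandwich_one F.symm hp5 hk2 hk3 hred hρ hρW
  have hzI : InPart X a z := Frame.inPart_one hk2 hk3 hred h.da h.db h.opp hz hzW
  by_cases ho : Opp z ρ
  · obtain ⟨n, zz, -, hzz', u1, u2, -, -⟩ := exists_swap hk2 hk3 hz hρ ho (SameClass.refl hz)
    let G : Frame X z ρ := ⟨z, zz, SameClass.refl hz, hzz', u1, u2⟩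
    have hrhW : F.symm.IsW1 zz := Frame.class_pure hk2 hk3 hred hρ hρW hzz'
    have hGA : G.IsW1 F.A := Frame.isW1_A (F := F) hk2 hk3 G h.da hzW hrhW
    have hGB : G.symm.IsW1 F.B := Frame.isW1_A (F := F.symm) hk2 hk3 G.symm h.db hrhW hzW
    have hzzI : InPart X a zz := (hzI.opp hk2 hk3 hρ ho).of_class hzz'
    have htorN : ∀ t : k, t ≠ 0 → G.tor t ∈ Subgroup.normalizer (Q : Set (LinearMap.GeneralLinearGroup k M)) := by
      intro t ht
      have hm : G.tor t ∈ Prt X a :=
        sup_le hzI.cl_le (hzI.opp hk2 hk3 hρ ho).cl_le (G.tor_mem_sup hz hρ t)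
      refine h.normalizes F hm ?_ ?_
      · rw [hGA.cj_tor ht]; exact Submodule.smul_mem _ t (Or.inr F.clA)
      · rw [Frame.IsW1.cj_tor_symm hGB ht]; exact Submodule.smul_mem _ _ (Or.inr F.clB)
    set N0 := G.w0 N with hN0def
    have hnil : IsNilpotent N0 := nilpotent_of_span h.nil ((G.comp_mem h2 h3
      (S := Submodule.span k {e | ∃ u ∈ Q, (u : Module.End k M) - 1 = e}) fun t ht => Submodule.subset_span
        ⟨G.tor t * ex N * (G.tor t)⁻¹, (Subgroup.mem_normalizer_iff.1 (htorN t ht) _).1 h.mem, by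
          rw [conj_ex _ h.inG.sq, coe_sub_ex (h.inG.conj (G.tor_mem hz hρ t)).sq]⟩).1)
    have hN0c : ∀ c, SameClass X a c ∨ SameClass X b c → Commute N0 c := by
      let T : Submodule k (Module.End k M) :=
        { carrier := {x | ∀ c, SameClass X a c ∨ SameClass X b c → Commute x c}
          zero_mem' := fun c _ => Commute.zero_left c
          add_mem' := fun hx hy c hc => (hx c hc).add_left (hy c hc)
          smul_mem' := fun s x hx c hc => (hx c hc).smul_left s }
      refine (G.comp_mem h2 h3 (S := T) fun t ht => ?_).1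
      intro c hc
      have hm : G.tor t ∈ Prt X a :=
        sup_le hzI.cl_le (hzI.opp hk2 hk3 hρ ho).cl_le (G.tor_mem_sup hz hρ t)
      have hN : G.tor t ∈ Subgroup.normalizer (X : Set (LinearMap.GeneralLinearGroup k M)) :=
        Subgroup.le_normalizer (G.tor_mem hz hρ t)
      have htinv : G.tor t⁻¹ ∈ Subgroup.normalizer (X : Set (LinearMap.GeneralLinearGroup k M)) :=
        Subgroup.le_normalizer (G.tor_mem hz hρ t⁻¹)
      have hcl : ∀ {c' d' : Module.End k M} (hc' : Dmin X c'), SameClass X c' d' →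
          (∃ s : k, s ≠ 0 ∧ cj (G.tor t⁻¹) d' = s • d') → ∀ {e}, SameClass X c' e →
          SameClass X c' (cj (G.tor t⁻¹) e) := by
        rintro c' d' hc' hd ⟨s, hs, he⟩ e hce
        have hn : G.tor t⁻¹ ∈ Subgroup.normalizer ((cl X c' : Subgroup (LinearMap.GeneralLinearGroup k M)) : Set _) := by
          refine mem_normalizer_cl htinv hc' (class_trans (hd.smul hs) ?_)
          rw [← he]
          exact class_cj htinv (class_symm hc' hd)
        exact class_of_normalizer htinv hc' hn hce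
      have hti : t⁻¹ ≠ 0 := inv_ne_zero ht
      have key : Commute N (cj (G.tor t⁻¹) c) := by
        rcases hc with hc | hc
        · exact h.cA _ (hcl h.da F.clA ⟨_, hti, hGA.cj_tor hti⟩ hc)
        · exact h.cB _ (hcl h.db F.clB ⟨_, inv_ne_zero hti, Frame.IsW1.cj_tor_symm hGB hti⟩ hc)
      have h' := congrArg (cj (G.tor t)) key.eq
      rw [cj_mul, cj_mul, cj_cj, ← G.tor_mul ht hti, mul_inv_cancel₀ ht, G.tor_one] at h'
      rw [show cj 1 c = c by simp [cj]] at h'
      exact h'
    set L := classSpace hz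
    let D : Module.End k (Module.End k M) := LinearMap.mulLeft k N0 - LinearMap.mulRight k N0
    have hD : ∀ w, D w = N0 * w - w * N0 := fun w => rfl
    have hDnil : IsNilpotent D := by
      refine Commute.isNilpotent_sub (LinearMap.ext fun w => ?_) ?_ ?_
      · simp [mul_assoc]
      · obtain ⟨m, hm⟩ := hnil; exact ⟨m, by rw [LinearMap.pow_mulLeft, hm]; ext w; simp⟩
      · obtain ⟨m, hm⟩ := hnil; exact ⟨m, by rw [LinearMap.pow_mulRight, hm]; ext w; simp⟩
    have hL2 : ∀ w ∈ L, D w = G.eA * (N * w - w * N) * G.eB := by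
      intro w hw
      have hGw : G.eA * w = w ∧ w * G.eB = w ∧ w * G.eA = 0 ∧ G.eB * w = 0 ∧ w * G.eO = 0 ∧ G.eO * w = 0 := by
        rcases hw with rfl | hw
        · simp
        have kl : ∀ {E : Module.End k M}, E * G.A = 0 → E * w = 0 := fun hE => kill_left hw hE
        have kr : ∀ {E : Module.End k M}, G.A * E = 0 → w * E = 0 := fun hE => kill_right hw hE
        refine ⟨?_, ?_, kr (by simp), kl (by simp), kr (by simp), kl (by simp)⟩
        · have := kl (E := 1 - G.eA) (by simp [sub_mul])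
          rwa [sub_mul, one_mul, sub_eq_zero, eq_comm] at this
        · have := kr (E := 1 - G.eB) (by simp [mul_sub])
          rwa [mul_sub, mul_one, sub_eq_zero, eq_comm] at this
      obtain ⟨g1, g2, g3, g4, g5, g6⟩ := hGw
      have n1 : N0 * w = G.eA * (N * w) := by
        conv_lhs => rw [hN0def, Frame.w0, add_mul, add_mul, mul_assoc _ G.eA w, g1, mul_assoc _ G.eB w, g4,
          mul_assoc _ G.eO w, g6, mul_zero, mul_zero, add_zero, add_zero, mul_assoc]
      have n2 : w * N0 = w * N * G.eB := by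
        conv_lhs => rw [hN0def, Frame.w0, mul_add, mul_add, ← mul_assoc, ← mul_assoc, g3, ← mul_assoc w (G.eO * N),
          ← mul_assoc w G.eO, g5, ← mul_assoc w (G.eB * N), ← mul_assoc w G.eB, g2]
        simp
      rw [hD, n1, n2, mul_sub, sub_mul, mul_assoc G.eA (N * w), mul_assoc N w, g2, ← mul_assoc G.eA (w),
        g1]
    have hDL : ∀ w ∈ L, D w ∈ L := by
      intro w hw
      rw [hL2 w hw]
      rcases hw with rfl | hw
      · simp
      obtain ⟨v1, v2⟩ := h.translates F hp5 hk2 hk3 hred hw.dmin (Frame.class_pure hk2 hk3 hred hz hzW hw)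
      have e : (2 : k) • (N * w - w * N) = cj (ex N) w - cj (ex (-N)) w := by rw [v1, v2, two_smul]; abel
      have hmem : ∀ {c}, Dmin X c → G.eA * c * G.eB ∈ L := fun {c} hc => by
        have e' : G.eA * c * G.eB = z * (zz * c * zz) * z := by
          show z * zz * c * (zz * z) = _
          simp [mul_assoc]
        rw [e']
        rcases flip hk2 hk3 G.dminB hc with h0 | h0
        · rw [show G.B * c * G.B = zz * c * zz from rfl] at h0; rw [h0]; simp
        · exact flip hk2 hk3 hz h0.dmin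
      refine (L.smul_mem_iff h2).1 ?_
      rw [← smul_mul_assoc, ← mul_smul_comm, e, mul_sub, sub_mul]
      exact sub_mem (hmem (hw.dmin.conj h.inG.ex_mem)) (hmem (hw.dmin.conj h.inG.neg.ex_mem))
    obtain ⟨z1, hz1, hz10, hDz1⟩ : ∃ z1 ∈ L, z1 ≠ 0 ∧ D z1 = 0 := by
      obtain ⟨m, hm⟩ := hDnil
      classical
      have hex : ∃ m, (D ^ m) z = 0 := ⟨m, by rw [hm]; rfl⟩
      have hmem : ∀ i, (D ^ i) z ∈ L := by
        intro i
        induction i with
        | zero => exact Or.inr (SameClass.refl hz)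
        | succ i ih => rw [pow_succ']; exact hDL _ ih
      have h0 : Nat.find hex ≠ 0 := fun e => hz.ne (by simpa [e] using Nat.find_spec hex)
      refine ⟨(D ^ (Nat.find hex - 1)) z, hmem _, Nat.find_min hex (Nat.sub_one_lt h0), ?_⟩
      rw [← Module.End.mul_apply, ← pow_succ', show Nat.find hex - 1 + 1 = Nat.find hex by omega]
      exact Nat.find_spec hex
    have hz1c := hz1.resolve_left hz10
    have hz1W : F.IsW1 z1 := Frame.class_pure hk2 hk3 hred hz hzW hz1c
    obtain ⟨hρ1, hρ1W, hρ1A⟩ := Frame.partner hk2 hz1c.dmin hz1W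
    set ρ1 := z1 * F.B - F.B * z1
    have hall : ∀ w ∈ L, D w = 0 := by
      intro w hw
      rcases hw with rfl | hw
      · simp
      have hcom : Commute N0 ρ1 := by
        have c1 : Commute N0 z1 := sub_eq_zero.1 (show N0 * z1 - z1 * N0 = 0 by rw [← hD]; exact hDz1)
        have c2 := hN0c _ (Or.inr F.clB)
        exact (c1.mul_right c2).sub_right (c2.mul_right c1)
      have hne : F.A * ρ1 - ρ1 * F.A ≠ 0 := by rw [← neg_sub, hρ1A, neg_ne_zero]; exact hz10
      obtain ⟨a', ha', he'⟩ := exists_bracket_eq hk2 hk3 hred F.dminA hρ1 hρ1W.not_opp_B hne (w := w) (by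
        rw [← neg_sub, hρ1A, ← neg_one_smul k z1]
        exact class_trans (class_symm hz1c.dmin ((SameClass.refl hz1c.dmin).smul (neg_ne_zero.2 one_ne_zero)))
          (class_trans (class_symm hz hz1c) hw) |> fun h' => class_trans
            (class_symm (hz1c.dmin.smul (neg_ne_zero.2 one_ne_zero)) (SameClass.refl (hz1c.dmin.smul (neg_ne_zero.2 one_ne_zero)))) h')
      have c3 : Commute N0 w := by
        rw [← he']
        have c4 := hN0c a' (Or.inl (class_trans F.clA ha'))
        exact (c4.mul_right hcom).sub_right (hcom.mul_right c4)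
      rw [hD, c3.eq, sub_self]
    have hd0 : G.eA * d * G.eB = 0 := by rw [← hL2 z (Or.inr (SameClass.refl hz))]; exact hall z (Or.inr (SameClass.refl hz))
    have hρe : ρ = G.eB * ρ * G.eA := by
      have hc : SameClass X zz ρ := class_symm hρ hzz'
      have k1 := kill_left hc (y := 1 - G.eB) (by rw [sub_mul, one_mul, show G.eB * zz = zz from G.eB_B, sub_self])
      have k2 := kill_right hc (y := 1 - G.eA) (by rw [mul_sub, mul_one, show zz * G.eA = zz from G.B_eA, sub_self])
      rw [sub_mul, one_mul, sub_eq_zero, eq_comm] at k1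
      rw [mul_sub, mul_one, sub_eq_zero, eq_comm] at k2
      rw [mul_assoc, k2, k1]
    have hzd : zz * d * zz = 0 := by
      calc zz * d * zz = zz * (G.eA * d * G.eB) * zz := by
            show _ = zz * (z * zz * d * (zz * z)) * zz
            simp only [← mul_assoc, u2]
            rw [mul_assoc (zz * d) zz z, mul_assoc (zz * d), u2]
        _ = 0 := by rw [hd0]; simp
    calc ρ * d * ρ = (G.eB * ρ * G.eA) * d * (G.eB * ρ * G.eA) := by rw [← hρe]
      _ = G.eB * ρ * z * (zz * d * zz) * (z * ρ * G.eA) := by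
        show _ = G.eB * ρ * G.A * (G.B * d * G.B) * (G.A * ρ * G.eA)
        simp only [Frame.eA, Frame.eB, mul_assoc]
      _ = 0 := by rw [hzd]; simp
  · obtain ⟨v1, v2⟩ := unipotent_pair hk2 hz hρ ho
    by_cases hzρ : z * ρ - ρ * z = 0
    · rw [sub_eq_zero] at hzρ
      calc ρ * d * ρ = ρ * N * (z * ρ) - ρ * z * (N * ρ) := by simp only [d, mul_sub, sub_mul, mul_assoc]
        _ = ρ * N * ρ * z - z * (ρ * N * ρ) := by rw [← hzρ]; nth_rewrite 1 [hzρ]; simp only [mul_assoc]
        _ = 0 := by rw [hρNρ]; simp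
    have f := bracket_facts hz hρ v1 v2 hzρ
    set e0 := z * ρ - ρ * z
    have heW : F.IsW0 e0 := by
      constructor
      · show e0 * F.eA = F.eA * e0
        simp only [e0, sub_mul, mul_sub, mul_assoc]
        rw [show ρ * F.eA = F.eO * ρ by have := hρW.rB; simpa using this.symm, hzW.rA, mul_zero,
          ← mul_assoc z F.eO, ← hzW.lA, mul_assoc, ← mul_assoc F.eA ρ,
          show F.eA * ρ = 0 from hρW.lB, zero_mul]
      · show e0 * F.eB = F.eB * e0
        simp only [e0, sub_mul, mul_sub, mul_assoc]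
        rw [show ρ * F.eB = 0 from hρW.rA, mul_zero, ← hzW.rB, ← mul_assoc ρ F.eO,
          show ρ * F.eO = F.eB * ρ by have := hρW.lA; simpa using this.symm, mul_assoc, ← mul_assoc F.eB z,
          hzW.lB, zero_mul]
    have hρI : ex ρ ∈ Prt X a := by
      have hI := Frame.inPart_one (F := F.symm) hk2 hk3 hred h.db h.da h.opp.symm hρ hρW
      rw [← prt_eq (h.part_b hk2 hk3)]
      exact hI.inG.ex_mem
    have heP : ex e0 ∈ Prt X a := by
      rw [← commutator_ex hz.inG.sq hρ.inG.sq v1 v2, commutatorElement_def]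
      exact mul_mem (mul_mem (mul_mem hzI.inG.ex_mem hρI) (inv_mem hzI.inG.ex_mem)) (inv_mem hρI)
    have hn := h.ex_w0_normalizes F hred hk2 hk3 f.dmin heP heW
    have hS := nil_sup h.nil (unipotent_mono (unipotent_sup hk2 hk3 f.dmin f.dmin (not_not.2 ⟨1, by
      rw [pow_one, f.dmin.inG.sq]⟩)) (Subgroup.zpowers_le.2 (Subgroup.mem_sup_left
        (ex_mem_sameActionSubgroup f.dmin (SameClass.refl f.dmin))))) (Subgroup.zpowers_le.2 hn)
    have h0 := sandwich_zero hk2 hS h.inG f.dmin (Subgroup.mem_sup_left h.mem)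
      (Subgroup.mem_sup_right (Subgroup.mem_zpowers _))
    have hzc : z * (ρ * d * ρ) - ρ * d * ρ * z = 0 := by
      rw [← h0]
      simp only [e0, d, mul_sub, sub_mul, ← mul_assoc]
      rw [mul_assoc (z * ρ) N z, mul_assoc (ρ * N), mul_assoc (ρ * z)]
      have a1 : z * ρ * z = 0 := v1
      have a2 : z * N * z = 0 := hzz
      have w1 : z * ρ * z * N * ρ = 0 := by rw [a1, zero_mul, zero_mul]
      have w2 : ρ * N * z * ρ * z = 0 := by rw [mul_assoc (ρ * N) z ρ, mul_assoc (ρ * N), a1, mul_zero]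
      have w3 : z * ρ * N * ρ * z = z * (ρ * N * ρ) * z := by simp [mul_assoc]
      have w4 : ρ * z * N * z * ρ = ρ * (z * N * z) * ρ := by simp [mul_assoc]
      simp only [← mul_assoc]
      rw [w1, w2, w3, w4, a2, hρNρ]
      simp
    by_contra hne
    rw [ident] at hne hzc
    have hB0 : B' ≠ 0 := fun e => hne (by rw [e]; simp)
    have hc : SameClass X F.B B' := class_trans (class_symm h.db F.clB) (hB'.resolve_left hB0)
    obtain ⟨o1, o2⟩ := unipotent_pair hk2 hr hc.dmin (not_opp_of_class hk2 hk3 hr F.dminB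
      (fun ho => hrW.not_opp_B ho.symm) (SameClass.refl hr) hc)
    have hcl := (bracket_class hr F.dminB q1 q2 hρ.ne (SameClass.refl hr) hc o1 o2).2
    exact hzρ (bracket_zero_of_zero hk2 hk3 hz hcl.dmin (not_opp_of_class hk2 hk3 hz hρ ho (SameClass.refl hz) hcl)
      hzc (SameClass.refl hz) (class_symm hρ hcl))

/-- `N` centralises weight one. -/
theorem comm_one (hz : Dmin X z) (hW : F.IsW1 z) : Commute N z := by
  have hzz := h.sandwich_one F hp5 hk2 hk3 hred hz hW
  set d := N * z - z * N with hd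
  set w := N * z * N with hw
  obtain ⟨t1, t2⟩ := h.translates F hp5 hk2 hk3 hred hz hW
  obtain ⟨c1, c2⟩ := h.translate_classes F hp5 hk2 hk3 hred hz hW
  rw [← hd, ← hw] at t1 t2
  have h2 : (2 : k) ≠ 0 := Frame.two_ne hp5
  have hNN := h.inG.sq
  have nn : ∀ y, N * (N * y) = 0 := fun y => by rw [← mul_assoc, hNN, zero_mul]
  have zz : ∀ y, z * (z * y) = 0 := fun y => by rw [← mul_assoc, hz.inG.sq, zero_mul]
  have zn : ∀ y, z * (N * (z * y)) = 0 := fun y => by rw [← mul_assoc N, ← mul_assoc z, ← mul_assoc z, hzz, zero_mul]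
  have zn0 : z * (N * z) = 0 := by rw [← mul_assoc]; exact hzz
  have p1 : (z + d - w) * (z - d - w) = 0 := by
    simp [d, w, mul_add, mul_sub, add_mul, sub_mul, mul_assoc, hNN, hz.inG.sq, nn, zz, zn, zn0]
  have p2 : (z - d - w) * (z + d - w) = 0 := by
    simp [d, w, mul_add, mul_sub, add_mul, sub_mul, mul_assoc, hNN, hz.inG.sq, nn, zz, zn, zn0]
  have e : (2 : k) • d = cj (ex N) z + -cj (ex (-N)) z := by rw [t1, t2, two_smul]; abel
  have hdG : InG X d := by
    have := c1.1.inG.add c2.1.inG.neg (by rw [mul_neg, t1, t2, p1, neg_zero]) (by rw [neg_mul, t1, t2, p2, neg_zero])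
    rw [← e] at this
    have := this.smul (2 : k)⁻¹
    rwa [smul_smul, inv_mul_cancel₀ h2, one_smul] at this
  have hd' : d = (2 : k)⁻¹ • (cj (ex N) z + -cj (ex (-N)) z) := by
    rw [← e, smul_smul, inv_mul_cancel₀ h2, one_smul]
  have hrank : finrank k (LinearMap.range d) ≤ 2 * finrank k (LinearMap.range a) := by
    have hle : LinearMap.range d ≤ LinearMap.range (cj (ex N) z) ⊔ LinearMap.range (cj (ex (-N)) z) := by
      rintro _ ⟨v, rfl⟩
      rw [hd', LinearMap.smul_apply, LinearMap.add_apply, LinearMap.neg_apply]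
      exact Submodule.smul_mem _ _ (add_mem (Submodule.mem_sup_left (LinearMap.mem_range_self _ v))
        (neg_mem (Submodule.mem_sup_right (LinearMap.mem_range_self _ v))))
    have := (Submodule.finrank_mono hle).trans (Submodule.finrank_add_le_finrank_add_finrank _ _)
    rw [c1.1.rank_eq h.da, c2.1.rank_eq h.da] at this
    omega
  have hd0 := nondeg hp5 hk2 hk3 hred F h.da h.db hdG
    ((hW.w0_mul' (h.isW0 F)).sub (hW.mul_w0 (h.isW0 F))) hrank
    (by
      rw [hd']
      exact Submodule.smul_mem _ _ (add_mem (Submodule.subset_span c1) (neg_mem (Submodule.subset_span c2))))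
    fun r hr => h.double_bracket F hp5 hk2 hk3 hred hr.1 hr.2 hz hW
  exact sub_eq_zero.1 hd0

end Centred

end Cfsg.Agent.EquivZJ
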