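import Cfsg.Agent.Lib.EquivZJ.Parts
import Cfsg.Agent.Lib.CoprimeZJ.Section

/-!
A quadratic element lying in all invariant Sylow subgroups of a linear group lies in the `p`-core.
* `InAll.map` : the condition passes to images
* `mem_pCore_of_quadratic`
-/

set_option autoImplicit false
set_option linter.unusedSectionVars false
set_option linter.style.haveILetI false

namespace Cfsg.Agent.EquivZJ

open Cfsg Module Cfsg.Agent.QuadRoot Cfsg.Agent.CoprimeZJ
open scoped commutatorElement

universe u v w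

theorem solvable_of_coprime {Γ : Type*} [Group Γ] [Finite Γ] {X B : Subgroup Γ}
    (hcop : (Nat.card B).Coprime (Nat.card X)) : Group.IsSolvable B ∨ Group.IsSolvable X := by
  rcases Nat.even_or_odd (Nat.card X) with he | ho
  · exact Or.inl (OddOrderTheorem.solvable (Nat.coprime_two_right.1 (hcop.coprime_dvd_right he.two_dvd)))
  · exact Or.inr (OddOrderTheorem.solvable ho)

/-- A map of a subgroup `X` into another group. -/
def imageHom {Γ : Type*} [Group Γ] {Δ : Type*} [Group Δ] {H : Subgroup Γ} (f : H →* Δ) {X : Subgroup Γ}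
    (hX : X ≤ H) : X →* Δ := f.comp (Subgroup.inclusion hX)

theorem imageHom_range_normalizer {Γ : Type*} [Group Γ] {Δ : Type*} [Group Δ] [Finite Δ] {H X B : Subgroup Γ}
    (f : H →* Δ) (hX : X ≤ H) (hB : B ≤ H) (hBX : B ≤ Subgroup.normalizer (X : Set Γ)) :
    (imageHom f hB).range ≤ Subgroup.normalizer ((imageHom f hX).range : Set Δ) := by
  rintro _ ⟨b, rfl⟩
  refine Coprime.mem_normalizer_of_forall ?_
  rintro _ ⟨x, rfl⟩
  refine ⟨⟨b * x * (b : Γ)⁻¹, (Subgroup.mem_normalizer_iff.1 (hBX b.2) x).1 x.2⟩, ?_⟩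
  simp only [imageHom, MonoidHom.comp_apply, ← map_inv, ← map_mul]
  rfl

theorem InAll.map {Γ : Type*} [Group Γ] [Finite Γ] {Δ : Type*} [Group Δ] [Finite Δ] {p : ℕ} [Fact p.Prime]
    {H X B : Subgroup Γ} {g : Γ} (f : H →* Δ) (hX : X ≤ H) (hB : B ≤ H) (h : InAll p X B g) (hg : g ∈ X)
    (hBX : B ≤ Subgroup.normalizer (X : Set Γ)) (hcop : (Nat.card B).Coprime (Nat.card X)) :
    InAll p (imageHom f hX).range (imageHom f hB).range (f ⟨g, hX hg⟩) := by
  set φ := imageHom f hX
  intro P hP
  set Q := (P : Subgroup φ.range).map (Subgroup.subtype _)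
  have hQ : IsPGroup p Q := P.2.map _
  set X₀ := (Q.comap φ).map X.subtype
  have hX₀ : X₀ ≤ X := Subgroup.map_subtype_le _
  have hBX₀ : B ≤ Subgroup.normalizer (X₀ : Set Γ) := fun b hb => Coprime.mem_normalizer_of_forall (by
    rintro _ ⟨x, hx, rfl⟩
    refine ⟨⟨b * x * b⁻¹, (Subgroup.mem_normalizer_iff.1 (hBX hb) x).1 x.2⟩, ?_, rfl⟩
    have h1 := (Subgroup.mem_normalizer_iff.1 (hP ⟨⟨b, hb⟩, rfl⟩) _).1 hx
    rw [SetLike.mem_coe, Subgroup.mem_comap]
    simp only [φ, imageHom, MonoidHom.comp_apply, ← map_inv, ← map_mul] at h1 ⊢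
    exact h1)
  have hsolv := solvable_of_coprime hcop
  obtain ⟨T, hT⟩ := Coprime.exists_invariant_sylow hBX₀ (hcop.coprime_dvd_right (Subgroup.card_dvd_of_le hX₀))
    (hsolv.imp id (Coprime.isSolvable_of_le hX₀)) p
  obtain ⟨S, hTS, hS⟩ := Coprime.exists_invariant_sylow_ge hBX hcop hsolv
    ((Subgroup.map_subtype_le _).trans hX₀) (T.2.map X₀.subtype) hT
  -- the invariant Sylow subgroup of `X₀` maps onto `Q`
  let ψ : X₀ →* Q := (φ.comp (Subgroup.inclusion hX₀)).codRestrict Q fun x => by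
    obtain ⟨y, hy, hyx⟩ := x.2
    have e : Subgroup.inclusion hX₀ x = y := Subtype.ext hyx.symm
    rw [MonoidHom.comp_apply, e]
    exact hy
  have hψ : Function.Surjective ψ := by
    rintro ⟨q, hq⟩
    obtain ⟨x, rfl⟩ := (Subgroup.map_subtype_le (P : Subgroup φ.range)) hq
    exact ⟨⟨x, x, hq, rfl⟩, Subtype.ext rfl⟩
  have htop : (⊤ : Subgroup Q) = (T.mapSurjective hψ : Sylow p Q) :=
    (T.mapSurjective hψ).3 (hQ.to_subgroup ⊤) le_top
  -- `Q` is the image of `S`
  have hgS := h S hS
  obtain ⟨s, hs, hsg⟩ := hgS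
  set R := ((S : Subgroup X).map φ.rangeRestrict)
  have hPR : (P : Subgroup φ.range) ≤ R := by
    intro q hq
    have hq' : (⟨(q : Δ), ⟨q, hq, rfl⟩⟩ : Q) ∈ (T.mapSurjective hψ : Sylow p Q).toSubgroup :=
      htop.le trivial
    obtain ⟨t, ht, htq⟩ := hq'
    obtain ⟨y, hy, hyt⟩ := hTS ⟨t, ht, rfl⟩
    refine ⟨y, hy, Subtype.ext ?_⟩
    have h1 : φ (Subgroup.inclusion hX₀ t) = q := congrArg Subtype.val htq
    rwa [show Subgroup.inclusion hX₀ t = y from Subtype.ext hyt.symm] at h1
  have hRP : R = P := P.3 (S.2.map _) hPR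
  refine ⟨φ.rangeRestrict s, hRP.le ⟨s, hs, rfl⟩, ?_⟩
  show φ s = f ⟨g, hX hg⟩
  exact congrArg f (Subtype.ext hsg)

section Linear

variable {p : ℕ} [hp : Fact p.Prime]

theorem inG_of_sq {M : Type v} [AddCommGroup M] [Module (ZMod p) M]
    {X : Subgroup (LinearMap.GeneralLinearGroup (ZMod p) M)} {g : LinearMap.GeneralLinearGroup (ZMod p) M}
    (hg : g ∈ X) (hsq : ((g : Module.End (ZMod p) M) - 1) * ((g : Module.End (ZMod p) M) - 1) = 0) :
    InG X ((g : Module.End (ZMod p) M) - 1) ∧ ex ((g : Module.End (ZMod p) M) - 1) = g := by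
  set x := (g : Module.End (ZMod p) M) - 1
  have hex : ex x = g := Units.ext (by rw [coe_ex hsq]; exact add_sub_cancel _ _)
  have hpow : ∀ n : ℕ, ex ((n : ZMod p) • x) = g ^ n := by
    intro n
    induction n with
    | zero => rw [Nat.cast_zero, zero_smul, ex_zero, pow_zero]
    | succ n ih => rw [pow_succ, ← ih, ← hex, Nat.cast_succ, ex_add_smul hsq, one_smul]
  refine ⟨⟨hsq, fun c => ?_⟩, hex⟩
  rw [← ZMod.natCast_zmod_val c, hpow]
  exact pow_mem hg _

variable {M : Type v} [AddCommGroup M] [Module (ZMod p) M] [Finite M]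

/-- The stabiliser of a subspace. -/
def stabSub (W : Submodule (ZMod p) M) : Subgroup (LinearMap.GeneralLinearGroup (ZMod p) M) where
  carrier := {g | ∀ w ∈ W, (g : Module.End (ZMod p) M) w ∈ W}
  one_mem' := fun w hw => hw
  mul_mem' := fun {g h} hg hh w hw => hg _ (hh w hw)
  inv_mem' := fun {g} hg => by
    have hpow : ∀ n : ℕ, ∀ w ∈ W, ((g ^ n : LinearMap.GeneralLinearGroup (ZMod p) M) : Module.End (ZMod p) M) w ∈ W := by
      intro n
      induction n with
      | zero => exact fun w hw => hw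
      | succ n ih => intro w hw; rw [pow_succ]; exact ih _ (hg w hw)
    have e : g⁻¹ = g ^ (orderOf g - 1) := inv_eq_of_mul_eq_one_right (by
      rw [← pow_succ', Nat.sub_add_cancel (orderOf_pos g), pow_orderOf_eq_one])
    show ∀ w ∈ W, _
    rw [e]; exact hpow _

/-- The action on a stable subspace. -/
def resHom (W : Submodule (ZMod p) M) : stabSub W →* LinearMap.GeneralLinearGroup (ZMod p) W :=
  MonoidHom.toHomUnits
    { toFun := fun g => ((g : LinearMap.GeneralLinearGroup (ZMod p) M) : Module.End (ZMod p) M).restrict g.2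
      map_one' := LinearMap.ext fun w => Subtype.ext rfl
      map_mul' := fun g h => LinearMap.ext fun w => Subtype.ext rfl }

/-- The action on the quotient by a stable subspace. -/
def quoHom (W : Submodule (ZMod p) M) : stabSub W →* LinearMap.GeneralLinearGroup (ZMod p) (M ⧸ W) :=
  MonoidHom.toHomUnits
    { toFun := fun g => W.mapQ W ((g : LinearMap.GeneralLinearGroup (ZMod p) M) : Module.End (ZMod p) M) g.2
      map_one' := LinearMap.ext fun w => by
        induction w using Submodule.Quotient.induction_on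
        rfl
      map_mul' := fun g h => LinearMap.ext fun w => by
        induction w using Submodule.Quotient.induction_on
        rfl }

theorem pow_eq_one_of_trivial {W : Submodule (ZMod p) M} [Nontrivial M] {h : stabSub W} (h1 : resHom W h = 1)
    (h2 : quoHom W h = 1) : (h : LinearMap.GeneralLinearGroup (ZMod p) M) ^ p = 1 := by
  haveI : Nontrivial (Module.End (ZMod p) M) := inferInstance
  haveI : CharP (Module.End (ZMod p) M) p :=
    charP_of_injective_algebraMap (algebraMap (ZMod p) (Module.End (ZMod p) M)).injective p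
  set x := ((h : LinearMap.GeneralLinearGroup (ZMod p) M) : Module.End (ZMod p) M)
  have hsq : (x - 1) * (x - 1) = 0 := by
    refine LinearMap.ext fun v => ?_
    have hv : (x - 1) v ∈ W := by
      have := LinearMap.congr_fun (congrArg Units.val h2) (Submodule.Quotient.mk v)
      exact (Submodule.Quotient.eq W).1 this
    have hw : ∀ w ∈ W, x w = w := fun w hw => congrArg Subtype.val
      (LinearMap.congr_fun (congrArg Units.val h1) ⟨w, hw⟩)
    rw [Module.End.mul_apply, LinearMap.sub_apply, hw _ hv, Module.End.one_apply, sub_self]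
    rfl
  refine Units.ext ?_
  rw [Units.val_pow_eq_pow_val, Units.val_one]
  have h3 := sub_pow_char_of_commute (R := Module.End (ZMod p) M) p (Commute.one_right x)
  rw [one_pow, pow_eq_zero_of_le hp.out.two_le (by rw [pow_two]; exact hsq)] at h3
  exact sub_eq_zero.1 h3.symm

theorem mem_pCore_of_quadratic (hp5 : 5 ≤ p) : ∀ (d n : ℕ) {M : Type v} [AddCommGroup M] [Module (ZMod p) M]
    [Finite M] (X B : Subgroup (LinearMap.GeneralLinearGroup (ZMod p) M)) (g : LinearMap.GeneralLinearGroup (ZMod p) M),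
    finrank (ZMod p) M = d → Nat.card X = n → B ≤ Subgroup.normalizer (X : Set _) →
    (Nat.card B).Coprime (Nat.card X) → g ∈ X →
    ((g : Module.End (ZMod p) M) - 1) * ((g : Module.End (ZMod p) M) - 1) = 0 → InAll p X B g →
    g ∈ (Cfsg.pCore p X).map X.subtype := by
  intro d
  induction d using Nat.strong_induction_on with
  | _ d ihd =>
  intro n
  induction n using Nat.strong_induction_on with
  | _ n ihn =>
  intro M _ _ _ X B g hd hn hBX hcop hg hsq hall
  haveI : FiniteDimensional (ZMod p) M := Module.Finite.of_finite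
  by_cases hW : ∃ W : Submodule (ZMod p) M, W ≠ ⊥ ∧ W ≠ ⊤ ∧ X ≤ stabSub W ∧ B ≤ stabSub W
  · obtain ⟨W, hW0, hW1, hXW, hBW⟩ := hW
    haveI : Nontrivial M := by
      by_contra hM
      rw [not_nontrivial_iff_subsingleton] at hM
      exact hW1 (Subsingleton.elim _ _)
    haveI : Finite (M ⧸ W) := Module.finite_of_finite (ZMod p)
    set f₁ := imageHom (resHom W) hXW
    set f₂ := imageHom (quoHom W) hXW
    have hlt1 : finrank (ZMod p) W < d := hd ▸ Submodule.finrank_lt hW1
    have hlt2 : finrank (ZMod p) (M ⧸ W) < d := by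
      have := W.finrank_quotient_add_finrank
      have h0 : finrank (ZMod p) W ≠ 0 := fun h => hW0 (Submodule.finrank_eq_zero.1 h)
      omega
    have hsub : ∀ {v : M}, v ∈ W → ((g : Module.End (ZMod p) M) - 1) v ∈ W := fun hv =>
      sub_mem (hXW hg _ hv) hv
    have m1 : f₁.rangeRestrict ⟨g, hg⟩ ∈ Cfsg.pCore p f₁.range := by
      obtain ⟨y, hy, hye⟩ := ihd _ hlt1 _ f₁.range (imageHom (resHom W) hBW).range (f₁ ⟨g, hg⟩) rfl rfl
        (imageHom_range_normalizer _ hXW hBW hBX)
        ((hcop.coprime_dvd_left (Subgroup.card_range_dvd _)).coprime_dvd_right (Subgroup.card_range_dvd f₁))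
        ⟨_, rfl⟩
        (LinearMap.ext fun w => Subtype.ext (LinearMap.congr_fun hsq (w : M)))
        (hall.map (resHom W) hXW hBW hg hBX hcop)
      rwa [show f₁.rangeRestrict ⟨g, hg⟩ = y from Subtype.ext hye.symm]
    have m2 : f₂.rangeRestrict ⟨g, hg⟩ ∈ Cfsg.pCore p f₂.range := by
      obtain ⟨y, hy, hye⟩ := ihd _ hlt2 _ f₂.range (imageHom (quoHom W) hBW).range (f₂ ⟨g, hg⟩) rfl rfl
        (imageHom_range_normalizer _ hXW hBW hBX)
        ((hcop.coprime_dvd_left (Subgroup.card_range_dvd _)).coprime_dvd_right (Subgroup.card_range_dvd f₂))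
        ⟨_, rfl⟩
        (LinearMap.ext fun w => by
          induction w using Submodule.Quotient.induction_on with
          | H v => exact congrArg (Submodule.Quotient.mk (p := W)) (LinearMap.congr_fun hsq v))
        (hall.map (quoHom W) hXW hBW hg hBX hcop)
      rwa [show f₂.rangeRestrict ⟨g, hg⟩ = y from Subtype.ext hye.symm]
    set K := (Cfsg.pCore p f₁.range).comap f₁.rangeRestrict ⊓ (Cfsg.pCore p f₂.range).comap f₂.rangeRestrict
    have hK : IsPGroup p K := by
      rintro ⟨x, hx1, hx2⟩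
      obtain ⟨a, ha⟩ := Cores.isPGroup_pCore p f₁.range ⟨_, hx1⟩
      obtain ⟨b, hb⟩ := Cores.isPGroup_pCore p f₂.range ⟨_, hx2⟩
      have ha' : f₁.rangeRestrict x ^ p ^ a = 1 := congrArg Subtype.val ha
      have hb' : f₂.rangeRestrict x ^ p ^ b = 1 := congrArg Subtype.val hb
      refine ⟨a + b + 1, Subtype.ext (Subtype.ext ?_)⟩
      rw [pow_add _ (a + b), pow_one]
      show (x : LinearMap.GeneralLinearGroup (ZMod p) M) ^ (p ^ (a + b) * p) = 1
      rw [pow_mul]
      refine pow_eq_one_of_trivial (h := (Subgroup.inclusion hXW x) ^ p ^ (a + b)) ?_ ?_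
      · rw [map_pow, pow_add, pow_mul, show resHom W (Subgroup.inclusion hXW x) ^ p ^ a = 1 from
          congrArg Subtype.val ha', one_pow]
      · rw [map_pow, pow_add, mul_comm, pow_mul, show quoHom W (Subgroup.inclusion hXW x) ^ p ^ b = 1 from
          congrArg Subtype.val hb', one_pow]
    haveI : K.Normal := inferInstance
    exact ⟨⟨g, hg⟩, Cores.le_pCore inferInstance hK ⟨m1, m2⟩, rfl⟩
  have hred : Reduced X := reduced_of_irreducible_normalizer hBX fun W hWX hWB => by
    by_contra hne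
    push Not at hne
    exact hW ⟨W, hne.1, hne.2, fun x hx w hw => hWX x hx ⟨w, hw, rfl⟩, fun x hx w hw => hWB x hx ⟨w, hw, rfl⟩⟩
  rcases eq_or_ne g 1 with rfl | hg1
  · exact one_mem _
  have hk2 : ringChar (ZMod p) ≠ 2 := by rw [ZMod.ringChar_zmod_n]; omega
  have hk3 : Nat.card (ZMod p) ≠ 3 := by rw [Nat.card_zmod]; omega
  obtain ⟨hN, hex⟩ := inG_of_sq hg hsq
  set N := (g : Module.End (ZMod p) M) - 1
  have ih : ∀ Y : Subgroup (LinearMap.GeneralLinearGroup (ZMod p) M), Y < X →
      B ≤ Subgroup.normalizer (Y : Set _) → ex N ∈ Y → InAll p Y B (ex N) →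
      ex N ∈ (Cfsg.pCore p Y).map Y.subtype := by
    intro Y hY hBY hgY hYall
    rw [hex] at hgY hYall ⊢
    have hlt : Nat.card Y < n := hn ▸ lt_of_le_of_ne (Subgroup.card_le_of_le hY.le) fun e =>
      hY.ne (Subgroup.eq_of_le_of_card_ge hY.le e.ge)
    exact ihn _ hlt Y B g hd rfl hBY (hcop.coprime_dvd_right (Subgroup.card_dvd_of_le hY.le)) hgY hsq hYall
  have hflat : g ∈ Subgroup.centralizer (sigmaJoin X : Set (LinearMap.GeneralLinearGroup (ZMod p) M)) := hex ▸
    flat_centralizes hk2 hk3 hred hN fun e he =>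
      nonopp_all hp5 hk2 hk3 hred hBX hcop hN (hex.symm ▸ hall) ih he
  exfalso
  set S := sigmaJoin X
  set X' := X ⊓ Subgroup.centralizer (S : Set (LinearMap.GeneralLinearGroup (ZMod p) M))
  have hN0 : N ≠ 0 := fun e => hg1 (by rw [← hex, e, ex_zero])
  obtain ⟨c, hc⟩ := Dmin.exists_of_ne_bot ⟨N, hN, hN0⟩
  have hSn : ∀ y ∈ Subgroup.normalizer (X : Set (LinearMap.GeneralLinearGroup (ZMod p) M)),
      y ∈ Subgroup.normalizer (S : Set (LinearMap.GeneralLinearGroup (ZMod p) M)) := by
    intro y hy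
    refine RankOne.le_normalizer_of_conjBy_le (H := Subgroup.normalizer (X : Set _)) (fun z hz => ?_) hy
    simp only [S, sigmaJoin, conjBy, Subgroup.map_iSup]
    exact iSup₂_le fun C hC => le_iSup₂_of_le (conjBy C z) (conj_member hz hC) le_rfl
  have hX'n : ∀ y ∈ Subgroup.normalizer (X : Set (LinearMap.GeneralLinearGroup (ZMod p) M)),
      y ∈ Subgroup.normalizer (X' : Set (LinearMap.GeneralLinearGroup (ZMod p) M)) := fun y hy =>
    Coprime.mem_normalizer_of_forall fun x hx => by
      refine ⟨(Subgroup.mem_normalizer_iff.1 hy x).1 hx.1, Subgroup.mem_centralizer_iff.2 fun s hs => ?_⟩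
      have h1 := Subgroup.mem_centralizer_iff.1 hx.2 _
        ((Subgroup.mem_normalizer_iff.1 (inv_mem (hSn y hy)) s).1 hs)
      rw [inv_inv] at h1
      calc s * (y * x * y⁻¹) = y * (y⁻¹ * s * y * x) * y⁻¹ := by group
        _ = y * (x * (y⁻¹ * s * y)) * y⁻¹ := by rw [h1]
        _ = y * x * y⁻¹ * s := by group
  have hX'lt : X' < X := lt_of_le_of_ne inf_le_left fun e => by
    have hSC : S ≤ Subgroup.centralizer (S : Set (LinearMap.GeneralLinearGroup (ZMod p) M)) :=
      sigmaJoin_le.trans (e.ge.trans inf_le_right)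
    have hS0 : S = ⊥ := by
      show sigmaJoin X = ⊥
      rw [← sigmaJoin_perfect hk2 hk3 hred]
      exact Subgroup.commutator_eq_bot_iff_le_centralizer.2 hSC
    exact member_ne_bot (mem_rootSubgroups hc) (le_bot_iff.1 ((le_sigmaJoin (mem_rootSubgroups hc)).trans hS0.le))
  have hgX' : g ∈ X' := ⟨hg, hflat⟩
  have hX'B : B ≤ Subgroup.normalizer (X' : Set _) := fun b hb => hX'n b (hBX hb)
  have hgO : g ∈ (Cfsg.pCore p X').map X'.subtype := hex ▸ ih X' hX'lt hX'B (hex.symm ▸ hgX')
    (hex.symm ▸ hall.sub inf_le_left hBX hcop (solvable_of_coprime hcop) hgX')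
  have hO : (Cfsg.pCore p X').map X'.subtype = ⊥ := hred _ ((Subgroup.map_subtype_le _).trans inf_le_left)
    (isUnipotentOn_of_isPGroup ((Cores.isPGroup_pCore p X').map _)) fun y hy =>
      RankOne.conjBy_of_mem_normalizer (Cores.normalizer_le_normalizer_map (Cfsg.pCore p X')
        (hX'n y (Subgroup.le_normalizer hy)))
  rw [hO] at hgO
  exact hg1 (Subgroup.mem_bot.1 hgO)

end Linear

end Cfsg.Agent.EquivZJ
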