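import Cfsg.Agent.Lib.QuadRoot.Flat

/-!
Unipotence in positive characteristic.
* `isUnipotentOn_of_isPGroup`
* `nilpotent_of_span` : a combination of deviations of a unipotent group is nilpotent
* `sandwich_zero` : a member and a minimal element inside a unipotent group
-/

set_option autoImplicit false
set_option linter.unusedSectionVars false
set_option linter.style.haveILetI false

namespace Cfsg.Agent.EquivZJ

open Cfsg Module Cfsg.Agent.QuadRoot

universe u v

variable {k : Type u} [Field k] {M : Type v} [AddCommGroup M] [Module k M] [FiniteDimensional k M]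
  {U : Subgroup (LinearMap.GeneralLinearGroup k M)}

/-- The increasing fixed series of `U`. -/
def fixSeries (U : Subgroup (LinearMap.GeneralLinearGroup k M)) : ℕ → Submodule k M
  | 0 => ⊥
  | n + 1 => ⨅ g ∈ U, (fixSeries U n).comap ((g : Module.End k M) - 1)

theorem mem_fixSeries_succ {n : ℕ} {v : M} :
    v ∈ fixSeries U (n + 1) ↔ ∀ g ∈ U, (g : Module.End k M) v - v ∈ fixSeries U n := by
  simp [fixSeries, Submodule.mem_iInf]

theorem isUnipotentOn_of_isPGroup [Finite M] {p : ℕ} [hp : Fact p.Prime] [CharP k p] (hU : IsPGroup p U) :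
    IsUnipotentOn U := by
  classical
  have hmono : ∀ n, fixSeries U n ≤ fixSeries U (n + 1) := by
    intro n
    induction n with
    | zero => exact bot_le
    | succ n ih => exact fun v hv => mem_fixSeries_succ.2 fun g hg => ih (mem_fixSeries_succ.1 hv g hg)
  have hstab : ∀ n, ∀ g ∈ U, ∀ v ∈ fixSeries U n, (g : Module.End k M) v ∈ fixSeries U n := by
    intro n g hg v hv
    cases n with
    | zero => rw [show v = 0 from hv, map_zero]; exact zero_mem _
    | succ n =>
      have := add_mem (hmono n (mem_fixSeries_succ.1 hv g hg)) hv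
      rwa [sub_add_cancel] at this
  have hgrow : ∀ n, fixSeries U n ≠ ⊤ → fixSeries U n < fixSeries U (n + 1) := by
    intro n hn
    refine lt_of_le_of_ne (hmono n) fun he => ?_
    set W := fixSeries U n
    let Q := M ⧸ W
    haveI : Nontrivial Q := Submodule.Quotient.nontrivial_iff.2 hn
    let act : U → Q →ₗ[k] Q := fun g => W.mapQ W (g.1 : Module.End k M) fun v hv => hstab n g.1 g.2 v hv
    letI : MulAction U Q :=
      { smul := fun g q => act g q
        one_smul := fun q => Submodule.Quotient.induction_on _ q fun v => rfl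
        mul_smul := fun g h q => Submodule.Quotient.induction_on _ q fun v => rfl }
    haveI : Finite Q := Finite.of_surjective _ (Submodule.Quotient.mk_surjective W)
    obtain ⟨x, hx⟩ := exists_ne (0 : Q)
    have hcard : p ∣ Nat.card Q := by
      have hz : p • x = 0 := by rw [← Nat.cast_smul_eq_nsmul k, CharP.cast_eq_zero k p, zero_smul]
      rw [← addOrderOf_eq_prime hz hx]
      exact addOrderOf_dvd_natCard x
    obtain ⟨y, hy, hy0⟩ := hU.exists_fixed_point_of_prime_dvd_card_of_fixed_point Q hcard (a := (0 : Q))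
      (fun g => map_zero (act g))
    obtain ⟨v, rfl⟩ := Submodule.Quotient.mk_surjective W y
    refine hy0 ?_
    symm
    refine (Submodule.Quotient.mk_eq_zero W).2 (he.ge (mem_fixSeries_succ.2 fun g hg => ?_))
    exact (Submodule.Quotient.eq W).1 (hy ⟨g, hg⟩)
  have hdim : ∀ n, fixSeries U n = ⊤ ∨ n ≤ finrank k (fixSeries U n) := by
    intro n
    induction n with
    | zero => exact Or.inr (Nat.zero_le _)
    | succ n ih =>
      by_cases h : fixSeries U (n + 1) = ⊤
      · exact Or.inl h
      rcases ih with h' | h'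
      · exact absurd (top_le_iff.1 (h' ▸ hmono n)) h
      · refine Or.inr ?_
        have := Submodule.finrank_lt_finrank_of_lt (hgrow n fun e => h (top_le_iff.1 (e ▸ hmono n)))
        omega
  set n := finrank k M + 1
  have hn : fixSeries U n = ⊤ := (hdim n).resolve_right fun h => by
    have := Submodule.finrank_le (fixSeries U n); omega
  refine S5061.nil_iff_isUnipotentOn.1 (S5061.nil_iff.2 ⟨n, fun l hl hlen => ?_⟩)
  have key : ∀ (l : List (LinearMap.GeneralLinearGroup k M)), (∀ g ∈ l, g ∈ U) → ∀ j, ∀ v ∈ fixSeries U (j + l.length),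
      (l.map S5061.dev).prod v ∈ fixSeries U j := by
    intro l
    induction l with
    | nil => intro _ j v hv; simpa using hv
    | cons g l ih =>
      intro hl j v hv
      rw [List.map_cons, List.prod_cons, Module.End.mul_apply]
      refine mem_fixSeries_succ.1 (ih (fun x hx => hl x (List.mem_cons_of_mem _ hx)) (j + 1) v ?_) g (hl g (by simp))
      rwa [show j + 1 + l.length = j + (g :: l).length by simp; omega]
  refine LinearMap.ext fun v => ?_
  have := key l hl 0 v (by rw [Nat.zero_add, hlen, hn]; trivial)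
  exact this

theorem exists_flag_of_unipotent (hU : IsUnipotentOn U) :
    ∃ F : ℕ → Submodule k M, S5061.IsFlag F ∧ ∀ g ∈ U, ∀ i, (F i).map ((g : Module.End k M) - 1) ≤ F (i + 1) := by
  obtain ⟨F, hF, h⟩ := S5061.nil_iff_isUnipotentOn.2 hU
  exact ⟨F, hF, fun g hg => h hg⟩

theorem nilpotent_of_span (hU : IsUnipotentOn U) {x : Module.End k M}
    (hx : x ∈ Submodule.span k {d | ∃ g ∈ U, (g : Module.End k M) - 1 = d}) : IsNilpotent x := by
  obtain ⟨F, hF, h⟩ := exists_flag_of_unipotent hU
  obtain ⟨n, hn⟩ := hF.bot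
  have hx' : ∀ i, (F i).map x ≤ F (i + 1) := by
    induction hx using Submodule.span_induction with
    | mem d hd => obtain ⟨g, hg, rfl⟩ := hd; exact h g hg
    | zero => intro i; simp
    | add y z _ _ hy hz =>
      intro i
      rintro _ ⟨v, hv, rfl⟩
      exact add_mem (hy i ⟨v, hv, rfl⟩) (hz i ⟨v, hv, rfl⟩)
    | smul c y _ hy =>
      intro i
      rintro _ ⟨v, hv, rfl⟩
      exact Submodule.smul_mem _ c (hy i ⟨v, hv, rfl⟩)
  refine ⟨n, LinearMap.ext fun v => ?_⟩
  have : ∀ m, (x ^ m) v ∈ F m := by
    intro m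
    induction m with
    | zero => rw [hF.top]; trivial
    | succ m ih => rw [pow_succ']; exact hx' m ⟨_, ih, rfl⟩
  have := this n
  rwa [hn, Submodule.mem_bot] at this

theorem nilpotent_mul (hU : IsUnipotentOn U) {x y : Module.End k M} (hx : x * x = 0) (hy : y * y = 0)
    (hxU : ex x ∈ U) (hyU : ex y ∈ U) : IsNilpotent (x * y) := by
  obtain ⟨F, hF, h⟩ := exists_flag_of_unipotent hU
  obtain ⟨n, hn⟩ := hF.bot
  have h1 := h _ hxU
  have h2 := h _ hyU
  rw [coe_sub_ex hx] at h1
  rw [coe_sub_ex hy] at h2
  refine ⟨n, LinearMap.ext fun v => ?_⟩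
  have : ∀ m, ((x * y) ^ m) v ∈ F m := by
    intro m
    induction m with
    | zero => rw [hF.top]; trivial
    | succ m ih =>
      rw [pow_succ']
      exact hF.anti (Nat.le_succ (m + 1)) (h1 _ ⟨_, h2 _ ⟨_, ih, rfl⟩, rfl⟩)
  have := this n
  rwa [hn, Submodule.mem_bot] at this

theorem sandwich_zero {X : Subgroup (LinearMap.GeneralLinearGroup k M)} (hk2 : ringChar k ≠ 2)
    (hU : IsUnipotentOn U) {N e : Module.End k M} (hN : InG X N) (he : Dmin X e)
    (hNU : ex N ∈ U) (heU : ex e ∈ U) : e * N * e = 0 :=
  unipotent_mixed hk2 hN he (not_not.2 (nilpotent_mul hU he.inG.sq hN.sq heU hNU))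

end Cfsg.Agent.EquivZJ
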