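import Cfsg.Agent.Lib.EquivZJ.Levi

/-!
* `exists_piece` : an opposite minimal element splits off a piece and kills the rest
* `Centred.not_opp` : `N` is opposite to no member of the part
-/

set_option autoImplicit false
set_option linter.unusedSectionVars false

namespace Cfsg.Agent.EquivZJ

open Cfsg Module Cfsg.Agent.QuadRoot Cfsg.Agent.CoprimeZJ

universe u v

variable {k : Type u} [Field k] {M : Type v} [AddCommGroup M] [Module k M] [FiniteDimensional k M]
  {X Q : Subgroup (LinearMap.GeneralLinearGroup k M)} {a b x y z q e N : Module.End k M}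

theorem exists_piece (hk2 : ringChar k ≠ 2) (hk3 : Nat.card k ≠ 3) (hx : InG X x) (he : Dmin X e)
    (ho : Opp x e) : ∃ P : Module.End k M, Commute x P ∧ P * P = P ∧ Dmin X (x * P) ∧ InG X (x - x * P) ∧
      Opp (x * P) e ∧ (x - x * P) * e = 0 ∧ e * (x - x * P) = 0 := by
  obtain ⟨L, _, _, _, ⟨c⟩⟩ := exists_corner hx.sq he.inG.sq ho
  obtain ⟨hqG, hq0, hqr⟩ := corner_mixed hk2 hk3 c hx he
  set P := c.T 1
  have hcP : Commute x P := c.comm_a
  have hqD : Dmin X (x * P) := he.of_rank_le hqG hq0 hqr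
  have hopq : Opp (x * P) e := fun hnil => ho (by
    have hcxe : Commute (x * e) P := c.comm_a.mul_left c.comm_b
    have h0 : x * P * e = x * e * P := by rw [mul_assoc x P e, ← c.comm_b.eq, ← mul_assoc]
    have e1 : x * e = x * e * P + x * e * (1 - P) := by rw [mul_sub, mul_one]; abel
    rw [h0] at hnil
    rw [e1]
    refine Commute.isNilpotent_add ?_ hnil c.nil
    exact ((Commute.refl (x * e)).mul_left hcxe.symm).mul_right
      ((Commute.one_right _).sub_right (hcxe.mul_left (Commute.refl P))))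
  obtain ⟨L', _, _, ⟨c'⟩⟩ := exists_model hk2 hk3 hqD he hopq
  have heP : P * e = e := by
    obtain ⟨W, hW'⟩ := c'.T_one_eq
    have e1 : P * c'.T 1 = c'.T 1 := by
      rw [hW', ← mul_assoc]
      congr 1
      rw [mul_add]
      congr 1
      · rw [hcP.eq, ← mul_assoc, ← mul_assoc, c.idem]
      · rw [hcP.eq, ← mul_assoc e, c.comm_b.eq, mul_assoc P e, ← mul_assoc P P, c.idem]
    conv_rhs => rw [← c'.whole_b, c'.comm_b.eq, ← e1, mul_assoc, ← c'.comm_b.eq, c'.whole_b]
  refine ⟨P, hcP, c.idem, hqD, ?_, hopq, ?_, ?_⟩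
  · rw [sub_eq_add_neg]
    refine hx.add hqG.neg ?_ ?_
    · rw [mul_neg, ← mul_assoc, hx.sq, zero_mul, neg_zero]
    · rw [neg_mul, hcP.eq, mul_assoc, hx.sq, mul_zero, neg_zero]
  · rw [sub_mul, mul_assoc, heP, sub_self]
  · rw [mul_sub, hcP.eq, ← mul_assoc e, c.comm_b.eq, heP, sub_self]

variable [Finite M] [Finite k] {p : ℕ} [hp : Fact p.Prime] [CharP k p]
variable (hp5 : 5 ≤ p) (hk2 : ringChar k ≠ 2) (hk3 : Nat.card k ≠ 3) (hred : Reduced X)
include hp5 hk2 hk3 hred

theorem Centred.piece_nonopp (h : Centred X a b N Q) (F : Frame X a b) {P : Module.End k M}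
    (hc : Commute N P) (hq : Dmin X (N * P)) : ¬ Opp F.A (N * P) := by
  intro ho
  have hr : LinearMap.range (F.A * N) ≤ LinearMap.range F.A ⊓ LinearMap.ker (N * P) := by
    refine le_inf (LinearMap.range_comp_le_range _ _) ?_
    rw [LinearMap.range_le_ker_iff, ← Module.End.mul_eq_comp, hc.eq, ← (h.commA F).eq, mul_assoc, ← mul_assoc N,
      h.inG.sq, zero_mul, mul_zero]
  rw [ho.inf_eq_bot hk2 hk3 F.dminA hq, le_bot_iff, LinearMap.range_eq_bot] at hr
  exact ho (by rw [← mul_assoc, hr, zero_mul]; exact IsNilpotent.zero)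

theorem Centred.piece_commutes (h : Centred X a b N Q) (F : Frame X a b) {P : Module.End k M}
    (hc : Commute N P) (hq : Dmin X (N * P)) : Commute (N * P) F.A := by
  classical
  have h2 : (2 : k) ≠ 0 := Frame.two_ne hp5
  have h3 : (3 : k) ≠ 0 := Frame.three_ne hp5
  set q := N * P with hqdef
  have hqP : q = P * N := hc.eq
  by_contra hne
  obtain ⟨u1, u2⟩ := unipotent_pair hk2 F.dminA hq (h.piece_nonopp hp5 hk2 hk3 hred F hc hq)
  set μ := q * F.A - F.A * q
  have hμ0 : μ ≠ 0 := fun e => hne (sub_eq_zero.1 e)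
  have hμ : Dmin X μ := (bracket_facts hq F.dminA u2 u1 hμ0).dmin
  have rA : μ * F.eA = 0 := by
    show (q * F.A - F.A * q) * (F.A * F.B) = 0
    rw [sub_mul, mul_assoc q, ← mul_assoc F.A F.A F.B, F.AA, zero_mul, mul_zero, ← mul_assoc (F.A * q), u1,
      zero_mul, sub_zero]
  have lB : F.eB * μ = 0 := by
    show F.B * F.A * (q * F.A - F.A * q) = 0
    rw [mul_sub, mul_assoc F.B F.A (F.A * q), Frame.A_A', mul_zero, mul_assoc F.B F.A (q * F.A),
      ← mul_assoc F.A q F.A, u1, mul_zero, sub_zero]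
  have mid : F.eO * μ * F.eO = 0 := by simp [μ, mul_sub, sub_mul, mul_assoc]
  have hdec : μ = F.w1 μ + F.w2 μ := by
    conv_lhs => rw [F.decomp μ]
    rw [show F.w0 μ = 0 by rw [Frame.w0, mul_assoc _ μ F.eA, rA, lB, mid]; simp,
      show F.wn μ = 0 by rw [Frame.wn, mul_assoc _ μ F.eA, rA, lB]; simp,
      show F.wm2 μ = 0 by rw [Frame.wm2, lB, zero_mul]]
    simp
  obtain ⟨hG1, hr1⟩ := Frame.low_part h2 h.da h.db hμ.inG hdec
  have hqq : q * q = 0 := hq.inG.sq
  by_cases h1 : F.w1 μ = 0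
  · rw [h1, zero_add] at hdec
    have hcl := (Frame.mem_a_of_weight (F := F) h.da hμ.inG (by rw [hdec, Frame.w2]; simp [mul_assoc])
      (by rw [hdec, Frame.w2]; simp [mul_assoc])).resolve_left hμ0
    have hAc : SameClass X μ F.A := class_trans (class_symm h.da hcl) F.clA
    have e1 : q * μ = 0 := by
      simp only [μ, mul_sub, ← mul_assoc, hqq, zero_mul, zero_sub, neg_eq_zero]; exact u2
    have e2 : μ * q = 0 := by
      simp only [μ, sub_mul, mul_assoc, hqq, mul_zero, sub_zero]; rw [← mul_assoc]; exact u2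
    exact hμ0 (by simp only [μ]; rw [kill_left hAc e1, kill_right hAc e2, sub_zero])
  have hμ1 : Dmin X (F.w1 μ) := hμ.of_rank_le hG1 h1 hr1
  have hW : F.IsW1 (F.w1 μ) := Frame.w1_isW1 μ
  obtain ⟨hρ, hρW, -⟩ := Frame.partner hk2 hμ1 hW
  have eρ : F.w1 μ * F.B - F.B * F.w1 μ = F.wn q := by
    simp [Frame.w1, Frame.wn, μ, mul_sub, sub_mul, mul_add, add_mul, mul_assoc, Frame.A_B, Frame.B_A]
    rw [← mul_assoc F.B F.A, Frame.B_A]
  rw [eρ] at hρ hρW
  set ρ := F.wn q
  obtain ⟨e, he, hoe⟩ := exists_opp hk2 hk3 hred hρ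
  obtain ⟨z, -, hz, hzW, -, e2⟩ := Frame.exists_opp_one (Y := X) (F := F.symm) hp5 hk2 hk3
    (fun t _ => Subgroup.le_normalizer (F.symm.tor_mem h.db h.da t)) le_rfl hred hρ hρ.inG hρW he hoe
  rw [Frame.symm_symm] at hzW
  have hzN : Commute N z := h.comm_one F hp5 hk2 hk3 hred hz hzW
  let S : Submodule k (Module.End k M) :=
    { carrier := {w | (∃ E, w = N * E) ∧ ∃ E, w = E * N}
      zero_mem' := ⟨⟨0, (mul_zero N).symm⟩, 0, (zero_mul N).symm⟩
      add_mem' := by
        rintro _ w ⟨⟨E, rfl⟩, E', hE'⟩ ⟨⟨E₁, rfl⟩, E₂, hE₂⟩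
        exact ⟨⟨E + E₁, (mul_add N E E₁).symm⟩, E' + E₂, by rw [add_mul, ← hE', ← hE₂]⟩
      smul_mem' := by
        rintro c _ ⟨⟨E, rfl⟩, E', hE'⟩
        exact ⟨⟨c • E, (mul_smul_comm c N E).symm⟩, c • E', by rw [smul_mul_assoc, ← hE']⟩ }
  obtain ⟨-, -, ⟨E, hE⟩, E', hE'⟩ := F.comp_mem h2 h3 (x := q) (S := S) fun t ht =>
    ⟨⟨cj (F.tor t) P, by rw [hqdef, cj_mul, (h.isW0 F).cj_tor ht]⟩,
      cj (F.tor t) P, by rw [hqP, cj_mul, (h.isW0 F).cj_tor ht]⟩
  rw [show F.wn q = ρ from rfl] at hE hE'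
  have z1 : z = z * E' * z * N := by
    conv_lhs => rw [← e2, hE']
    rw [mul_assoc z (E' * N) z, mul_assoc E' N z, hzN.eq]; simp [mul_assoc]
  have z2 : z * N = 0 := by rw [z1, mul_assoc, h.inG.sq, mul_zero]
  exact hz.ne (by rw [← e2, hE, ← mul_assoc z, z2, zero_mul, zero_mul])

/-- `N` is opposite to no member of the part. -/
theorem Centred.not_opp (h : Centred X a b N Q) (he : InPart X a e) : ¬ Opp e N := by
  classical
  intro ho
  obtain ⟨F⟩ := exists_frame hk2 hk3 h.da h.db h.opp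
  obtain ⟨P, hc, hPP, hq, hs, hoq, hse, hes⟩ := exists_piece hk2 hk3 h.inG he.dmin ho.symm
  set q := N * P
  set s := N - q
  have hA := h.piece_commutes hp5 hk2 hk3 hred F hc hq
  have hB := (h.symm hk2 hk3).piece_commutes hp5 hk2 hk3 hred F.symm hc hq
  rw [Frame.symm_A] at hB
  have hqW : F.IsW0 q := Frame.IsW0.of_commute hA hB
  have hqI : InPart X a q := he.opp hk2 hk3 hq hoq.symm
  have hsW : F.IsW0 s := ⟨(h.isW0 F).cA.sub_left hqW.cA, (h.isW0 F).cB.sub_left hqW.cB⟩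
  have hqs : q * s = 0 := by
    show N * P * (N - N * P) = 0
    rw [hc.eq, mul_sub, mul_assoc P N, h.inG.sq, ← hc.eq]
    simp only [mul_zero, zero_sub, neg_eq_zero]
    nth_rewrite 1 [hc.eq]
    rw [mul_assoc P N, ← mul_assoc N N, h.inG.sq, zero_mul, mul_zero]
  have hsq : s * q = 0 := by
    show (N - N * P) * (N * P) = 0
    rw [sub_mul, ← mul_assoc N N, h.inG.sq, zero_mul, zero_sub, neg_eq_zero]
    nth_rewrite 1 [hc.eq]
    rw [mul_assoc P N, ← mul_assoc N N, h.inG.sq, zero_mul, mul_zero]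
  let Y : Subgroup (LinearMap.GeneralLinearGroup k M) :=
    { carrier := {y | y ∈ Prt X a ∧ Commute (y : Module.End k M) s}
      one_mem' := ⟨one_mem _, by rw [Units.val_one]; exact Commute.one_left _⟩
      mul_mem' := fun {u w} hu hw => ⟨mul_mem hu.1 hw.1, by rw [Units.val_mul]; exact hu.2.mul_left hw.2⟩
      inv_mem' := fun {u} hu => ⟨inv_mem hu.1, hu.2.units_inv_left⟩ }
  have hYG : ∀ {w : Module.End k M}, InPart X a w → w * s = 0 → s * w = 0 → InG Y w := fun {w} hw h1 h1' =>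
    ⟨hw.dmin.inG.sq, fun t => ⟨hw.inG.mem t, by
      rw [coe_ex (smul_sq hw.dmin.inG.sq t t)]
      refine (Commute.one_left _).add_left ?_
      show t • w * s = s * (t • w)
      rw [smul_mul_assoc, mul_smul_comm, h1, h1']⟩⟩
  have hYX : Y ≤ X := fun y hy => Prt_le hy.1
  have htor : ∀ t : k, t ≠ 0 → F.tor t ∈ Subgroup.normalizer (Y : Set (LinearMap.GeneralLinearGroup k M)) := by
    intro t ht
    refine Subgroup.le_normalizer (H := Y) ⟨sup_le (InPart.refl h.da).cl_le (h.part_b hk2 hk3).cl_le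
      (F.tor_mem_sup h.da h.db t), ?_⟩
    rw [F.coe_tor ht]
    exact ((hsW.cA.symm.smul_left t).add_left hsW.cO.symm).add_left (hsW.cB.symm.smul_left _)
  obtain ⟨y, hyY, hy, hyW, hne⟩ := Frame.exists_opp_zero (Y := Y) (F := F) hp5 hk2 hk3 htor hYX hq
    (hYG hqI hqs hsq) hA hB (Dmin.of_sub hYX he.dmin (hYG he hes hse)) hoq
  have hn := h.ex_w0_normalizes F hred hk2 hk3 hy hyY.ex_mem.1 hyW
  have hS := nil_sup h.nil (unipotent_mono (unipotent_sup hk2 hk3 hy hy (not_not.2 ⟨1, by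
      rw [pow_one, hy.inG.sq]⟩)) (Subgroup.zpowers_le.2 (Subgroup.mem_sup_left
        (ex_mem_sameActionSubgroup hy (SameClass.refl hy))))) (Subgroup.zpowers_le.2 hn)
  have h0 := sandwich_zero hk2 hS h.inG hy (Subgroup.mem_sup_left h.mem)
    (Subgroup.mem_sup_right (Subgroup.mem_zpowers _))
  have hys : Commute y s := by
    have := hyY.ex_mem.2
    rw [coe_ex hy.inG.sq] at this
    have := this.sub_left (Commute.one_left s)
    rwa [add_sub_cancel_left] at this
  have hsy : y * s * y = 0 := by rw [hys.eq, mul_assoc, hy.inG.sq, mul_zero]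
  have hyqy : y * q * y = 0 := by
    have e : q = N - s := by simp only [s]; abel
    rw [e, mul_sub, sub_mul, h0, hsy, sub_zero]
  exact hne (unipotent_pair hk2 hy hq ((not_opp_iff hk2 hy hq).2 hyqy)).2

end Cfsg.Agent.EquivZJ
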