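import Cfsg.Agent.Lib.EquivZJ.Pure
import Cfsg.Agent.Lib.CoprimeZJ.Diag
import Cfsg.Agent.Lib.QuadRoot.Central

/-!
The part of a class.
* `InPart X a e`, closure properties; `Prt X a` : its group, reduced
* `le_of_generators` : a group containing the class and all its opposites in the part contains the part
* `Frame.mem_a_of_weight`, `Frame.bracket_mem`, `Frame.low_part`
-/

set_option autoImplicit false
set_option linter.unusedSectionVars false

namespace Cfsg.Agent.EquivZJ

open Cfsg Module Cfsg.Agent.QuadRoot Cfsg.Agent.CoprimeZJ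

universe u v

variable {k : Type u} [Field k] {M : Type v} [AddCommGroup M] [Module k M] [FiniteDimensional k M]
  {X Y : Subgroup (LinearMap.GeneralLinearGroup k M)} {a b e f x y z q : Module.End k M}
  {g : LinearMap.GeneralLinearGroup k M}

/-- `e` is a minimal element in the part of `a`. -/
def InPart (X : Subgroup (LinearMap.GeneralLinearGroup k M)) (a e : Module.End k M) : Prop :=
  Dmin X e ∧ RankOne.FReach (quadraticRootSubgroups X) (cl X a) (cl X e)

/-- The group of the part of `a`. -/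
noncomputable abbrev Prt (X : Subgroup (LinearMap.GeneralLinearGroup k M)) (a : Module.End k M) :
    Subgroup (LinearMap.GeneralLinearGroup k M) :=
  partGroup X (cl X a)

theorem Prt_le : Prt X a ≤ X := partGroup_le.trans sigmaJoin_le

namespace InPart

theorem refl (ha : Dmin X a) : InPart X a a := ⟨ha, .refl⟩

theorem dmin (h : InPart X a e) : Dmin X e := h.1

theorem mem_part (h : InPart X a e) : cl X e ∈ part X (cl X a) :=
  ⟨mem_quadraticRootSubgroups.2 ⟨e, h.1, rfl⟩, h.2⟩

theorem cl_le (h : InPart X a e) : cl X e ≤ Prt X a := le_partGroup h.mem_part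

theorem of_class (h : InPart X a e) (hf : SameClass X e f) : InPart X a f :=
  ⟨hf.dmin, by show RankOne.FReach _ _ (sameActionSubgroup X (ex f)); rw [sameActionSubgroup_congr h.1 hf]; exact h.2⟩

theorem inG (h : InPart X a e) : InG (Prt X a) e := by
  refine ⟨h.1.inG.sq, fun c => h.cl_le ?_⟩
  rcases eq_or_ne c 0 with rfl | hc
  · rw [zero_smul, ex_zero]; exact one_mem _
  · exact ex_mem_sameActionSubgroup h.1 ((SameClass.refl h.1).smul hc)

theorem opp (hk2 : ringChar k ≠ 2) (hk3 : Nat.card k ≠ 3) (h : InPart X a e) (hf : Dmin X f) (ho : Opp e f) :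
    InPart X a f :=
  ⟨hf, h.2.trans (RankOne.fReach_adj h.mem_part.1 (mem_rootSubgroups hf) (rankOne_pair hk2 hk3 h.1 hf ho))⟩

theorem bracket (hk2 : ringChar k ≠ 2) (hk3 : Nat.card k ≠ 3) (hred : Reduced X) (h : InPart X a e)
    (hf : Dmin X f) (hne : e * f - f * e ≠ 0) : InPart X a f := by
  by_contra hn
  have hn' : ¬ RankOne.FReach (quadraticRootSubgroups X) (cl X e) (cl X f) := fun hr => hn ⟨hf, h.2.trans hr⟩
  exact hne (not_opp_of_commute hk2 hk3 h.1 hf (SameClass.refl h.1) (SameClass.refl hf)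
    (RankOne.elem_commute (commute_of_not_reach hk2 hk3 hred h.mem_part.1 (mem_rootSubgroups hf) hn')
      (ex_mem_sameActionSubgroup h.1 (SameClass.refl h.1)) (ex_mem_sameActionSubgroup hf (SameClass.refl hf))).eq).2

theorem cl_eq (h : InPart X a e) : cl (Prt X a) e = cl X e := by
  have hd := Dmin.of_sub Prt_le h.1 h.inG
  ext τ
  rw [mem_sameActionSubgroup hd, mem_sameActionSubgroup h.1]
  refine exists_congr fun w => and_congr_left' (or_congr Iff.rfl
    ⟨fun hw => SameClass.up Prt_le h.1 h.inG hw, fun hw => ⟨Dmin.of_sub Prt_le hw.dmin (h.of_class hw).inG,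
      hw.ker, hw.range⟩⟩)

end InPart

theorem prt_reduced (hk2 : ringChar k ≠ 2) (hk3 : Nat.card k ≠ 3) (hred : Reduced X) : Reduced (Prt X a) :=
  reduced_sub (reduced_sub hred sigmaJoin_le fun g hg => sigmaJoin_conj hg) partGroup_le
    fun g hg => partGroup_conj hk2 hk3 hred hg

theorem le_of_generators (hk2 : ringChar k ≠ 2) (hk3 : Nat.card k ≠ 3) (hred : Reduced X) (ha : Dmin X a)
    {H : Subgroup (LinearMap.GeneralLinearGroup k M)} (h0 : cl X a ≤ H)
    (h1 : ∀ e, InPart X a e → Opp a e → cl X e ≤ H) : Prt X a ≤ H := by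
  suffices key : ∀ {C}, RankOne.FReach (quadraticRootSubgroups X) (cl X a) C →
      ∃ g ∈ H, g ∈ X ∧ C = conjBy (cl X a) g by
    refine iSup₂_le fun C hC => ?_
    obtain ⟨g, hg, -, rfl⟩ := key hC.2
    rintro _ ⟨x, hx, rfl⟩
    exact mul_mem (mul_mem hg (h0 hx)) (inv_mem hg)
  intro C hC
  induction hC with
  | refl => exact ⟨1, one_mem _, one_mem _, (RankOne.conjBy_one _).symm⟩
  | @tail D C hD e ih =>
    obtain ⟨g, hg, hgX, rfl⟩ := ih
    obtain ⟨c, hc, rfl⟩ := mem_quadraticRootSubgroups.1 e.2.1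
    have hgN : g⁻¹ ∈ Subgroup.normalizer (X : Set (LinearMap.GeneralLinearGroup k M)) :=
      Subgroup.le_normalizer (inv_mem hgX)
    have hpair := RankOne.isRankOnePair_conjBy e.2.2 g⁻¹
    rw [RankOne.conjBy_inv_conjBy, cl_cj hgN hc] at hpair
    set d := cj g⁻¹ c
    have hd : Dmin X d := hc.conj (inv_mem hgX)
    have hin : InPart X a d := ⟨hd, RankOne.fReach_adj (mem_rootSubgroups ha) (mem_rootSubgroups hd) hpair⟩
    have ho : Opp a d := opp_of_rankOne hk2 hk3 hred ha hd hpair
    obtain ⟨s, hs, hse⟩ := RankOne.exists_conjBy_swap hpair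
    refine ⟨g * s, mul_mem hg (sup_le h0 (h1 d hin ho) hs),
      mul_mem hgX (sup_le (sameActionSubgroup_le ha) (sameActionSubgroup_le hd) hs), ?_⟩
    rw [← RankOne.conjBy_conjBy, hse, ← cl_cj hgN hc, RankOne.conjBy_conjBy_inv]

namespace Frame

variable {F : Frame X a b}

theorem mem_a_of_weight (ha : Dmin X a) (hx : InG X x) (h1 : F.eA * x = x) (h2 : x * F.eB = x) :
    x ∈ classSpace ha := by
  refine (em (x = 0)).imp id fun h0 => ?_
  have hr : LinearMap.range x ≤ LinearMap.range a := by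
    rw [← h1, eA, ← F.clA.range, mul_assoc]; exact LinearMap.range_comp_le_range _ _
  have hm := ha.of_rank_le hx h0 (Submodule.finrank_mono hr)
  have hr' := Submodule.eq_of_le_of_finrank_le hr (hm.rank_eq ha).ge
  refine ⟨hm, (Submodule.eq_of_le_of_finrank_le ?_ ?_).symm, hr'⟩
  · rw [← h2, eB, ← F.clA.ker, ← mul_assoc]; exact LinearMap.ker_le_ker_comp _ _
  · have k1 := LinearMap.finrank_range_add_finrank_ker a
    have k2 := LinearMap.finrank_range_add_finrank_ker x
    rw [hr'] at k2
    omega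

theorem bracket_mem (ha : Dmin X a) (hx : InG X x) (hy : InG X y) (hxW : F.IsW1 x) (hyW : F.IsW1 y) :
    x * y - y * x ∈ classSpace ha := by
  obtain ⟨a1, a2⟩ := hxW.mul hyW
  obtain ⟨b1, b2⟩ := hyW.mul hxW
  exact mem_a_of_weight ha (hx.bracket hy (hxW.triple hyW hxW) (hyW.triple hxW hyW))
    (by rw [mul_sub, a1, b1]) (by rw [sub_mul, a2, b2])

/-- The part of weight one of a member lowering the flag. -/
theorem low_part [Finite M] (h2 : (2 : k) ≠ 0) (ha : Dmin X a) (hb : Dmin X b) (hx : InG X x)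
    (he : x = F.w1 x + F.w2 x) :
    InG X (F.w1 x) ∧ finrank k (LinearMap.range (F.w1 x)) ≤ finrank k (LinearMap.range x) := by
  have hW := w1_isW1 (F := F) x
  have n1 : (-1 : k) ≠ 0 := neg_ne_zero.2 one_ne_zero
  have z1 : F.w1 x * F.w2 x = 0 := by
    rw [w2, ← mul_assoc, ← mul_assoc, hW.rA, zero_mul, zero_mul]
  have z2 : F.w2 x * F.w1 x = 0 := by rw [w2, mul_assoc, hW.lB, mul_zero]
  have z3 : F.w2 x * F.w2 x = 0 := by simp [w2, mul_assoc]
  have z0 : F.w1 x * F.w1 x = 0 := by
    have := hx.sq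
    rw [he, add_mul, mul_add, mul_add, z1, z2, z3, add_zero, add_zero, add_zero] at this
    exact this
  have hxA : x * F.eA = 0 := by rw [he, add_mul, hW.rA, w2]; simp [mul_assoc]
  have hBx : F.eB * x = 0 := by rw [he, mul_add, hW.lB, w2, ← mul_assoc, ← mul_assoc, eB_eA]; simp
  have ecj : cj (F.tor (-1)) x = F.w2 x - F.w1 x := by
    rw [F.cj_tor n1, show F.w0 x = 0 by rw [w0, mul_assoc _ x F.eA, hxA, hBx, he, mul_add, add_mul, hW.mid, w2]; simp [mul_assoc],
      show F.wn x = 0 by rw [wn, mul_assoc _ x F.eA, hxA, hBx]; simp,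
      show F.wm2 x = 0 by rw [wm2, hBx, zero_mul]]
    simp; abel
  have hG : InG X (F.w1 x) := by
    have hy := hx.conj (F.tor_mem ha hb (-1))
    rw [ecj] at hy
    have hz : InG X (x + -(F.w2 x - F.w1 x)) := by
      refine hx.add hy.neg ?_ ?_
      · conv_lhs => enter [1]; rw [he]
        simp [mul_add, add_mul, mul_sub, sub_mul, z0, z1, z2, z3]
      · conv_lhs => enter [2]; rw [he]
        simp [mul_add, add_mul, mul_sub, sub_mul, z0, z1, z2, z3]
    have := hz.smul (2 : k)⁻¹
    rwa [show x + -(F.w2 x - F.w1 x) = (2 : k) • F.w1 x by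
      conv_lhs => enter [1]; rw [he]
      rw [two_smul]; abel, smul_smul, inv_mul_cancel₀ h2, one_smul] at this
  refine ⟨hG, ?_⟩
  have e : F.w1 x = x * F.eO + F.eO * x := by
    conv_rhs => rw [he]
    rw [add_mul, mul_add, ← hW.lA, w2]
    simp [mul_assoc]
    conv_lhs => rw [← one_mul (F.w1 x), ← F.sum_eq, add_mul, add_mul, hW.lB, add_zero]
  have hm : F.eO * x * F.eO = 0 := by rw [he, mul_add, add_mul, hW.mid, w2]; simp [mul_assoc]
  have l3 : LinearMap.range (x * F.eO) ≤ LinearMap.range x ⊓ LinearMap.ker F.eO := by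
    refine le_inf (LinearMap.range_comp_le_range _ _) ?_
    rw [LinearMap.range_le_ker_iff, ← Module.End.mul_eq_comp, ← mul_assoc]
    exact hm
  have a1 := finrank_map_add F.eO (LinearMap.range x)
  rw [← LinearMap.range_comp, ← Module.End.mul_eq_comp] at a1
  have a2 := Submodule.finrank_mono l3
  have hle : LinearMap.range (F.w1 x) ≤ LinearMap.range (x * F.eO) ⊔ LinearMap.range (F.eO * x) := by
    rw [e]
    rintro _ ⟨v, rfl⟩
    rw [LinearMap.add_apply]
    exact add_mem (Submodule.mem_sup_left (LinearMap.mem_range_self _ v))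
      (Submodule.mem_sup_right (LinearMap.mem_range_self _ v))
  have a3 := (Submodule.finrank_mono hle).trans (Submodule.finrank_add_le_finrank_add_finrank _ _)
  omega

end Frame

end Cfsg.Agent.EquivZJ
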