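import Cfsg.Agent.Lib.EquivZJ.Nonopp
import Cfsg.Agent.Lib.Coprime.Invariant
import Cfsg.Agent.Lib.Cores.Basic

/-!
A quadratic element of all invariant Sylow subgroups and the parts of a reduced group.
* `InAll p X B g`, `InAll.sub`
* `fixes_part`, `fixes_class`, `centralises_class`
* `nonopp_all` : such an element is opposite to no minimal element, by induction on the group
-/

set_option autoImplicit false
set_option linter.unusedSectionVars false
set_option linter.style.haveILetI false

namespace Cfsg.Agent.EquivZJ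

open Cfsg Module Cfsg.Agent.QuadRoot Cfsg.Agent.CoprimeZJ
open scoped commutatorElement

universe u v

/-- `g` lies in all `B`-invariant Sylow `p`-subgroups of `X`. -/
def InAll {Γ : Type*} [Group Γ] (p : ℕ) (X B : Subgroup Γ) (g : Γ) : Prop :=
  ∀ P : Sylow p X, B ≤ Subgroup.normalizer ((P : Subgroup X).map X.subtype : Set Γ) →
    g ∈ (P : Subgroup X).map X.subtype

theorem InAll.sub {Γ : Type*} [Group Γ] [Finite Γ] {p : ℕ} [Fact p.Prime] {X Y B : Subgroup Γ} {g : Γ}
    (h : InAll p X B g) (hYX : Y ≤ X) (hBX : B ≤ Subgroup.normalizer (X : Set Γ))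
    (hcop : (Nat.card B).Coprime (Nat.card X)) (hsolv : Group.IsSolvable B ∨ Group.IsSolvable X) (hg : g ∈ Y) :
    InAll p Y B g := by
  intro P hP
  obtain ⟨T, hPT, hT⟩ := Coprime.exists_invariant_sylow_ge hBX hcop hsolv
    ((Subgroup.map_subtype_le _).trans hYX) (P.2.map Y.subtype) hP
  have hgT := h T hT
  set W := ((T : Subgroup X).map X.subtype).subgroupOf Y with hWdef
  have hW : IsPGroup p W := (T.2.map X.subtype).comap_of_injective Y.subtype Y.subtype_injective
  have hPW : (P : Subgroup Y) ≤ W := fun y hy => Subgroup.mem_subgroupOf.2 (hPT ⟨y, hy, rfl⟩)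
  refine ⟨⟨g, hg⟩, ?_, rfl⟩
  rw [SetLike.mem_coe, ← P.3 hW hPW]
  exact Subgroup.mem_subgroupOf.2 hgT

theorem isPGroup_finsetSup {Γ : Type*} [Group Γ] {ι : Type*} {p : ℕ} (U : ι → Subgroup Γ) (s : Finset ι)
    (hU : ∀ i ∈ s, IsPGroup p (U i))
    (hn : ∀ i ∈ s, ∀ j ∈ s, U i ≤ Subgroup.normalizer (U j : Set Γ)) :
    IsPGroup p (⨆ i ∈ s, U i : Subgroup Γ) := by
  classical
  induction s using Finset.induction with
  | empty =>
    rw [show (⨆ i ∈ (∅ : Finset ι), U i : Subgroup Γ) = ⊥ from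
      le_bot_iff.1 (iSup₂_le fun i hi => absurd hi (Finset.notMem_empty i))]
    exact IsPGroup.of_bot
  | insert i s hi ih =>
    rw [Finset.iSup_insert]
    refine IsPGroup.to_sup_of_normal_right' (hU i (Finset.mem_insert_self i s))
      (ih (fun j hj => hU j (Finset.mem_insert_of_mem hj))
        fun j hj l hl => hn j (Finset.mem_insert_of_mem hj) l (Finset.mem_insert_of_mem hl)) ?_
    refine RankOne.le_normalizer_of_conjBy_le fun x hx => ?_
    simp only [conjBy, Subgroup.map_iSup]
    refine iSup₂_mono fun j hj => ?_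
    exact (RankOne.conjBy_of_mem_normalizer
      (hn i (Finset.mem_insert_self i s) j (Finset.mem_insert_of_mem hj) hx)).le

variable {k : Type u} [Field k] {M : Type v} [AddCommGroup M] [Module k M] [FiniteDimensional k M]
  {X B : Subgroup (LinearMap.GeneralLinearGroup k M)} {a b e N : Module.End k M}

/-- The elements of `X` fixing the part of `A`. -/
def partStab [Finite M] (X H : Subgroup (LinearMap.GeneralLinearGroup k M)) (A : Subgroup (LinearMap.GeneralLinearGroup k M))
    (hH : H ≤ Subgroup.normalizer (X : Set (LinearMap.GeneralLinearGroup k M))) :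
    Subgroup (LinearMap.GeneralLinearGroup k M) where
  carrier := {g | g ∈ H ∧ RankOne.FReach (quadraticRootSubgroups X) A (conjBy A g)}
  one_mem' := ⟨one_mem _, by rw [RankOne.conjBy_one]⟩
  mul_mem' := fun {g h} hg hh => ⟨mul_mem hg.1 hh.1, by
    rw [← RankOne.conjBy_conjBy]
    exact hg.2.trans (reach_conj_normalizer (hH hg.1) hh.2)⟩
  inv_mem' := fun {g} hg => ⟨inv_mem hg.1, by
    have h := RankOne.fReach_symm (reach_conj_normalizer (hH (inv_mem hg.1)) hg.2)
    rwa [RankOne.conjBy_inv_conjBy] at h⟩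

variable [Finite M] [Finite k] {p : ℕ} [hp : Fact p.Prime] [CharP k p]
variable (hp5 : 5 ≤ p) (hk2 : ringChar k ≠ 2) (hk3 : Nat.card k ≠ 3) (hred : Reduced X)
include hp5 hk2 hk3 hred

theorem fixes_part (hN : InG X N) (ha : Dmin X a) :
    RankOne.FReach (quadraticRootSubgroups X) (cl X a) (cl X (cj (ex N) a)) := by
  by_contra hcon
  obtain ⟨b, hb, ho⟩ := exists_opp hk2 hk3 hred ha
  have hXn : X ≤ Subgroup.normalizer (X : Set (LinearMap.GeneralLinearGroup k M)) := Subgroup.le_normalizer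
  let H : AddSubgroup k :=
    { carrier := {s | ex (s • N) ∈ partStab X X (cl X a) hXn}
      zero_mem' := by
        show ex ((0 : k) • N) ∈ partStab X X (cl X a) hXn
        rw [zero_smul, ex_zero]; exact one_mem _
      add_mem' := fun {s t} hs ht => by
        show ex ((s + t) • N) ∈ partStab X X (cl X a) hXn
        rw [ex_add_smul hN.sq]; exact mul_mem hs ht
      neg_mem' := fun {s} hs => by
        show ex ((-s) • N) ∈ partStab X X (cl X a) hXn
        rw [neg_smul, ← ex_inv (smul_sq hN.sq s s)]; exact inv_mem hs }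
  have h1 : (1 : k) ∉ H := fun h => hcon (by
    have h' : RankOne.FReach (quadraticRootSubgroups X) (cl X a) (conjBy (cl X a) (ex ((1 : k) • N))) := h.2
    rwa [one_smul, cl_cj (hXn hN.ex_mem) ha] at h')
  have hnat : ∀ n : ℕ, 0 < n → n < p → (n : k) ∉ H := by
    intro n h0 hn hmem
    refine h1 ?_
    have hco : IsCoprime (n : ℤ) (p : ℤ) := Int.isCoprime_iff_nat_coprime.2 (by
      simpa using (hp.out.coprime_iff_not_dvd.2 fun hd => absurd (Nat.le_of_dvd h0 hd) (by omega)).symm)
    obtain ⟨u, w, huw⟩ := hco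
    have := congrArg (fun z : ℤ => (z : k)) huw
    simp only [Int.cast_add, Int.cast_mul, Int.cast_natCast, Int.cast_one, CharP.cast_eq_zero k p, mul_zero,
      add_zero] at this
    rw [← this, ← zsmul_eq_mul]
    exact AddSubgroup.zsmul_mem _ hmem u
  have hcomm : ∀ n : ℕ, 0 < n → n < p → cj (ex ((n : k) • N)) a * b - b * cj (ex ((n : k) • N)) a = 0 := by
    intro n h0 hn
    by_contra hne
    have hd : Dmin X (cj (ex ((n : k) • N)) a) := ha.conj (hN.mem _)
    have hI : InPart X a (cj (ex ((n : k) • N)) a) :=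
      ((InPart.refl ha).opp hk2 hk3 hb ho).bracket hk2 hk3 hred hd (by rw [← neg_sub, neg_ne_zero]; exact hne)
    refine hnat n h0 hn ⟨hN.mem _, ?_⟩
    rw [cl_cj (hXn (hN.mem _)) ha]
    exact hI.2
  have e : ∀ s : k, cj (ex (s • N)) a = a + s • (N * a - a * N) - (s * s) • (N * a * N) := by
    intro s
    rw [cj_ex (smul_sq hN.sq s s)]
    simp only [mul_sub, add_mul, mul_one, one_mul, smul_mul_assoc, mul_smul_comm, smul_sub, smul_add, smul_smul]
    module
  have ea : a = (3 : k) • cj (ex (((1 : ℕ) : k) • N)) a - (3 : k) • cj (ex (((2 : ℕ) : k) • N)) a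
      + cj (ex (((3 : ℕ) : k) • N)) a := by
    rw [e, e, e]
    push_cast
    match_scalars <;> ring
  refine ho ⟨2, ?_⟩
  have hz : a * b - b * a = 0 := by
    rw [ea, add_mul, sub_mul, mul_add, mul_sub, smul_mul_assoc, smul_mul_assoc, mul_smul_comm, mul_smul_comm]
    have c1 := sub_eq_zero.1 (hcomm 1 one_pos (by omega))
    have c2 := sub_eq_zero.1 (hcomm 2 two_pos (by omega))
    have c3 := sub_eq_zero.1 (hcomm 3 (by omega) (by omega))
    rw [c1, c2, c3, sub_self]
  rw [pow_two]
  conv_lhs => enter [2]; rw [sub_eq_zero.1 hz]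
  rw [mul_assoc, ← mul_assoc b, hb.inG.sq, zero_mul, mul_zero]

variable (hBX : B ≤ Subgroup.normalizer (X : Set (LinearMap.GeneralLinearGroup k M)))
  (hcop : (Nat.card B).Coprime (Nat.card X))
include hBX hcop

omit hred in
theorem solvable_B (ha : Dmin X a) (hb : Dmin X b) (ho : Opp a b) : Group.IsSolvable B :=
  OddOrderTheorem.solvable (Nat.coprime_two_right.1
    (hcop.coprime_dvd_right (two_dvd_card hk2 hk3 ha hb ho)))

theorem fixes_class (hN : InG X N) (hall : InAll p X B (ex N)) (ha : Dmin X a)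
    (hst : ∀ β ∈ B, RankOne.FReach (quadraticRootSubgroups X) (cl X a) (conjBy (cl X a) β) →
      β ∈ Subgroup.normalizer ((cl X a : Subgroup (LinearMap.GeneralLinearGroup k M)) : Set _)) :
    ex N ∈ Subgroup.normalizer ((cl X a : Subgroup (LinearMap.GeneralLinearGroup k M)) : Set _) := by
  classical
  obtain ⟨b, hb, ho⟩ := exists_opp hk2 hk3 hred ha
  set A := cl X a
  set P := Prt X a
  set U := lowSub P a ha.inG.sq
  have hUX : U ≤ X := fun u hu => Prt_le ((mem_lowSub ha.inG.sq).1 hu).1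
  have hUa : U ≤ Subgroup.normalizer ((cl X a : Subgroup (LinearMap.GeneralLinearGroup k M)) : Set _) := by
    intro u hu
    exact mem_normalizer_cl (Subgroup.le_normalizer (hUX hu)) ha
      (class_of_low ha ((mem_lowSub ha.inG.sq).2 ⟨hUX hu, ((mem_lowSub ha.inG.sq).1 hu).2⟩))
  have hUp : IsPGroup p U := isPGroup_lowSub (by omega) ha.inG.sq
  have hmap : ∀ β ∈ B, conjBy U β ≤ partGroup X (conjBy A β) := fun β hβ =>
    (RankOne.conjBy_mono (fun u hu => ((mem_lowSub ha.inG.sq).1 hu).1) β).trans (partGroup_conj_le (hBX hβ) A)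
  have hsame : ∀ β ∈ B, RankOne.FReach (quadraticRootSubgroups X) A (conjBy A β) → conjBy U β = U := by
    have key : ∀ β ∈ B, RankOne.FReach (quadraticRootSubgroups X) A (conjBy A β) → conjBy U β ≤ U := by
      intro β hβ hr
      have hn := hst β hβ hr
      rintro _ ⟨u, hu, rfl⟩
      obtain ⟨-, hl⟩ := (mem_lowSub ha.inG.sq).1 hu
      obtain ⟨h1, h2⟩ := fix_flag (hBX hβ) ha hn
      refine (mem_lowSub ha.inG.sq).2 ⟨?_, isLow_conj h1 h2 hl⟩
      have h3 := hmap β hβ (RankOne.conj_mem_conjBy β hu)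
      rwa [RankOne.conjBy_of_mem_normalizer hn] at h3
    intro β hβ hr
    refine le_antisymm (key β hβ hr) ?_
    have hn := hst β hβ hr
    have hr' : RankOne.FReach (quadraticRootSubgroups X) A (conjBy A β⁻¹) := by
      rw [RankOne.conjBy_of_mem_normalizer (inv_mem hn)]
    have h4 := RankOne.conjBy_mono (key β⁻¹ (inv_mem hβ) hr') β
    rwa [RankOne.conjBy_conjBy_inv] at h4
  have hpair : ∀ β ∈ B, ∀ γ ∈ B, conjBy U β ≤ Subgroup.normalizer (conjBy U γ : Set _) := by
    intro β hβ γ hγ
    by_cases hr : RankOne.FReach (quadraticRootSubgroups X) A (conjBy A (γ⁻¹ * β))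
    · have e := hsame _ (mul_mem (inv_mem hγ) hβ) hr
      rw [← RankOne.conjBy_conjBy] at e
      have e' := congrArg (fun V => conjBy V γ) e
      simp only [RankOne.conjBy_conjBy_inv] at e'
      rw [e']
      exact Subgroup.le_normalizer
    · have hn : ¬ RankOne.FReach (quadraticRootSubgroups X) (conjBy A β) (conjBy A γ) := fun h => hr (by
        have h' := RankOne.fReach_symm (reach_conj_normalizer (hBX (inv_mem hγ)) h)
        rwa [RankOne.conjBy_inv_conjBy, RankOne.conjBy_conjBy] at h')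
      exact (Subgroup.commutator_eq_bot_iff_le_centralizer.1 (le_bot_iff.1
        ((Subgroup.commutator_mono (hmap β hβ) (hmap γ hγ)).trans (parts_commute hk2 hk3 hred hn).le))).trans
        (Subgroup.centralizer_le_normalizer _)
  haveI : Fintype B := Fintype.ofFinite B
  set W : Subgroup (LinearMap.GeneralLinearGroup k M) :=
    ⨆ β ∈ (Finset.univ : Finset B), conjBy U (β : LinearMap.GeneralLinearGroup k M)
  have hW : IsPGroup p W := isPGroup_finsetSup _ _ (fun β _ => hUp.map _) fun β _ γ _ => hpair β β.2 γ γ.2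
  have hWB : B ≤ Subgroup.normalizer (W : Set (LinearMap.GeneralLinearGroup k M)) :=
    RankOne.le_normalizer_of_conjBy_le fun γ hγ => by
      simp only [W, conjBy, Subgroup.map_iSup]
      refine iSup₂_le fun β _ => ?_
      refine le_trans (le_of_eq ?_) (le_iSup₂ (f := fun (β : B) _ => conjBy U (β : LinearMap.GeneralLinearGroup k M))
        (⟨γ, hγ⟩ * β) (Finset.mem_univ _))
      exact RankOne.conjBy_conjBy ..
  have hWX : W ≤ X := iSup₂_le fun β _ => by
    rintro _ ⟨u, hu, rfl⟩
    exact (Subgroup.mem_normalizer_iff.1 (hBX β.2) _).1 (hUX hu)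
  obtain ⟨T, hWT, hT⟩ := Coprime.exists_invariant_sylow_ge hBX hcop
    (Or.inl (solvable_B hp5 hk2 hk3 hBX hcop ha hb ho)) hWX hW hWB
  set S := Subgroup.zpowers (ex N) ⊔ U with hSdef
  have hUW : U ≤ W := le_trans (RankOne.conjBy_one U).ge
    (le_iSup₂ (f := fun (β : B) _ => conjBy U (β : LinearMap.GeneralLinearGroup k M)) 1 (Finset.mem_univ _))
  have hS : IsPGroup p S :=
    (T.2.map X.subtype).to_le (sup_le (Subgroup.zpowers_le.2 (hall T hT)) (hUW.trans hWT))
  have hXn : X ≤ Subgroup.normalizer (X : Set (LinearMap.GeneralLinearGroup k M)) := Subgroup.le_normalizer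
  have hSst : S ≤ partStab X X A hXn := by
    refine sup_le (Subgroup.zpowers_le.2 ⟨hN.ex_mem, ?_⟩) fun u hu => ⟨hUX hu, ?_⟩
    · rw [cl_cj (hXn hN.ex_mem) ha]; exact fixes_part hp5 hk2 hk3 hred hN ha
    · rw [RankOne.conjBy_of_mem_normalizer (hUa hu)]
  let Ω := {C : Subgroup (LinearMap.GeneralLinearGroup k M) // C ∈ part X A}
  have hact : ∀ s ∈ S, ∀ C ∈ part X A, conjBy C s ∈ part X A := fun s hs C hC =>
    ⟨conj_member (hXn (hSst hs).1) hC.1, (hSst hs).2.trans (reach_conj_normalizer (hXn (hSst hs).1) hC.2)⟩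
  letI : MulAction S Ω :=
    { smul := fun s C => ⟨conjBy C.1 s, hact s s.2 C.1 C.2⟩
      one_smul := fun C => Subtype.ext (RankOne.conjBy_one _)
      mul_smul := fun s t C => Subtype.ext (RankOne.conjBy_conjBy ..).symm }
  let ι : U →* S := Subgroup.inclusion le_sup_right
  letI : MulAction U Ω := MulAction.compHom Ω ι
  let A₀ : Ω := ⟨A, (InPart.refl ha).mem_part⟩
  have hfix : ∀ C : Ω, C ∈ MulAction.fixedPoints U Ω ↔ C = A₀ := by
    intro C
    constructor
    · intro hC
      obtain ⟨q, hq, hqe⟩ := mem_quadraticRootSubgroups.1 C.2.1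
      have hqI : InPart X a q := ⟨hq, by have := C.2.2; rwa [hqe] at this⟩
      have hUq : U ≤ Subgroup.normalizer ((cl X q : Subgroup (LinearMap.GeneralLinearGroup k M)) : Set _) :=
        fun u hu => RankOne.conjBy_eq_self_iff.1 (by
          have := congrArg Subtype.val (hC ⟨u, hu⟩)
          change conjBy C.1 u = C.1 at this
          rwa [hqe] at this)
      have hc := unique hp5 hk2 hk3 hred ha hb ho hqI hUq
      exact Subtype.ext (hqe.trans (sameActionSubgroup_congr ha hc))
    · rintro rfl u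
      exact Subtype.ext (RankOne.conjBy_of_mem_normalizer (hUa u.2))
  haveI : Finite Ω := inferInstance
  have hmod := hUp.card_modEq_card_fixedPoints Ω
  have hcard : Nat.card (MulAction.fixedPoints U Ω) = 1 := by
    rw [Nat.card_eq_one_iff_unique]
    exact ⟨⟨fun C D => Subtype.ext (((hfix C.1).1 C.2).trans ((hfix D.1).1 D.2).symm)⟩, ⟨⟨A₀, (hfix A₀).2 rfl⟩⟩⟩
  rw [hcard] at hmod
  have hnd : ¬ p ∣ Nat.card Ω := fun h => by
    have h0 := (Nat.modEq_zero_iff_dvd.2 h).symm.trans hmod
    exact hp.out.not_dvd_one (Nat.modEq_zero_iff_dvd.1 h0.symm)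
  obtain ⟨C, hC⟩ := hS.nonempty_fixed_point_of_prime_not_dvd_card Ω hnd
  have hCA : C = A₀ := (hfix C).1 fun u => hC (ι u)
  subst hCA
  exact RankOne.conjBy_eq_self_iff.1
    (congrArg Subtype.val (hC ⟨ex N, Subgroup.mem_sup_left (Subgroup.mem_zpowers _)⟩))

omit hred hBX hcop in
theorem centralises_class (hN : InG X N) (ha : Dmin X a)
    (hga : ex N ∈ Subgroup.normalizer ((cl X a : Subgroup (LinearMap.GeneralLinearGroup k M)) : Set _))
    {c : Module.End k M} (hc : SameClass X a c) : Commute N c := by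
  have h2 : (2 : k) ≠ 0 := Frame.two_ne hp5
  have hgX : ex N ∈ Subgroup.normalizer (X : Set (LinearMap.GeneralLinearGroup k M)) :=
    Subgroup.le_normalizer hN.ex_mem
  have hmem : c ∈ classSpace ha := Or.inr hc
  have m1 : cj (ex N) c ∈ classSpace ha := cj_classSpace hgX hga hmem
  have m2 : cj (ex (-N)) c ∈ classSpace ha := by
    rw [← ex_inv hN.sq]; exact cj_classSpace (inv_mem hgX) (inv_mem hga) hmem
  set w := N * c * N with hwdef
  set d := N * c - c * N with hddef
  have e1 : cj (ex N) c = c + d - w := by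
    rw [cj_ex hN.sq, mul_sub, mul_one, add_mul, one_mul, add_mul]; simp only [d, w]; abel
  have e2 : cj (ex (-N)) c = c - d - w := by
    rw [cj_ex hN.neg.sq]; simp [d, w, mul_add, add_mul, mul_sub, mul_assoc]; abel
  have hw : w ∈ classSpace ha := by
    refine ((classSpace ha).smul_mem_iff h2).1 ?_
    rw [show (2 : k) • w = (2 : k) • c - (cj (ex N) c + cj (ex (-N)) c) by rw [e1, e2, two_smul, two_smul]; abel]
    exact sub_mem (Submodule.smul_mem _ _ hmem) (add_mem m1 m2)
  have hw0 : w = 0 := by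
    rcases hw with h | h
    · exact h
    exfalso
    set R := LinearMap.range a
    obtain ⟨hr, -⟩ := fix_flag hgX ha hga
    have hle : R.map N ≤ R := by
      rintro _ ⟨v, hv, rfl⟩
      have hg : (ex N : Module.End k M) v ∈ R := hr.le ⟨v, hv, rfl⟩
      have hs := sub_mem hg hv
      rwa [coe_ex hN.sq, LinearMap.add_apply, Module.End.one_apply, add_sub_cancel_left] at hs
    have hlt : R.map N < R := lt_of_le_of_ne hle fun he => ha.ne (LinearMap.range_eq_bot.1 (by
      have he2 : (R.map N).map N = R := by rw [he, he]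
      show R = ⊥
      rw [← he2, ← Submodule.map_comp, ← Module.End.mul_eq_comp, hN.sq, Submodule.map_zero]))
    have hlt' := Submodule.finrank_lt_finrank_of_lt hlt
    have hwr : LinearMap.range w ≤ R.map N := by
      rintro _ ⟨v, rfl⟩
      refine ⟨c (N v), ?_, rfl⟩
      show c (N v) ∈ R
      rw [show R = LinearMap.range c from hc.range.symm]
      exact LinearMap.mem_range_self c _
    have := Submodule.finrank_mono hwr
    have h3 := h.dmin.rank_eq ha
    simp only [R] at *
    omega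
  have hd : d ∈ classSpace ha := by
    have e : d = cj (ex N) c - c := by rw [e1, hw0]; abel
    rw [e]; exact sub_mem m1 hmem
  rcases hd with hd | hd
  · exact sub_eq_zero.1 hd
  exfalso
  have hw' : N * (c * N) = 0 := by rw [← mul_assoc]; exact hw0
  have n1 : N * d = 0 := by simp only [d, mul_sub, ← mul_assoc N N, hN.sq, zero_mul, hw', sub_zero]
  have n2 : d * N = 0 := by
    simp only [d, sub_mul, mul_assoc c N N, hN.sq, mul_zero]; rw [← hwdef, hw0, sub_zero]
  have hcd : SameClass X d c := class_trans (class_symm ha hd) hc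
  have h3 := kill_right hcd n2
  have h4 := kill_left hcd n1
  exact hd.dmin.ne (by simp only [d, h3, h4, sub_zero])

theorem exists_fixed_pair (he : Dmin X e) : ∃ a b, InPart X a e ∧ Dmin X a ∧ Dmin X b ∧ Opp a b ∧
    (∀ β ∈ B, RankOne.FReach (quadraticRootSubgroups X) (cl X a) (conjBy (cl X a) β) →
      β ∈ Subgroup.normalizer ((cl X a : Subgroup (LinearMap.GeneralLinearGroup k M)) : Set _)) ∧
    (∀ β ∈ B, RankOne.FReach (quadraticRootSubgroups X) (cl X b) (conjBy (cl X b) β) →
      β ∈ Subgroup.normalizer ((cl X b : Subgroup (LinearMap.GeneralLinearGroup k M)) : Set _)) := by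
  obtain ⟨f, hf, hof⟩ := exists_opp hk2 hk3 hred he
  set A := cl X e
  have hA : A ∈ quadraticRootSubgroups X := mem_rootSubgroups he
  set B₁ := partStab X B A hBX
  have hB₁ : B₁ ≤ B := fun g hg => hg.1
  set P := partGroup X A
  have hPX : P ≤ X := partGroup_le.trans sigmaJoin_le
  have hB₁P : B₁ ≤ Subgroup.normalizer (P : Set (LinearMap.GeneralLinearGroup k M)) := fun g hg =>
    Coprime.mem_normalizer_of_forall fun x hx => by
      have h : partGroup X (conjBy A g) ≤ P := iSup₂_le fun C hC => le_partGroup ⟨hC.1, hg.2.trans hC.2⟩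
      exact h (partGroup_conj_le (hBX hg.1) A (RankOne.conj_mem_conjBy g hx))
  have hsolv := solvable_B hp5 hk2 hk3 hBX hcop he hf hof
  obtain ⟨w, hw, hwB⟩ := Coprime.exists_invariant_conj hB₁P
    ((hcop.coprime_dvd_left (Subgroup.card_dvd_of_le hB₁)).coprime_dvd_right (Subgroup.card_dvd_of_le hPX))
    (Or.inl (Coprime.isSolvable_of_le hB₁ hsolv)) (P := A) fun g hg => by
      obtain ⟨x, hx, hxe⟩ := exists_part_conj hk2 hk3 hred (A := A) ⟨hA, .refl⟩ ⟨conj_member (hBX hg.1) hA, hg.2⟩
      exact ⟨x, hx, by rw [conj_smul_eq, conj_smul_eq, hxe]⟩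
  have hwN := Subgroup.le_normalizer (H := X) (hPX hw)
  rw [conj_smul_eq, cl_cj hwN he] at hwB
  set a := cj w e
  have ha : Dmin X a := dmin_cj hwN he
  have hb0 : Dmin X (cj w f) := dmin_cj hwN hf
  obtain ⟨b, hb, ho, hbB⟩ := CoprimeZJ.exists_fixed_opp hp5 hk2 hk3 ha hb0 (opp_cj w hof) (hB₁.trans hBX)
    (hcop.coprime_dvd_left (Subgroup.card_dvd_of_le hB₁)) hwB
  have hea : RankOne.FReach (quadraticRootSubgroups X) A (cl X a) := by
    rw [← cl_cj hwN he]; exact reach_conj hk2 hk3 hred hA (partGroup_le hw)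
  have heb : RankOne.FReach (quadraticRootSubgroups X) A (cl X b) :=
    hea.trans ((InPart.refl ha).opp hk2 hk3 hb ho).2
  have hstab : ∀ c : Module.End k M, RankOne.FReach (quadraticRootSubgroups X) A (cl X c) → ∀ β ∈ B,
      RankOne.FReach (quadraticRootSubgroups X) (cl X c) (conjBy (cl X c) β) → β ∈ B₁ := fun c hc β hβ hr =>
    ⟨hβ, hc.trans (hr.trans (RankOne.fReach_symm (reach_conj_normalizer (hBX hβ) hc)))⟩
  exact ⟨a, b, ⟨he, RankOne.fReach_symm hea⟩, ha, hb, ho, fun β hβ hr => hwB (hstab a hea β hβ hr),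
    fun β hβ hr => hbB (hstab b heb β hβ hr)⟩

theorem nonopp_all (hN : InG X N) (hall : InAll p X B (ex N))
    (ih : ∀ Y : Subgroup (LinearMap.GeneralLinearGroup k M), Y < X →
      B ≤ Subgroup.normalizer (Y : Set (LinearMap.GeneralLinearGroup k M)) → ex N ∈ Y → InAll p Y B (ex N) →
      ex N ∈ (Cfsg.pCore p Y).map Y.subtype) (he : Dmin X e) : ¬ Opp e N := by
  obtain ⟨a, b, haI, ha, hb, ho, hsa, hsb⟩ := exists_fixed_pair hp5 hk2 hk3 hred hBX hcop he
  have hbI : InPart X a b := (InPart.refl ha).opp hk2 hk3 hb ho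
  have hga : ∀ {c : Module.End k M}, Dmin X c → (∀ β ∈ B, RankOne.FReach (quadraticRootSubgroups X) (cl X c)
      (conjBy (cl X c) β) → β ∈ Subgroup.normalizer ((cl X c : Subgroup (LinearMap.GeneralLinearGroup k M)) : Set _)) →
      ∀ β ∈ B, ex N ∈ Subgroup.normalizer (conjBy (cl X c) β : Set (LinearMap.GeneralLinearGroup k M)) := by
    intro c hc hsc β hβ
    rw [cl_cj (hBX hβ) hc]
    refine fixes_class hp5 hk2 hk3 hred hBX hcop hN hall (dmin_cj (hBX hβ) hc) fun γ hγ hr => ?_
    rw [← cl_cj (hBX hβ) hc] at hr ⊢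
    have hm : β⁻¹ * γ * β ∈ B := mul_mem (mul_mem (inv_mem hβ) hγ) hβ
    have h := hsc _ hm (by
      have h' := reach_conj_normalizer (hBX (inv_mem hβ)) hr
      rwa [RankOne.conjBy_inv_conjBy, RankOne.conjBy_conjBy, RankOne.conjBy_conjBy] at h'
      first | done | exact h' | simpa [mul_assoc] using h')
    refine RankOne.conjBy_eq_self_iff.1 ?_
    have h2 := congrArg (fun V => conjBy V β) (RankOne.conjBy_of_mem_normalizer h)
    simpa [RankOne.conjBy_conjBy, mul_assoc] using h2
  let Y : Subgroup (LinearMap.GeneralLinearGroup k M) :=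
    { carrier := {x : LinearMap.GeneralLinearGroup k M | x ∈ X ∧ ∀ β ∈ B,
        x ∈ Subgroup.normalizer ((conjBy (cl X a) β : Subgroup (LinearMap.GeneralLinearGroup k M)) : Set (LinearMap.GeneralLinearGroup k M)) ∧
        x ∈ Subgroup.normalizer ((conjBy (cl X b) β : Subgroup (LinearMap.GeneralLinearGroup k M)) : Set (LinearMap.GeneralLinearGroup k M))}
      one_mem' := ⟨one_mem _, fun β _ => ⟨one_mem _, one_mem _⟩⟩
      mul_mem' := fun {x y} hx hy => ⟨mul_mem hx.1 hy.1, fun β hβ =>
        ⟨mul_mem (hx.2 β hβ).1 (hy.2 β hβ).1, mul_mem (hx.2 β hβ).2 (hy.2 β hβ).2⟩⟩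
      inv_mem' := fun {x} hx => ⟨inv_mem hx.1, fun β hβ => ⟨inv_mem (hx.2 β hβ).1, inv_mem (hx.2 β hβ).2⟩⟩ }
  have hYX : Y ≤ X := fun x hx => hx.1
  have hgY : ex N ∈ Y := ⟨hN.ex_mem, fun β hβ => ⟨hga ha hsa β hβ, hga hb hsb β hβ⟩⟩
  have hBY : B ≤ Subgroup.normalizer (Y : Set (LinearMap.GeneralLinearGroup k M)) := fun γ hγ =>
    Coprime.mem_normalizer_of_forall fun x hx => ⟨(Subgroup.mem_normalizer_iff.1 (hBX hγ) _).1 hx.1, fun β hβ => by
      have key : ∀ C : Subgroup (LinearMap.GeneralLinearGroup k M),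
          x ∈ Subgroup.normalizer (conjBy C (γ⁻¹ * β) : Set _) →
          γ * x * γ⁻¹ ∈ Subgroup.normalizer (conjBy C β : Set _) := fun C hC => by
        refine RankOne.conjBy_eq_self_iff.1 ?_
        have h2 := congrArg (fun V => conjBy V γ) (RankOne.conjBy_of_mem_normalizer hC)
        simpa [RankOne.conjBy_conjBy, mul_assoc] using h2
      have h := hx.2 _ (mul_mem (inv_mem hγ) hβ)
      exact ⟨key _ h.1, key _ h.2⟩⟩
  have hlt : Y < X := lt_of_le_of_ne hYX fun h => sameActionSubgroup_ne_bot ha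
    (hred (cl X a) (sameActionSubgroup_le ha) (unipotent_mono
      (unipotent_sup hk2 hk3 ha ha (not_not.2 ⟨1, by rw [pow_one, ha.inG.sq]⟩)) le_sup_left) fun g hg => by
        rw [← h] at hg
        have := (hg.2 1 (one_mem _)).1
        rw [RankOne.conjBy_one] at this
        exact RankOne.conjBy_of_mem_normalizer this)
  have hYall : InAll p Y B (ex N) :=
    hall.sub hYX hBX hcop (Or.inl (solvable_B hp5 hk2 hk3 hBX hcop ha hb ho)) hgY
  set Q := (Cfsg.pCore p Y).map Y.subtype
  have hga1 := hga ha hsa 1 (one_mem _)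
  have hgb1 := hga hb hsb 1 (one_mem _)
  rw [RankOne.conjBy_one] at hga1 hgb1
  have hP : ∀ y ∈ Prt X a, y ∈ Subgroup.normalizer ((cl X a : Subgroup (LinearMap.GeneralLinearGroup k M)) : Set _) →
      y ∈ Subgroup.normalizer ((cl X b : Subgroup (LinearMap.GeneralLinearGroup k M)) : Set _) → y ∈ Y := by
    intro y hy h1 h2
    refine ⟨Prt_le hy, fun β hβ => ?_⟩
    have hreach : RankOne.FReach (quadraticRootSubgroups X) (conjBy (cl X a) β) (conjBy (cl X b) β) :=
      reach_conj_normalizer (hBX hβ) hbI.2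
    by_cases hr : RankOne.FReach (quadraticRootSubgroups X) (cl X a) (conjBy (cl X a) β)
    · rw [RankOne.conjBy_of_mem_normalizer (hsa β hβ hr), RankOne.conjBy_of_mem_normalizer
        (hsb β hβ ((RankOne.fReach_symm hbI.2).trans (hr.trans hreach)))]
      exact ⟨h1, h2⟩
    · have hc := Subgroup.commutator_eq_bot_iff_le_centralizer.1 (parts_commute hk2 hk3 hred hr)
      have hm : ∀ c : Module.End k M, InPart X a c →
          y ∈ Subgroup.normalizer (conjBy (cl X c) β : Set _) := fun c hc' =>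
        Subgroup.centralizer_le_normalizer _
          (Subgroup.centralizer_le (le_partGroup (G := X)
            ⟨conj_member (hBX hβ) hc'.mem_part.1, reach_conj_normalizer (hBX hβ) hc'.2⟩) (hc hy))
      exact ⟨hm a (InPart.refl ha), hm b hbI⟩
  have hC : Centred X a b N Q :=
    ⟨ha, hb, ho, hN, fun c hc => centralises_class hp5 hk2 hk3 hN ha hga1 hc,
      fun c hc => centralises_class hp5 hk2 hk3 hN hb hgb1 hc, ih Y hlt hBY hgY hYall,
      isUnipotentOn_of_isPGroup ((Cores.isPGroup_pCore p Y).map _),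
      fun y hy h1 h2 => Cores.normalizer_le_normalizer_map (Cfsg.pCore p Y) (Subgroup.le_normalizer (hP y hy h1 h2))⟩
  exact hC.not_opp hp5 hk2 hk3 hred haI

end Cfsg.Agent.EquivZJ
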