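import Cfsg.Agent.Lib.EquivZJ.Frame
import Cfsg.Agent.Lib.CoprimeZJ.Fixed
import Cfsg.Agent.Lib.QuadRoot.Commutator

/-!
Classes of pure weight with respect to a frame.
* `classSpace`, `flip`, `Dmin.of_sub`
* `Frame.IsW1`, `Frame.IsW0`; `partner`, `class_pure`, `class_pure0`, `key_ne`
* `exists_opp_tor`, `exists_opp_one`, `exists_opp_zero` : pure opposites
-/

set_option autoImplicit false
set_option linter.unusedSectionVars false

namespace Cfsg.Agent.EquivZJ

open Cfsg Module Cfsg.Agent.QuadRoot Cfsg.Agent.CoprimeZJ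

universe u v

variable {k : Type u} [Field k] {M : Type v} [AddCommGroup M] [Module k M] [FiniteDimensional k M]
  {X Y : Subgroup (LinearMap.GeneralLinearGroup k M)} {a b x y z r q e : Module.End k M}
  {g : LinearMap.GeneralLinearGroup k M} {t : k}

/-- A class with zero. -/
def classSpace (ha : Dmin X a) : Submodule k (Module.End k M) where
  carrier := {w | w = 0 ∨ SameClass X a w}
  zero_mem' := Or.inl rfl
  add_mem' := by
    rintro w w' (rfl | hw) hw'
    · rwa [zero_add]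
    · rcases hw' with rfl | hw'
      · rw [add_zero]; exact Or.inr hw
      · exact (em _).imp id fun h0 => hw.add ha hw' h0
  smul_mem' := by
    rintro c w (rfl | hw)
    · exact Or.inl (smul_zero c)
    rcases eq_or_ne c 0 with rfl | hc
    · exact Or.inl (zero_smul k w)
    · exact Or.inr (hw.smul hc)

theorem mem_classSpace {ha : Dmin X a} {w : Module.End k M} :
    w ∈ classSpace ha ↔ w = 0 ∨ SameClass X a w := Iff.rfl

theorem inG_of_classSpace {ha : Dmin X a} (h : x ∈ classSpace ha) : InG X x := by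
  rcases h with rfl | h
  exacts [InG.zero, h.dmin.inG]

theorem ex_mem_cl {ha : Dmin X a} (h : x ∈ classSpace ha) : ex x ∈ cl X a := by
  rcases h with rfl | h
  · rw [ex_zero]; exact one_mem _
  · exact ex_mem_sameActionSubgroup ha h

theorem cj_classSpace (hg : g ∈ Subgroup.normalizer (X : Set (LinearMap.GeneralLinearGroup k M))) {ha : Dmin X a}
    (hga : g ∈ Subgroup.normalizer ((cl X a : Subgroup (LinearMap.GeneralLinearGroup k M)) : Set _))
    (h : x ∈ classSpace ha) : cj g x ∈ classSpace ha := by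
  rcases h with rfl | h
  exacts [Or.inl (cj_zero g), Or.inr (class_of_normalizer hg ha hga h)]

theorem flip (hk2 : ringChar k ≠ 2) (hk3 : Nat.card k ≠ 3) (ha : Dmin X a) (he : Dmin X e) :
    a * e * a ∈ classSpace ha := by
  by_cases ho : Opp a e
  · obtain ⟨n, z, _, _, _, _, h, _⟩ := exists_swap hk2 hk3 ha he ho (SameClass.refl ha)
    exact Or.inr (h e (SameClass.refl he)).2
  · exact Or.inl (unipotent_pair hk2 ha he ho).1

theorem kill_right (h : SameClass X z x) (hy : z * y = 0) : x * y = 0 := by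
  rw [Module.End.mul_eq_comp, ← LinearMap.range_le_ker_iff, h.ker, LinearMap.range_le_ker_iff]; exact hy

theorem kill_left (h : SameClass X z x) (hy : y * z = 0) : y * x = 0 := by
  rw [Module.End.mul_eq_comp, ← LinearMap.range_le_ker_iff, h.range, LinearMap.range_le_ker_iff]; exact hy

theorem InG.mono (h : Y ≤ X) (hx : InG Y x) : InG X x := ⟨hx.sq, fun c => h (hx.mem c)⟩

theorem Dmin.of_sub (h : Y ≤ X) (ha : Dmin X a) (hY : InG Y a) : Dmin Y a :=
  ⟨hY, ha.ne, fun c hc hc0 => ha.min c (InG.mono h hc) hc0⟩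

theorem Dmin.up (h : Y ≤ X) (ha : Dmin X a) (hY : InG Y a) (hx : Dmin Y x) : Dmin X x :=
  ha.of_rank_le (InG.mono h hx.inG) hx.ne (hx.min a hY ha.ne)

theorem SameClass.up (h : Y ≤ X) (ha : Dmin X a) (hY : InG Y a) (hx : SameClass Y y x) : SameClass X y x :=
  ⟨Dmin.up h ha hY hx.dmin, hx.ker, hx.range⟩

namespace Frame

variable (F : Frame X a b)

theorem dminA : Dmin X F.A := F.clA.dmin
theorem dminB : Dmin X F.B := F.clB.dmin

/-- Pure of weight one. -/
structure IsW1 (x : Module.End k M) : Prop where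
  rA : x * F.eA = 0
  lB : F.eB * x = 0
  mid : F.eO * x * F.eO = 0
  top : F.eA * x * F.eB = 0

/-- Pure of weight zero. -/
structure IsW0 (x : Module.End k M) : Prop where
  cA : Commute x F.eA
  cB : Commute x F.eB

variable {F}

namespace IsW1

theorem xA (h : F.IsW1 x) : x * F.A = 0 := by rw [← F.eA_A, ← mul_assoc, h.rA, zero_mul]

theorem Ax (h : F.IsW1 x) : F.A * x = 0 := by rw [← F.A_eB, mul_assoc, h.lB, mul_zero]

theorem lA (h : F.IsW1 x) : F.eA * x = x * F.eO := by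
  have e1 : F.eA * x = F.eA * x * F.eO := by
    conv_lhs => rw [← mul_one (F.eA * x), ← F.sum_eq, mul_add, mul_add, mul_assoc _ x F.eA, h.rA, mul_zero,
      zero_add, h.top, add_zero]
  have e2 : x * F.eO = F.eA * x * F.eO := by
    conv_lhs => rw [← one_mul (x * F.eO), ← F.sum_eq, add_mul, add_mul, ← mul_assoc F.eO, h.mid, ← mul_assoc,
      ← mul_assoc, h.lB, zero_mul, add_zero, add_zero]
  exact e1.trans e2.symm

theorem rB (h : F.IsW1 x) : F.eO * x = x * F.eB := by
  have e1 : F.eO * x = F.eO * x * F.eB := by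
    conv_lhs => rw [← mul_one (F.eO * x), ← F.sum_eq, mul_add, mul_add, mul_assoc _ x F.eA, h.rA, mul_zero,
      zero_add, h.mid, zero_add]
  have e2 : x * F.eB = F.eO * x * F.eB := by
    conv_lhs => rw [← one_mul (x * F.eB), ← F.sum_eq, add_mul, add_mul, ← mul_assoc F.eA, h.top,
      ← mul_assoc, ← mul_assoc F.eB, h.lB, zero_mul, add_zero, zero_add]
  exact e1.trans e2.symm

theorem zero : F.IsW1 0 := ⟨by simp, by simp, by simp, by simp⟩

theorem add (h : F.IsW1 x) (h' : F.IsW1 y) : F.IsW1 (x + y) :=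
  ⟨by rw [add_mul, h.rA, h'.rA, add_zero], by rw [mul_add, h.lB, h'.lB, add_zero],
    by rw [mul_add, add_mul, h.mid, h'.mid, add_zero], by rw [mul_add, add_mul, h.top, h'.top, add_zero]⟩

theorem smul (h : F.IsW1 x) (c : k) : F.IsW1 (c • x) :=
  ⟨by rw [smul_mul_assoc, h.rA, smul_zero], by rw [mul_smul_comm, h.lB, smul_zero],
    by rw [mul_smul_comm, smul_mul_assoc, h.mid, smul_zero], by rw [mul_smul_comm, smul_mul_assoc, h.top, smul_zero]⟩

theorem sub (h : F.IsW1 x) (h' : F.IsW1 y) : F.IsW1 (x - y) := by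
  rw [sub_eq_add_neg, ← neg_one_smul k y]; exact h.add (h'.smul _)

theorem w1_eq (h : F.IsW1 x) : F.w1 x = x := by
  conv_rhs => rw [← one_mul x, ← F.sum_eq, add_mul, add_mul, h.lB, add_zero, h.lA, h.rB]
  rw [w1, h.lA, h.rB, mul_assoc, mul_assoc, eO_eO, eB_eB]

theorem cj_tor (h : F.IsW1 x) (ht : t ≠ 0) : cj (F.tor t) x = t • x := by
  rw [F.cj_tor ht, h.w1_eq,
    show F.w0 x = 0 by rw [w0, mul_assoc _ x F.eA, h.rA, h.lB, h.mid]; simp,
    show F.w2 x = 0 from h.top, show F.wm2 x = 0 by rw [wm2, h.lB, zero_mul],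
    show F.wn x = 0 by rw [wn, mul_assoc _ x F.eA, h.rA, h.lB]; simp]
  simp

theorem mul (h : F.IsW1 x) (h' : F.IsW1 y) : F.eA * (x * y) = x * y ∧ x * y * F.eB = x * y := by
  have e : x * y = x * F.eO * y := by
    conv_lhs => rw [← mul_one x, ← F.sum_eq, mul_add, mul_add, h.rA, zero_add, add_mul, mul_assoc x F.eB, h'.lB,
      mul_zero, add_zero]
  refine ⟨?_, ?_⟩
  · rw [e, ← mul_assoc, ← mul_assoc, h.lA, mul_assoc x F.eO F.eO, eO_eO]
  · rw [e, mul_assoc (x * F.eO) y, ← h'.rB, ← mul_assoc (x * F.eO), mul_assoc x F.eO F.eO, eO_eO]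

theorem triple (h : F.IsW1 x) (h' : F.IsW1 y) (h'' : F.IsW1 z) : x * y * z = 0 := by
  rw [← (h.mul h').2, mul_assoc, h''.lB, mul_zero]

theorem not_opp_A (h : F.IsW1 x) : ¬ Opp F.A x := not_not.2 ⟨1, by rw [pow_one, h.Ax]⟩

theorem BxB (h : F.IsW1 x) : F.B * x * F.B = 0 := by
  calc F.B * x * F.B = F.B * F.eA * x * F.B := by rw [B_eA]
    _ = 0 := by rw [mul_assoc F.B F.eA x, h.lA, mul_assoc, mul_assoc x, eO_B, mul_zero, mul_zero]

theorem not_opp_B (h : F.IsW1 x) : ¬ Opp F.B x := not_not.2 ⟨2, by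
  rw [pow_two, ← mul_assoc, h.BxB, zero_mul]⟩

end IsW1

theorem w1_isW1 (x : Module.End k M) : F.IsW1 (F.w1 x) := by
  refine ⟨?_, ?_, ?_, ?_⟩ <;> simp [w1, add_mul, mul_add, mul_assoc]

namespace IsW0

theorem cO (h : F.IsW0 x) : Commute x F.eO := ((Commute.one_right x).sub_right h.cA).sub_right h.cB

theorem of_commute (hA : Commute x F.A) (hB : Commute x F.B) : F.IsW0 x :=
  ⟨hA.mul_right hB, hB.mul_right hA⟩

theorem w0_eq (h : F.IsW0 x) : F.w0 x = x := by
  rw [w0, ← h.cA.eq, ← h.cB.eq, ← h.cO.eq, mul_assoc, mul_assoc, mul_assoc, eA_eA, eB_eB, eO_eO, ← mul_add,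
    ← mul_add, F.sum_eq, mul_one]

theorem cj_tor (h : F.IsW0 x) (ht : t ≠ 0) : cj (F.tor t) x = x := by
  have hc : Commute x ((F.tor t : LinearMap.GeneralLinearGroup k M) : Module.End k M) := by
    rw [F.coe_tor ht]; exact ((h.cA.smul_right t).add_right h.cO).add_right (h.cB.smul_right _)
  rw [cj, ← hc.eq, mul_assoc, Units.mul_inv, mul_one]

end IsW0

theorem w0_isW0 (x : Module.End k M) : F.IsW0 (F.w0 x) := by
  constructor <;> show _ * _ = _ * _ <;> simp [w0, add_mul, mul_add, mul_assoc]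

theorem w1_sandwich (h : F.IsW1 z) (x : Module.End k M) : F.w1 (z * x * z) = z * F.wn x * z := by
  have lA' : ∀ w : Module.End k M, F.eA * (z * w) = z * (F.eO * w) := fun w => by rw [← mul_assoc, h.lA, mul_assoc]
  have rB' : ∀ w : Module.End k M, F.eO * (z * w) = z * (F.eB * w) := fun w => by rw [← mul_assoc, h.rB, mul_assoc]
  rw [w1, wn]
  simp only [mul_add, add_mul, mul_assoc, lA', rB']
  rw [← h.lA, ← h.rB, add_comm]

theorem w0_sandwich (h : F.IsW0 q) (x : Module.End k M) : F.w0 (q * x * q) = q * F.w0 x * q := by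
  have c : ∀ E : Module.End k M, Commute q E → E * (q * x * q) * E = q * (E * x * E) * q := fun E hE => by
    simp only [mul_assoc]
    rw [← mul_assoc E q, ← hE.eq, mul_assoc, hE.eq]
  rw [w0, w0, c _ h.cA, c _ h.cO, c _ h.cB]
  simp only [mul_add, add_mul]

variable (hk2 : ringChar k ≠ 2) (hk3 : Nat.card k ≠ 3)
include hk2

/-- The partner in the opposite weight of a class of weight one. -/
theorem partner (hz : Dmin X z) (h : F.IsW1 z) :
    Dmin X (z * F.B - F.B * z) ∧ F.symm.IsW1 (z * F.B - F.B * z) ∧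
      (z * F.B - F.B * z) * F.A - F.A * (z * F.B - F.B * z) = z := by
  have e : (z * F.B - F.B * z) * F.A - F.A * (z * F.B - F.B * z) = z := by
    rw [sub_mul, mul_sub, mul_assoc z, B_A, mul_assoc F.B, h.xA, mul_zero, sub_zero, ← mul_assoc, ← mul_assoc,
      h.Ax, zero_mul, zero_sub, sub_neg_eq_add, A_B]
    conv_rhs => rw [← one_mul z, ← F.sum_eq, add_mul, add_mul, h.lB, add_zero]
    rw [h.rB, add_comm]
  obtain ⟨h1, h2⟩ := unipotent_pair hk2 hz F.dminB fun ho => h.not_opp_B ho.symm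
  have hne : z * F.B - F.B * z ≠ 0 := fun h0 => hz.ne (by rw [← e, h0]; simp)
  refine ⟨(bracket_facts hz F.dminB h1 h2 hne).dmin, ⟨?_, ?_, ?_, ?_⟩, e⟩
  · simp [sub_mul, mul_assoc, ← h.rB]
  · simp [mul_sub, ← mul_assoc, h.lA]
    simp [mul_assoc]
  · simp [mul_sub, sub_mul, mul_assoc]
  · simp [mul_sub, sub_mul, mul_assoc, h.rA]
    rw [← mul_assoc, h.lB, zero_mul]

include hk3

theorem class_pure (hred : Reduced X) (hz : Dmin X z) (h : F.IsW1 z) (hx : SameClass X z x) : F.IsW1 x := by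
  refine ⟨kill_right hx h.rA, kill_left hx h.lB, ?_, ?_⟩
  · obtain ⟨hr, hrW, he⟩ := partner hk2 hz h
    obtain ⟨r', -, hr'⟩ := exists_bracket_eq hk2 hk3 hred hr F.dminA
      (fun ho => hrW.not_opp_B (ho.symm)) (by rw [he]; exact hz.ne) (w := x) (by rw [he]; exact hx)
    rw [← hr']
    simp [mul_sub, sub_mul, mul_assoc]
  · have hno : ¬ Opp F.B x := not_opp_of_class hk2 hk3 F.dminB hz h.not_opp_B (SameClass.refl F.dminB) hx
    have h0 := (unipotent_pair hk2 F.dminB hx.dmin hno).1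
    rw [eA, eB, mul_assoc F.A, mul_assoc F.A, ← mul_assoc (F.B * x), h0, zero_mul, mul_zero]

theorem class_pure0 (hq : Dmin X q) (hA : Commute q F.A) (hB : Commute q F.B) (hx : SameClass X q x) :
    Commute x F.A ∧ Commute x F.B := by
  have key : ∀ {c : Module.End k M}, Dmin X c → Commute q c → Commute x c := fun {c} hc hqc => by
    have hno : ¬ Opp q c := not_not.2 ⟨2, by
      rw [pow_two, mul_assoc, ← mul_assoc c, ← hqc.eq, mul_assoc q c, hc.inG.sq, mul_zero, mul_zero]⟩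
    exact sub_eq_zero.1 (bracket_zero_of_zero hk2 hk3 hq hc hno (sub_eq_zero.2 hqc.eq) hx (SameClass.refl hc))
  exact ⟨key F.dminA hA, key F.dminB hB⟩

omit hk3 in
theorem key_ne (hz : Dmin X z) (h : F.IsW1 z) (hr : Dmin X r) (hrW : F.symm.IsW1 r) (e1 : z * r * z = z) :
    z * r * F.A + F.A * r * z ≠ 0 := by
  intro h0
  have hrAr : r * F.A * r = 0 := (unipotent_pair hk2 hr F.dminA fun ho => hrW.not_opp_B ho.symm).1
  have s1 : z * r * F.A = 0 := by
    have := congrArg (z * r * ·) h0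
    simp only [mul_add, mul_zero] at this
    rwa [← mul_assoc (z * r), ← mul_assoc (z * r), e1,
      mul_assoc z r (F.A * r * z), ← mul_assoc r (F.A * r) z, ← mul_assoc r F.A r, hrAr, zero_mul, mul_zero,
      add_zero] at this
  have s2 : F.A * r * z = 0 := by rwa [s1, zero_add] at h0
  have l1 : F.eA * z = 0 := by
    calc F.eA * z = F.eA * (z * r * z) := by rw [e1]
      _ = z * r * F.A * F.B * z := by
        rw [← mul_assoc, ← mul_assoc, h.lA, mul_assoc z F.eO r, ← symm_eO, hrW.rB, symm_eB, ← mul_assoc,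
          mul_assoc (z * r) F.A, A_B]
      _ = 0 := by rw [s1, zero_mul, zero_mul]
  have l2 : z * F.eB = 0 := by
    calc z * F.eB = z * r * z * F.eB := by rw [e1]
      _ = z * F.B * (F.A * r * z) := by
        rw [mul_assoc (z * r), ← h.rB, ← mul_assoc (z * r), mul_assoc z r, ← symm_eO, ← hrW.lA, symm_eA,
          ← mul_assoc (z * F.B), ← mul_assoc (z * F.B), mul_assoc z F.B F.A, B_A, ← mul_assoc z F.eB r]
      _ = 0 := by rw [s2, mul_zero]
  refine hz.ne ?_
  rw [← one_mul z, ← F.sum_eq, add_mul, add_mul, l1, h.lB, h.rB, l2]; simp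

end Frame

/-- A coprime group fixing a class fixes an opposite one. -/
theorem exists_fixed_opp' [Finite M] {p : ℕ} [hp : Fact p.Prime] [CharP k p]
    {B : Subgroup (LinearMap.GeneralLinearGroup k M)} (hp5 : 5 ≤ p) (hk2 : ringChar k ≠ 2) (hk3 : Nat.card k ≠ 3)
    (ha : Dmin X a) (hb : Dmin X b) (ho : Opp a b)
    (hBX : B ≤ Subgroup.normalizer (X : Set (LinearMap.GeneralLinearGroup k M)))
    (hcop : (Nat.card B).Coprime p)
    (hBa : B ≤ Subgroup.normalizer ((cl X a : Subgroup (LinearMap.GeneralLinearGroup k M)) : Set _)) :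
    ∃ b', Dmin X b' ∧ Opp a b' ∧
      B ≤ Subgroup.normalizer ((cl X b' : Subgroup (LinearMap.GeneralLinearGroup k M)) : Set _) := by
  set U := lowSub X a ha.inG.sq
  have hUX : U ≤ X := fun u hu => ((mem_lowSub ha.inG.sq).1 hu).1
  have hBU : B ≤ Subgroup.normalizer (U : Set (LinearMap.GeneralLinearGroup k M)) := fun g hg =>
    Coprime.mem_normalizer_of_forall fun u hu => by
      obtain ⟨huX, hl⟩ := (mem_lowSub ha.inG.sq).1 hu
      obtain ⟨hr, hk⟩ := fix_flag (hBX hg) ha (hBa hg)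
      exact (mem_lowSub ha.inG.sq).2
        ⟨(Subgroup.mem_normalizer_iff.1 (hBX hg) _).1 huX, isLow_conj hr hk hl⟩
  have hUp : IsPGroup p U := isPGroup_lowSub (by omega) ha.inG.sq
  obtain ⟨n, hn⟩ := IsPGroup.iff_card.1 hUp
  obtain ⟨u, hu, hn⟩ := Coprime.exists_invariant_conj hBU (by rw [hn]; exact hcop.pow_right n)
    (Or.inr (Coprime.isSolvable_of_isPGroup hUp)) (P := cl X b)
    fun g hg => by
      have h1 := class_of_normalizer (hBX hg) ha (hBa hg) (SameClass.refl ha)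
      have h2 : Opp a (cj g b) := (opp_cj g ho).of_class hk2 hk3 (dmin_cj (hBX hg) ha) (dmin_cj (hBX hg) hb)
        (class_symm ha h1) (SameClass.refl (dmin_cj (hBX hg) hb))
      obtain ⟨w, hw, e⟩ := exists_low_conj hp5 hk2 hk3 ha hb ho (dmin_cj (hBX hg) hb) h2
      exact ⟨w, hw, by rw [conj_smul_eq, conj_smul_eq, e, cl_cj (hBX hg) hb]⟩
  have huN := Subgroup.le_normalizer (H := X) (hUX hu)
  refine ⟨cj u b, hb.conj (hUX hu), (opp_cj u ho).of_class hk2 hk3 (dmin_cj huN ha) (dmin_cj huN hb)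
    (class_symm ha (class_of_low ha hu)) (SameClass.refl (dmin_cj huN hb)), ?_⟩
  rwa [conj_smul_eq, cl_cj huN hb] at hn

namespace Frame

variable {F : Frame X a b} [Finite M] [Finite k] {p : ℕ} [hp : Fact p.Prime] [CharP k p]

theorem two_ne (hp5 : 5 ≤ p) : (2 : k) ≠ 0 := by exact_mod_cast natCast_ne (k := k) (p := p) 2 (by omega) (by omega)

theorem three_ne (hp5 : 5 ≤ p) : (3 : k) ≠ 0 := by exact_mod_cast natCast_ne (k := k) (p := p) 3 (by omega) (by omega)

variable (hp5 : 5 ≤ p) (hk2 : ringChar k ≠ 2) (hk3 : Nat.card k ≠ 3)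
  (hN : ∀ t : k, t ≠ 0 → F.tor t ∈ Subgroup.normalizer (Y : Set (LinearMap.GeneralLinearGroup k M)))
include hp5 hk2 hk3 hN

/-- An opposite with an invariant class. -/
theorem exists_opp_tor (hz : Dmin Y z) (he : Dmin Y e) (ho : Opp z e)
    (hcl : ∀ t : k, t ≠ 0 → cj (F.tor t) z ∈ classSpace hz) :
    ∃ (e' : Module.End k M) (he' : Dmin Y e'), Opp z e' ∧ z * e' * z ≠ 0 ∧
      F.w0 e' ∈ classSpace he' ∧ F.w1 e' ∈ classSpace he' ∧ F.wn e' ∈ classSpace he' := by
  obtain ⟨e', he', ho', hB⟩ := exists_fixed_opp' hp5 hk2 hk3 hz he ho (B := F.torHom.range)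
    (by rintro _ ⟨t, rfl⟩; exact hN t t.ne_zero) F.torHom_coprime (by
      rintro _ ⟨t, rfl⟩
      refine mem_normalizer_cl (hN t t.ne_zero) hz ((hcl t t.ne_zero).resolve_left ?_)
      exact fun h0 => hz.ne ((cj_eq_zero _ _).1 h0))
  refine ⟨e', he', ho', fun h0 => ho' ⟨2, by rw [pow_two, ← mul_assoc, h0, zero_mul]⟩,
    F.comp_mem (two_ne hp5) (three_ne hp5) fun t ht => cj_classSpace (hN t ht)
      (hB ⟨Units.mk0 t ht, rfl⟩) (Or.inr (SameClass.refl he'))⟩

/-- A normalised opposite of weight `-1` to a class of weight `1`. -/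
theorem exists_opp_one (hYX : Y ≤ X) (hred : Reduced X) (hz : Dmin X z) (hzY : InG Y z) (h : F.IsW1 z)
    (he : Dmin Y e) (ho : Opp z e) :
    ∃ r, InG Y r ∧ Dmin X r ∧ F.symm.IsW1 r ∧ z * r * z = z ∧ r * z * r = r := by
  have hzY' := Dmin.of_sub hYX hz hzY
  obtain ⟨e', he', -, hne, -, -, hn⟩ := exists_opp_tor hp5 hk2 hk3 hN hzY' he ho fun t ht => by
    rw [h.cj_tor ht]; exact Submodule.smul_mem _ t (Or.inr (SameClass.refl hzY'))
  have hw : F.IsW1 (z * e' * z) := by
    rcases flip hk2 hk3 hz (Dmin.up hYX hz hzY he') with h0 | h0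
    · exact absurd h0 hne
    · exact class_pure hk2 hk3 hred hz h h0
  have heq : z * e' * z = z * F.wn e' * z := by rw [← w1_sandwich h, hw.w1_eq]
  rw [heq] at hne
  have hy : SameClass Y e' (F.wn e') := hn.resolve_left fun h0 => hne (by rw [h0]; simp)
  have ho' : Opp z (F.wn e') := fun hnil => hne (unipotent_pair hk2 hzY' hy.dmin (not_not.2 hnil)).1
  obtain ⟨-, r, -, hr, h1, h2, -, -⟩ := exists_swap hk2 hk3 hzY' hy.dmin ho' (SameClass.refl hzY')
  refine ⟨r, hr.dmin.inG, Dmin.up hYX hz hzY hr.dmin, ?_, h1, h2⟩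
  refine class_pure hk2 hk3 hred (Dmin.up hYX hz hzY hy.dmin) ?_ (SameClass.up hYX hz hzY hr)
  rw [← symm_w1]; exact w1_isW1 _

/-- An opposite of weight `0` to a class of weight `0`. -/
theorem exists_opp_zero (hYX : Y ≤ X) (hq : Dmin X q) (hqY : InG Y q) (hA : Commute q F.A)
    (hB : Commute q F.B) (he : Dmin Y e) (ho : Opp q e) :
    ∃ r, InG Y r ∧ Dmin X r ∧ F.IsW0 r ∧ q * r * q ≠ 0 := by
  have hqY' := Dmin.of_sub hYX hq hqY
  have h := IsW0.of_commute hA hB
  obtain ⟨e', he', -, hne, hn, -, -⟩ := exists_opp_tor hp5 hk2 hk3 hN hqY' he ho fun t ht => by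
    rw [h.cj_tor ht]; exact Or.inr (SameClass.refl hqY')
  have hw : F.IsW0 (q * e' * q) := by
    rcases flip hk2 hk3 hq (Dmin.up hYX hq hqY he') with h0 | h0
    · exact absurd h0 hne
    · obtain ⟨c1, c2⟩ := class_pure0 hk2 hk3 hq hA hB h0
      exact IsW0.of_commute c1 c2
  have heq : q * e' * q = q * F.w0 e' * q := by rw [← w0_sandwich h, hw.w0_eq]
  rw [heq] at hne
  have hy : SameClass Y e' (F.w0 e') := hn.resolve_left fun h0 => hne (by rw [h0]; simp)
  exact ⟨_, hy.dmin.inG, Dmin.up hYX hq hqY hy.dmin, w0_isW0 _, hne⟩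

end Frame

end Cfsg.Agent.EquivZJ
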